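import Groth.Agent.Approx.FP
import Mathlib.AlgebraicGeometry.Morphisms.Finite

/-!
# A limit integral over the base is eventually finite over it
-/

set_option autoImplicit false
set_option backward.isDefEq.respectTransparency false
set_option backward.isDefEq.respectTransparency.types false

universe u

open CategoryTheory CategoryTheory.Limits AlgebraicGeometry TopologicalSpace Opposite

namespace Groth.Agent.Approx

/-- An integral extension whose generators become integral over the base. -/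
theorem isIntegral_comp_of_generators {R A B : Type u} [CommRing R] [CommRing A] [CommRing B]
    (φ : R →+* A) (ψ : A →+* B) (hψ : ψ.IsIntegral) (G : Set A) (hG : Subring.closure (Set.range φ ∪ G) = ⊤)
    (h : ∀ g ∈ G, (ψ.comp φ).IsIntegralElem (ψ g)) : (ψ.comp φ).IsIntegral := by
  letI := φ.toAlgebra
  letI := ψ.toAlgebra
  letI := (ψ.comp φ).toAlgebra
  haveI : IsScalarTower R A B := IsScalarTower.of_algebraMap_eq fun _ => rfl
  let T := integralClosure R B
  have him : ∀ a : A, ψ a ∈ T := by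
    intro a
    have : a ∈ Subring.closure (Set.range φ ∪ G) := hG ▸ Subring.mem_top a
    refine (Subring.closure_le (t := T.toSubring.comap ψ)).2 ?_ this
    rintro x (⟨r, rfl⟩ | hx)
    · exact T.algebraMap_mem r
    · exact h x hx
  intro z
  letI : Algebra A T := (ψ.codRestrict T.toSubring him).toAlgebra
  haveI : IsScalarTower A T B := IsScalarTower.of_algebraMap_eq fun _ => rfl
  have hz : IsIntegral T z := IsIntegral.tower_top (hψ z : IsIntegral A z)
  exact isIntegral_trans z hz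

variable {I : Type u} [SmallCategory I] [IsCofiltered I] {S : Scheme.{u}} (D : I ⥤ Scheme.{u})
  (t : D ⟶ (Functor.const I).obj S) (c : Cone D) [∀ {i j : I} (f : i ⟶ j), IsFinite (D.map f)]
  [∀ i, CompactSpace (D.obj i)] [∀ i, QuasiSeparatedSpace (D.obj i)]

/-- The structure morphisms of a system of finite type schemes with finite transitions and integral limit are
eventually finite. -/
theorem exists_isFinite_stage (hc : IsLimit c) [CompactSpace S] [QuasiSeparatedSpace S]
    [∀ i, LocallyOfFiniteType (t.app i)] (i0 : I) [IsIntegralHom (c.π.app i0 ≫ t.app i0)] :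
    ∃ i₁ : I, ∀ (i : I) (_ : i ⟶ i₁), IsFinite (t.app i) := by
  classical
  haveI : ∀ (i j : I) (a : i ⟶ j), IsAffineHom (D.map a) := fun i j a => inferInstance
  have htw : ∀ {i j : I} (a : i ⟶ j), D.map a ≫ t.app j = t.app i := fun a =>
    (t.naturality a).trans (Category.comp_id _)
  obtain ⟨i1, hi1⟩ := Groth.Agent.S9200.result S D t c hc i0
  haveI := hi1 i1 (𝟙 i1)
  have hint : ∀ i, IsIntegralHom (c.π.app i ≫ t.app i) := fun i => by
    obtain ⟨k, a, b, -⟩ := IsCofilteredOrEmpty.cone_objs i i0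
    have h1 : c.π.app i ≫ t.app i = c.π.app i0 ≫ t.app i0 := by
      rw [← c.w a, ← c.w b, Category.assoc, Category.assoc, htw, htw]
    rw [h1]; infer_instance
  haveI := hint i1
  obtain ⟨F, hF⟩ := isCompact_univ.elim_finite_subcover (fun V : S.affineOpens => (V.1 : Set S))
    (fun V => V.1.2) fun x _ => by
      obtain ⟨_, ⟨V, hV, rfl⟩, hxV, -⟩ := S.isBasis_affineOpens.exists_subset_of_mem_open
        (Set.mem_univ x) isOpen_univ
      exact Set.mem_iUnion.2 ⟨⟨V, hV⟩, hxV⟩
  have hgen : ∀ U : F, ∃ G : Finset Γ(D.obj i1, t.app i1 ⁻¹ᵁ U.1.1),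
      Subring.closure (Set.range ((t.app i1).app U.1.1).hom ∪ (G : Set Γ(D.obj i1, t.app i1 ⁻¹ᵁ U.1.1))) = ⊤ := by
    intro U
    have hft := (t.app i1).finiteType_appLE U.1.2 (U.1.2.preimage (t.app i1)) le_rfl
    rw [Scheme.Hom.appLE_eq_app] at hft
    exact exists_closure_of_finiteType _ hft
  choose G hG using hgen
  have hzero : ∀ (U : F) (x : G U), ∃ (j : I) (a : j ⟶ i1) (P : Polynomial Γ(S, U.1.1)), P.Monic ∧
      ((D.map a).app (t.app i1 ⁻¹ᵁ U.1.1)).hom (P.eval₂ ((t.app i1).app U.1.1).hom x.1) = 0 := by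
    intro U x
    obtain ⟨P, hP, hP0⟩ := (c.π.app i1 ≫ t.app i1).isIntegral_app U.1.1 U.1.2
      (((c.π.app i1).app (t.app i1 ⁻¹ᵁ U.1.1)).hom x.1)
    have h0 : ((c.π.app i1).app (t.app i1 ⁻¹ᵁ U.1.1)).hom (P.eval₂ ((t.app i1).app U.1.1).hom x.1) = 0 := by
      rw [Polynomial.hom_eval₂]
      exact hP0
    obtain ⟨j, a, ha⟩ := exists_app_map_eq_zero_of_isLimit D c hc (U.1.2.preimage (t.app i1)).isCompact _ h0
    exact ⟨j, a, P, hP, ha⟩
  choose jx ax Px hPx hax using hzero
  obtain ⟨i2, a2, b2, hb2⟩ := IsCofiltered.wideCospan (fun p : Σ U : F, {x // x ∈ G U} => ax p.1 p.2)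
  haveI : IsAffineHom (D.map a2 ≫ t.app i1) := inferInstance
  have hI2 : IsIntegralHom (D.map a2 ≫ t.app i1) := by
    refine IsZariskiLocalAtTarget.of_iSup_eq_top (P := @IsIntegralHom) (fun U : F => U.1.1) ?_ fun U => ?_
    · refine top_unique fun x _ => ?_
      obtain ⟨V, hV, hx⟩ := Set.mem_iUnion₂.1 (hF (Set.mem_univ x))
      exact Opens.mem_iSup.2 ⟨⟨V, hV⟩, hx⟩
    haveI : IsAffine (U.1.1 : Scheme.{u}) := U.1.2
    rw [HasAffineProperty.iff_of_isAffine (P := @IsIntegralHom)]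
    refine ⟨(U.1.2.preimage (D.map a2 ≫ t.app i1) :), ?_⟩
    have happ : ((D.map a2 ≫ t.app i1).app U.1.1).hom.IsIntegral := by
      rw [Scheme.Hom.comp_app, CommRingCat.hom_comp]
      refine isIntegral_comp_of_generators _ _
        ((D.map a2).isIntegral_app _ (U.1.2.preimage (t.app i1))) _ (hG U) fun x hx => ?_
      refine ⟨Px U ⟨x, hx⟩, hPx U ⟨x, hx⟩, ?_⟩
      rw [← Polynomial.hom_eval₂]
      have e : D.map a2 = D.map (b2 ⟨U, ⟨x, hx⟩⟩) ≫ D.map (ax U ⟨x, hx⟩) := by
        rw [← D.map_comp, hb2 ⟨U, ⟨x, hx⟩⟩]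
      have key : ∀ (g : D.obj i2 ⟶ D.obj i1), g = D.map (b2 ⟨U, ⟨x, hx⟩⟩) ≫ D.map (ax U ⟨x, hx⟩) →
          (g.app (t.app i1 ⁻¹ᵁ U.1.1)).hom ((Px U ⟨x, hx⟩).eval₂ ((t.app i1).app U.1.1).hom x) = 0 := by
        rintro g rfl
        rw [Scheme.Hom.comp_app, CommRingCat.hom_comp, RingHom.comp_apply, hax U ⟨x, hx⟩, map_zero]
      exact key _ e
    show (((D.map a2 ≫ t.app i1) ∣_ U.1.1).app ⊤).hom.IsIntegral
    have e3 : ∀ W : S.Opens, W = U.1.1 → ((D.map a2 ≫ t.app i1).app W).hom.IsIntegral := by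
      rintro W rfl; exact happ
    rw [morphismRestrict_app, CommRingCat.hom_comp]
    refine RingHom.IsIntegral.trans _ _ (e3 _ U.1.1.ι_image_top) ?_
    exact (RingHom.Finite.of_surjective _ (ConcreteCategory.bijective_of_isIso _).2).to_isIntegral
  refine ⟨i2, fun i a => ?_⟩
  haveI := hI2
  have e : t.app i = D.map a ≫ (D.map a2 ≫ t.app i1) := by rw [htw, htw]
  haveI : IsFinite (D.map a2 ≫ t.app i1) := IsFinite.iff_isIntegralHom_and_locallyOfFiniteType _ |>.2
    ⟨hI2, inferInstance⟩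
  rw [e]
  infer_instance

end Groth.Agent.Approx
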