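import Groth.Agent.Approx.FP
import Groth.Agent.Approx.FiniteStage
import Groth.Agent.S0021
import Mathlib.AlgebraicGeometry.Morphisms.Flat
import Mathlib.AlgebraicGeometry.Morphisms.Integral

/-!
# The image of an affine scheme under an integral surjection is affine
-/

set_option autoImplicit false
set_option backward.isDefEq.respectTransparency false
set_option backward.isDefEq.respectTransparency.types false

universe u

open CategoryTheory CategoryTheory.Limits AlgebraicGeometry TopologicalSpace Opposite Polynomial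

namespace Groth.Agent.Approx

/-- The two maps to a pushout of rings generate it. -/
theorem closure_of_isPushout {R A B P : CommRingCat.{u}} {f : R ⟶ A} {g : R ⟶ B} {i₁ : A ⟶ P} {i₂ : B ⟶ P}
    (h : IsPushout f g i₁ i₂) : Subring.closure (Set.range i₁.hom ∪ Set.range i₂.hom) = ⊤ := by
  let T := Subring.closure (Set.range i₁.hom ∪ Set.range i₂.hom)
  let j₁ : A ⟶ CommRingCat.of T :=
    CommRingCat.ofHom (i₁.hom.codRestrict T fun x => Subring.subset_closure (Or.inl ⟨x, rfl⟩))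
  let j₂ : B ⟶ CommRingCat.of T :=
    CommRingCat.ofHom (i₂.hom.codRestrict T fun x => Subring.subset_closure (Or.inr ⟨x, rfl⟩))
  let ι : CommRingCat.of T ⟶ P := CommRingCat.ofHom T.subtype
  haveI : Mono ι := ConcreteCategory.mono_of_injective _ Subtype.val_injective
  have hw : f ≫ j₁ = g ≫ j₂ := by
    rw [← cancel_mono ι, Category.assoc, Category.assoc]
    exact h.w
  have e : h.desc j₁ j₂ hw ≫ ι = 𝟙 P := by
    refine h.hom_ext ?_ ?_
    · rw [← Category.assoc, h.inl_desc, Category.comp_id]; rfl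
    · rw [← Category.assoc, h.inr_desc, Category.comp_id]; rfl
  refine top_unique fun x _ => ?_
  have hx : ((h.desc j₁ j₂ hw).hom x).1 = x := congrArg (fun φ : P ⟶ P => φ.hom x) e
  exact hx ▸ ((h.desc j₁ j₂ hw).hom x).2

/-- Integral elements after base change along a ring map, with coefficients that lift. -/
theorem isIntegralElem_of_lifts {R R' A : Type u} [CommRing R] [CommRing R'] [CommRing A] (ρ : R →+* R')
    (ψ : R' →+* A) (a : A) (P : Polynomial R') (hP : P.Monic) (h0 : P.eval₂ ψ a = 0)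
    (hl : P ∈ Polynomial.lifts ρ) : (ψ.comp ρ).IsIntegralElem a := by
  cases subsingleton_or_nontrivial A
  · exact ⟨1, monic_one, Subsingleton.elim _ _⟩
  haveI : Nontrivial R' := ψ.domain_nontrivial
  obtain ⟨Q, hQ, -, hQm⟩ := lifts_and_degree_eq_and_monic hl hP
  exact ⟨Q, hQm, by rw [← eval₂_map, hQ, h0]⟩

/-- The image in a base change is integral when the generators of the finite type algebra are. -/
theorem isIntegralHom_image_baseChange {Y X0 B B' : Scheme.{u}} (g : X0 ⟶ B) [IsAffineHom g]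
    (τ : B' ⟶ B) [IsAffineHom τ] (a : Y ⟶ X0) (b : Y ⟶ B') (hab : a ≫ g = b ≫ τ)
    [QuasiCompact (pullback.lift a b hab)] {ι : Type u} (U : ι → B.affineOpens) (hcov : (⨆ i, (U i).1) = ⊤)
    (G : ∀ i, Set Γ(X0, g ⁻¹ᵁ (U i).1))
    (hG : ∀ i, Subring.closure (Set.range (g.app (U i).1).hom ∪ G i) = ⊤)
    (hint : ∀ i, ∀ (e : a ⁻¹ᵁ (g ⁻¹ᵁ (U i).1) ≤ b ⁻¹ᵁ (τ ⁻¹ᵁ (U i).1)), ∀ x ∈ G i,
      (b.appLE (τ ⁻¹ᵁ (U i).1) (a ⁻¹ᵁ (g ⁻¹ᵁ (U i).1)) e).hom.IsIntegralElem ((a.app _).hom x)) :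
    IsIntegralHom ((pullback.lift a b hab).ker.subschemeι ≫ pullback.snd g τ) := by
  let l := pullback.lift a b hab
  haveI : IsAffineHom (pullback.snd g τ) := MorphismProperty.pullback_snd _ _ inferInstance
  refine IsZariskiLocalAtTarget.of_iSup_eq_top (P := @IsIntegralHom) (fun i => τ ⁻¹ᵁ (U i).1) ?_ fun i => ?_
  · rw [← Scheme.Hom.preimage_iSup, hcov]; rfl
  have hUT : IsAffineOpen (τ ⁻¹ᵁ (U i).1) := (U i).2.preimage τ
  have hUX : IsAffineOpen (g ⁻¹ᵁ (U i).1) := (U i).2.preimage g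
  haveI : IsAffine (τ ⁻¹ᵁ (U i).1 : Scheme.{u}) := hUT
  rw [HasAffineProperty.iff_of_isAffine (P := @IsIntegralHom)]
  refine ⟨(hUT.preimage (l.ker.subschemeι ≫ pullback.snd g τ) :), ?_⟩
  have hV : IsAffineOpen (pullback.snd g τ ⁻¹ᵁ (τ ⁻¹ᵁ (U i).1)) := hUT.preimage _
  have hUY : pullback.snd g τ ⁻¹ᵁ (τ ⁻¹ᵁ (U i).1) =
      pullback.fst g τ ⁻¹ᵁ (g ⁻¹ᵁ (U i).1) ⊓ pullback.snd g τ ⁻¹ᵁ (τ ⁻¹ᵁ (U i).1) := by
    rw [← Scheme.Hom.comp_preimage, ← Scheme.Hom.comp_preimage, pullback.condition, inf_idem]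
  have hpo := (isIso_pushoutSection_iff (IsPullback.of_hasPullback g τ) le_rfl le_rfl hUY).1
    (isIso_pushoutSection_of_isAffineOpen _ _ _ hUY (U i).2 hUT hUX)
  have hgen := closure_of_isPushout hpo
  have happ : ((l.ker.subschemeι ≫ pullback.snd g τ).app (τ ⁻¹ᵁ (U i).1)).hom.IsIntegral := by
    rw [Scheme.Hom.comp_app, CommRingCat.hom_comp]
    have hs := l.ker.subschemeι.app_surjective _ hV
    refine isIntegral_comp_of_generators _ _ (RingHom.Finite.of_surjective _ hs).to_isIntegral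
      (((pullback.fst g τ).appLE (g ⁻¹ᵁ (U i).1) (pullback.snd g τ ⁻¹ᵁ (τ ⁻¹ᵁ (U i).1))
        (hUY.le.trans inf_le_left)).hom '' G i) (top_unique ?_) ?_
    · rw [← hgen, Subring.closure_le]
      rintro y (⟨x, rfl⟩ | ⟨x, rfl⟩)
      · have hx : x ∈ Subring.closure (Set.range (g.app (U i).1).hom ∪ G i) := hG i ▸ Subring.mem_top x
        refine Subring.mem_comap.1 ((Subring.closure_le (t := Subring.comap (((pullback.fst g τ).appLE
          (g ⁻¹ᵁ (U i).1) (pullback.snd g τ ⁻¹ᵁ (τ ⁻¹ᵁ (U i).1)) (hUY.le.trans inf_le_left)).hom) _)).2 ?_ hx)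
        rintro z (⟨r, rfl⟩ | hz)
        · refine Subring.subset_closure (Or.inl ⟨(τ.app (U i).1).hom r, ?_⟩)
          rw [← Scheme.Hom.appLE_eq_app, ← Scheme.Hom.appLE_eq_app, ← Scheme.Hom.appLE_eq_app,
            appLE_appLE_of_comp (pullback.snd g τ) τ (pullback.fst g τ ≫ g) pullback.condition.symm le_rfl le_rfl
              (by rw [pullback.condition]; exact le_rfl),
            appLE_appLE_of_comp (pullback.fst g τ) g (pullback.fst g τ ≫ g) rfl le_rfl (hUY.le.trans inf_le_left)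
              (by rw [pullback.condition]; exact le_rfl)]
        · exact Subring.subset_closure (Or.inr ⟨z, hz, rfl⟩)
      · exact Subring.subset_closure (Or.inl ⟨x, by rw [← Scheme.Hom.appLE_eq_app]⟩)
    · rintro _ ⟨x, hx, rfl⟩
      have hl : l ≫ pullback.fst g τ = a := pullback.lift_fst _ _ _
      have hr : l ≫ pullback.snd g τ = b := pullback.lift_snd _ _ _
      have eY : a ⁻¹ᵁ (g ⁻¹ᵁ (U i).1) ≤ b ⁻¹ᵁ (τ ⁻¹ᵁ (U i).1) := by
        rw [← Scheme.Hom.comp_preimage, ← Scheme.Hom.comp_preimage, hab]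
      obtain ⟨Q, hQ, hQ0⟩ := hint i eY x hx
      refine ⟨Q, hQ, ?_⟩
      have hinj := l.toImage_app_injective ⟨_, hV⟩
      refine hinj ?_
      rw [map_zero]
      rw [← Polynomial.hom_eval₂]
      show ((l.ker.subschemeι.app (pullback.snd g τ ⁻¹ᵁ (τ ⁻¹ᵁ (U i).1)) ≫ l.toImage.app _).hom _) = 0
      rw [← Scheme.Hom.comp_app]
      have key : ∀ (k : Y ⟶ pullback g τ), l = k →
          (k.app (pullback.snd g τ ⁻¹ᵁ (τ ⁻¹ᵁ (U i).1))).hom
            (Q.eval₂ ((pullback.snd g τ).app (τ ⁻¹ᵁ (U i).1)).hom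
              (((pullback.fst g τ).appLE (g ⁻¹ᵁ (U i).1) (pullback.snd g τ ⁻¹ᵁ (τ ⁻¹ᵁ (U i).1))
                (hUY.le.trans inf_le_left)).hom x)) = 0 := by
        rintro k rfl
        have hle : l ⁻¹ᵁ (pullback.snd g τ ⁻¹ᵁ (τ ⁻¹ᵁ (U i).1)) = a ⁻¹ᵁ (g ⁻¹ᵁ (U i).1) := by
          rw [← Scheme.Hom.comp_preimage, hr, ← Scheme.Hom.comp_preimage, ← Scheme.Hom.comp_preimage, hab]
        have hi : Function.Injective (Y.presheaf.map (homOfLE hle.ge).op).hom := by
          haveI : IsIso (homOfLE hle.ge) := ⟨homOfLE hle.le, Subsingleton.elim _ _, Subsingleton.elim _ _⟩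
          exact (ConcreteCategory.bijective_of_isIso _).1
        refine hi ?_
        rw [map_zero, ← RingHom.comp_apply, ← CommRingCat.hom_comp, Polynomial.hom_eval₂]
        have e1 : (((pullback.snd g τ).app (τ ⁻¹ᵁ (U i).1)) ≫ (l.app _ ≫ Y.presheaf.map (homOfLE hle.ge).op)) =
            b.appLE (τ ⁻¹ᵁ (U i).1) (a ⁻¹ᵁ (g ⁻¹ᵁ (U i).1)) eY := by
          rw [← Scheme.Hom.appLE, ← Scheme.Hom.appLE_eq_app, Scheme.Hom.appLE_comp_appLE]
          simp only [hr]
        rw [← CommRingCat.hom_comp, e1]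
        have e2 : ((l.app _ ≫ Y.presheaf.map (homOfLE hle.ge).op)).hom
            (((pullback.fst g τ).appLE (g ⁻¹ᵁ (U i).1) (pullback.snd g τ ⁻¹ᵁ (τ ⁻¹ᵁ (U i).1))
                (hUY.le.trans inf_le_left)).hom x) = (a.app (g ⁻¹ᵁ (U i).1)).hom x := by
          rw [← Scheme.Hom.appLE, ← Scheme.Hom.appLE_eq_app]
          exact appLE_appLE_of_comp l (pullback.fst g τ) a hl _ _ le_rfl x
        rw [e2]
        exact hQ0
      exact key _ l.toImage_imageι.symm
  show (((l.ker.subschemeι ≫ pullback.snd g τ) ∣_ (τ ⁻¹ᵁ (U i).1)).app ⊤).hom.IsIntegral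
  have e3 : ∀ W : B'.Opens, W = τ ⁻¹ᵁ (U i).1 →
      ((l.ker.subschemeι ≫ pullback.snd g τ).app W).hom.IsIntegral := by
    rintro W rfl; exact happ
  rw [morphismRestrict_app, CommRingCat.hom_comp]
  refine RingHom.IsIntegral.trans _ _ (e3 _ (τ ⁻¹ᵁ (U i).1).ι_image_top) ?_
  exact (RingHom.Finite.of_surjective _ (ConcreteCategory.bijective_of_isIso _).2).to_isIntegral

/-- Integral equations of sections on the preimage of an affine open. -/
theorem exists_monic_of_integral {X S : Scheme.{u}} (f : X ⟶ S) [IsIntegralHom f] {V : S.Opens}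
    (hV : IsAffineOpen V) {W : X.Opens} (h : W = f ⁻¹ᵁ V) (ξ : Γ(X, W)) :
    (f.appLE V W h.le).hom.IsIntegralElem ξ := by
  subst h
  rw [Scheme.Hom.appLE_eq_app]
  exact f.isIntegral_app V hV ξ

/-- Integral elements over the limit are integral over some stage. -/
theorem exists_isIntegralElem_stage {I : Type u} [SmallCategory I] [IsCofiltered I] {D : I ⥤ Scheme.{u}}
    {c : Cone D} (hc : IsLimit c) [∀ {i j} (f : i ⟶ j), IsAffineHom (D.map f)] [∀ i, CompactSpace (D.obj i)]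
    [∀ i, QuasiSeparatedSpace (D.obj i)] {i0 : I} {U : (D.obj i0).Opens} (hU : IsCompact (U : Set (D.obj i0)))
    {X : Scheme.{u}} (f : X ⟶ c.pt) {W : X.Opens} (eW : W ≤ f ⁻¹ᵁ (c.π.app i0 ⁻¹ᵁ U)) (s : Finset Γ(X, W))
    (hint : ∀ x ∈ s, (f.appLE _ W eW).hom.IsIntegralElem x) :
    ∃ (j : I) (g : j ⟶ i0), ∀ (j' : I) (g' : j' ⟶ j)
      (e : W ≤ (f ≫ c.π.app j') ⁻¹ᵁ (D.map (g' ≫ g) ⁻¹ᵁ U)),
      ∀ x ∈ s, ((f ≫ c.π.app j').appLE _ W e).hom.IsIntegralElem x := by
  classical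
  choose P hPm hP0 using hint
  obtain ⟨j, g, h⟩ := exists_finset_stage hc hU (Finset.univ.biUnion fun x : s => (P x.1 x.2).coeffs)
  refine ⟨j, g, fun j' g' e x hx => ?_⟩
  have e' : c.π.app i0 ⁻¹ᵁ U ≤ c.π.app j' ⁻¹ᵁ (D.map (g' ≫ g) ⁻¹ᵁ U) := by
    rw [← Scheme.Hom.comp_preimage, c.w]
  have hl : P x hx ∈ Polynomial.lifts ((c.π.app j').appLE (D.map (g' ≫ g) ⁻¹ᵁ U) _ e').hom := by
    refine (lifts_iff_coeff_lifts _).2 fun n => ?_
    by_cases hn : (P x hx).coeff n = 0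
    · exact ⟨0, by rw [map_zero, hn]⟩
    · exact h j' g' e' _ (Finset.mem_biUnion.2 ⟨⟨x, hx⟩, Finset.mem_univ _, Polynomial.coeff_mem_coeffs hn⟩)
  have h' := isIntegralElem_of_lifts _ _ _ _ (hPm x hx) (hP0 x hx) hl
  rw [← CommRingCat.hom_comp, Scheme.Hom.appLE_comp_appLE] at h'
  exact h'

namespace Setup

variable {X S : Scheme.{u}} {f : X ⟶ S} (σ : Setup f)

/-- An affine model of an affine source over a separated model of a separated target. -/
theorem exists_affine_separated_stage [IsAffine X] [CompactSpace S] [S.IsSeparated] :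
    ∃ p : σ.Pair, IsAffine (alg σ.gX p.1.2).spec ∧ Scheme.IsSeparated (alg σ.gS p.1.1).spec := by
  obtain ⟨hS⟩ := nonempty_isLimit_sch σ.gS
  obtain ⟨hX⟩ := σ.nonempty_isLimit_cX
  haveI : ∀ i, CompactSpace ((sysSch σ.gS).obj i) := fun i => compactSpace_spec σ.gS i.unop
  haveI : ∀ i, QuasiSeparatedSpace ((sysSch σ.gS).obj i) := fun i => quasiSeparatedSpace_spec σ.gS i.unop
  haveI : ∀ i, CompactSpace (σ.DX.obj i) := fun i => compactSpace_spec σ.gX i.unop.1.2
  haveI : ∀ i, QuasiSeparatedSpace (σ.DX.obj i) := fun i => quasiSeparatedSpace_spec σ.gX i.unop.1.2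
  haveI : ∀ (i j : (Idx σ.gS)ᵒᵖ) (a : i ⟶ j), IsAffineHom ((sysSch σ.gS).map a) := fun i j a =>
    isAffineHom_trans σ.gS _
  haveI : ∀ {i j : σ.Pairᵒᵖ} (a : i ⟶ j), IsAffineHom (σ.DX.map a) := fun a => isAffineHom_trans σ.gX _
  haveI : IsAffine σ.cX.pt := ‹IsAffine X›
  obtain ⟨⟨p1⟩, hp1⟩ := Scheme.exists_isAffine_of_isLimit σ.DX σ.cX hX
  obtain ⟨N0⟩ : Nonempty (Idx σ.gS) := inferInstance
  let T : sysSch σ.gS ⟶ (Functor.const (Idx σ.gS)ᵒᵖ).obj (Spec (CommRingCat.of (ULift.{u} ℤ))) :=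
    { app := fun i => specULiftZIsTerminal.from _
      naturality := fun i j a => specULiftZIsTerminal.hom_ext _ _ }
  haveI : IsSeparated ((coneSch σ.gS).π.app (op N0) ≫ T.app (op N0)) := by
    haveI : Scheme.IsSeparated (coneSch σ.gS).pt := ‹S.IsSeparated›
    haveI : IsSeparated (((coneSch σ.gS).π.app (op N0) ≫ T.app (op N0)) ≫ terminal.from _) := by
      rw [terminalIsTerminal.hom_ext (_ ≫ terminal.from _) (terminal.from (coneSch σ.gS).pt)]
      exact (Scheme.isSeparated_iff _).1 ‹_›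
    exact IsSeparated.of_comp _ (terminal.from _)
  obtain ⟨⟨N1⟩, hN1⟩ := Groth.Agent.S9199.result _ (sysSch σ.gS) T (coneSch σ.gS) hS (op N0)
  obtain ⟨p2, hp2, -⟩ := σ.exists_pair N1 p1.1.2
  obtain ⟨p, h1, h2⟩ := exists_ge_ge p1 p2
  -- at the stage `p` the source is affine and the target separated
  haveI : IsAffine (alg σ.gX p1.1.2).spec := hp1
  haveI : IsAffine (alg σ.gX p.1.2).spec := isAffine_of_isAffineHom (trans σ.gX h1.2)
  haveI : Scheme.IsSeparated (alg σ.gS p.1.1).spec := by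
    have h := hN1 (op p.1.1) (homOfLE (show N1 ≤ p.1.1 from hp2.ge.trans h2.1)).op
    haveI : IsSeparated (T.app (op p.1.1)) := h
    haveI : IsSeparated (terminal.from (((Functor.const (Idx σ.gS)ᵒᵖ).obj
        (Spec (CommRingCat.of (ULift.{u} ℤ)))).obj (op p.1.1))) :=
      (inferInstance : Scheme.IsSeparated (Spec (CommRingCat.of (ULift.{u} ℤ)))).isSeparated_terminal_from
    constructor
    rw [terminalIsTerminal.hom_ext (terminal.from (alg σ.gS p.1.1).spec) (T.app (op p.1.1) ≫ terminal.from _)]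
    exact (inferInstance : IsSeparated (T.app (op p.1.1) ≫ terminal.from _))
  exact ⟨p, inferInstance, inferInstance⟩

set_option maxHeartbeats 800000 in
/-- The image of an integral morphism is integral over some stage. -/
theorem exists_integral_image [IsIntegralHom f] (p : σ.Pair) [IsAffineHom (σ.hom p)] :
    ∃ (q : Idx σ.gS) (h : p.1.1 ≤ q)
      (hab : proj σ.gX p.1.2 ≫ σ.hom p = (f ≫ proj σ.gS q) ≫ trans σ.gS h),
      IsIntegralHom ((pullback.lift (proj σ.gX p.1.2) (f ≫ proj σ.gS q) hab).ker.subschemeι ≫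
        pullback.snd (σ.hom p) (trans σ.gS h)) := by
  classical
  obtain ⟨hS⟩ := nonempty_isLimit_sch σ.gS
  haveI : ∀ i, CompactSpace ((sysSch σ.gS).obj i) := fun i => compactSpace_spec σ.gS i.unop
  haveI : ∀ i, QuasiSeparatedSpace ((sysSch σ.gS).obj i) := fun i => quasiSeparatedSpace_spec σ.gS i.unop
  haveI : ∀ (i j : (Idx σ.gS)ᵒᵖ) (a : i ⟶ j), IsAffineHom ((sysSch σ.gS).map a) := fun i j a =>
    isAffineHom_trans σ.gS _
  haveI : CompactSpace (alg σ.gS p.1.1).spec := compactSpace_spec σ.gS p.1.1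
  obtain ⟨F, hF⟩ := isCompact_univ.elim_finite_subcover
    (fun V : (alg σ.gS p.1.1).spec.affineOpens => (V.1 : Set (alg σ.gS p.1.1).spec))
    (fun V => V.1.2) fun x _ => by
      obtain ⟨_, ⟨V, hV, rfl⟩, hxV, -⟩ := (alg σ.gS p.1.1).spec.isBasis_affineOpens.exists_subset_of_mem_open
        (Set.mem_univ x) isOpen_univ
      exact Set.mem_iUnion.2 ⟨⟨V, hV⟩, hxV⟩
  have hgen : ∀ U : F, ∃ G : Finset Γ((alg σ.gX p.1.2).spec, σ.hom p ⁻¹ᵁ U.1.1),
      Subring.closure (Set.range ((σ.hom p).app U.1.1).hom ∪ (G : Set _)) = ⊤ := by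
    intro U
    have hft := (σ.hom p).finiteType_appLE U.1.2 (U.1.2.preimage (σ.hom p)) le_rfl
    rw [Scheme.Hom.appLE_eq_app] at hft
    exact exists_closure_of_finiteType _ hft
  choose G hG using hgen
  let a : X ⟶ (alg σ.gX p.1.2).spec := proj σ.gX p.1.2
  let W : F → X.Opens := fun U => a ⁻¹ᵁ (σ.hom p ⁻¹ᵁ U.1.1)
  have hW : ∀ U : F, W U = f ⁻¹ᵁ (proj σ.gS p.1.1 ⁻¹ᵁ U.1.1) := fun U => by
    show a ⁻¹ᵁ (σ.hom p ⁻¹ᵁ U.1.1) = _
    rw [← Scheme.Hom.comp_preimage, ← Scheme.Hom.comp_preimage, σ.proj_hom]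
  haveI : ∀ {i j : (Idx σ.gS)ᵒᵖ} (a : i ⟶ j), IsAffineHom ((sysSch σ.gS).map a) := fun a =>
    isAffineHom_trans σ.gS _
  have hlift := fun U : F => exists_isIntegralElem_stage hS (i0 := op p.1.1) U.1.2.isCompact f (W := W U)
    (hW U).le ((G U).image (a.app (σ.hom p ⁻¹ᵁ U.1.1)).hom) (fun ξ _ =>
      exists_monic_of_integral f (U.1.2.preimage (proj σ.gS p.1.1)) (hW U) ξ)
  choose jU gU hj using hlift
  obtain ⟨⟨q⟩, a0, b0, -⟩ := IsCofiltered.wideCospan (fun U : F => gU U)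
  have hpq : p.1.1 ≤ q := a0.unop.le
  let b : X ⟶ (alg σ.gS q).spec := f ≫ proj σ.gS q
  have hab : a ≫ σ.hom p = b ≫ trans σ.gS hpq := by
    show a ≫ σ.hom p = (f ≫ proj σ.gS q) ≫ trans σ.gS hpq
    rw [Category.assoc, proj_trans]
    exact σ.proj_hom p
  refine ⟨q, hpq, hab, ?_⟩
  haveI : IsAffineHom (trans σ.gS hpq) := isAffineHom_trans σ.gS hpq
  haveI : IsAffineHom (pullback.fst (σ.hom p) (trans σ.gS hpq)) := MorphismProperty.pullback_fst _ _ inferInstance
  haveI : IsAffineHom (pullback.lift a b hab) := by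
    haveI : IsAffineHom (pullback.lift a b hab ≫ pullback.fst (σ.hom p) (trans σ.gS hpq)) := by
      rw [pullback.lift_fst]; exact isAffineHom_proj σ.gX p.1.2
    exact IsAffineHom.of_comp (pullback.lift a b hab) (pullback.fst (σ.hom p) (trans σ.gS hpq))
  haveI : QuasiCompact (pullback.lift a b hab) := inferInstance
  have hcov : (⨆ U : F, U.1.1) = ⊤ := by
    refine top_unique fun x _ => ?_
    obtain ⟨W, hW, hx⟩ := Set.mem_iUnion₂.1 (hF (Set.mem_univ x))
    exact Opens.mem_iSup.2 ⟨⟨W, hW⟩, hx⟩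
  have h1 := isIntegralHom_image_baseChange (σ.hom p) (trans σ.gS hpq) a b hab (fun U : F => U.1) hcov
    (fun U => (G U : Set _))
  have h2 := h1 hG
  refine h2 fun U e x hx => ?_
  exact hj U (op q) (b0 U) e _ (Finset.mem_image.2 ⟨x, hx, rfl⟩)

end Setup

set_option maxHeartbeats 800000 in
/-- A scheme with an integral surjection from an affine scheme is affine. -/
theorem isAffine_of_isIntegralHom {X S : Scheme.{u}} (f : X ⟶ S) [IsIntegralHom f] [Surjective f] [IsAffine X]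
    [CompactSpace S] [S.IsSeparated] : IsAffine S := by
  haveI : QuasiSeparatedSpace S := inferInstance
  obtain ⟨σ⟩ := nonempty_setup f
  obtain ⟨p, hpX, hpS⟩ := σ.exists_affine_separated_stage
  haveI : IsAffineHom (σ.hom p) := by
    haveI : IsAffineHom (σ.hom p ≫ terminal.from _) := inferInstance
    exact IsAffineHom.of_comp (σ.hom p) (terminal.from _)
  obtain ⟨q, hpq, hab, hint⟩ := σ.exists_integral_image p
  let a : X ⟶ (alg σ.gX p.1.2).spec := proj σ.gX p.1.2
  let b : X ⟶ (alg σ.gS q).spec := f ≫ proj σ.gS q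
  haveI : CompactSpace (alg σ.gS q).spec := compactSpace_spec σ.gS q
  haveI : IsAffine (pullback (σ.hom p) (trans σ.gS hpq)) :=
    isAffine_of_isAffineHom (pullback.fst (σ.hom p) (trans σ.gS hpq))
  let l := pullback.lift a b hab
  let w := l.ker.subschemeι ≫ pullback.snd (σ.hom p) (trans σ.gS hpq)
  haveI : IsIntegralHom w := hint
  haveI : LocallyOfFiniteType w := inferInstanceAs (LocallyOfFiniteType (_ ≫ _))
  haveI : IsFinite w := (IsFinite.iff_isIntegralHom_and_locallyOfFiniteType w).2 ⟨inferInstance, inferInstance⟩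
  haveI : IsNoetherian (alg σ.gS q).spec := by
    haveI : IsLocallyNoetherian (alg σ.gS q).spec := isLocallyNoetherian_of_ftz (ftz_system σ.gS σ.ftS _)
    constructor
  haveI : IsAffine l.ker.subscheme := isAffine_of_isAffineHom l.ker.subschemeι
  haveI : Surjective w := by
    haveI : IsDominant (proj σ.gS q) := inferInstance
    haveI : IsDominant b := inferInstanceAs (IsDominant (f ≫ proj σ.gS q))
    have hbw : b = l.toImage ≫ w :=
      ((pullback.lift_snd a b hab).symm.trans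
        (congrArg (· ≫ pullback.snd (σ.hom p) (trans σ.gS hpq)) l.toImage_imageι.symm)).trans
          (Category.assoc _ _ _)
    haveI : IsDominant w := by
      haveI : IsDominant (l.toImage ≫ w) := hbw ▸ inferInstance
      exact IsDominant.of_comp l.toImage w
    refine ⟨fun y => ?_⟩
    have hd := w.denseRange.closure_range
    rw [w.isClosedMap.isClosed_range.closure_eq] at hd
    exact Set.range_eq_univ.1 hd y
  haveI : IsAffine (alg σ.gS q).spec := Groth.Agent.S0021.result w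
  exact isAffine_of_isAffineHom (proj σ.gS q)

end Groth.Agent.Approx
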