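import Mathlib.AlgebraicGeometry.AffineTransitionLimit
import Mathlib.AlgebraicGeometry.Morphisms.SchemeTheoreticallyDominant
import Mathlib.AlgebraicGeometry.Morphisms.FiniteType
import Mathlib.AlgebraicGeometry.Noetherian

/-!
# Basic tools for noetherian approximation
-/

set_option autoImplicit false
set_option backward.isDefEq.respectTransparency false
set_option backward.isDefEq.respectTransparency.types false

universe u

open CategoryTheory CategoryTheory.Limits AlgebraicGeometry TopologicalSpace Opposite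

namespace Groth.Agent.Approx

/-- Being of finite type over the integers. -/
abbrev FTZ (X : Scheme.{u}) : Prop := LocallyOfFiniteType (IsTerminal.from specULiftZIsTerminal X)

theorem ftz_of_hom {X Y : Scheme.{u}} (f : X ⟶ Y) [LocallyOfFiniteType f] (h : FTZ Y) : FTZ X := by
  have e : IsTerminal.from specULiftZIsTerminal X = f ≫ IsTerminal.from specULiftZIsTerminal Y :=
    specULiftZIsTerminal.hom_ext _ _
  show LocallyOfFiniteType _
  rw [e]
  have : LocallyOfFiniteType (IsTerminal.from specULiftZIsTerminal Y) := h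
  infer_instance

theorem isNoetherianRing_ulift_int : IsNoetherianRing (ULift.{u} ℤ) :=
  isNoetherianRing_of_ringEquiv ℤ ULift.ringEquiv.symm

theorem isLocallyNoetherian_of_ftz {X : Scheme.{u}} (h : FTZ X) : IsLocallyNoetherian X := by
  have : IsNoetherianRing (CommRingCat.of (ULift.{u} ℤ)) := isNoetherianRing_ulift_int
  have : LocallyOfFiniteType (IsTerminal.from specULiftZIsTerminal X) := h
  exact LocallyOfFiniteType.isLocallyNoetherian (IsTerminal.from specULiftZIsTerminal X)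

theorem quasiSeparatedSpace_of_ftz {X : Scheme.{u}} (h : FTZ X) : QuasiSeparatedSpace X := by
  have := isLocallyNoetherian_of_ftz h
  infer_instance

/-- Functions on an affine scheme of finite type over the integers form a ring of finite type. -/
theorem finiteType_sections {X : Scheme.{u}} (h : FTZ X) {O : X.Opens} (hO : IsAffineOpen O) :
    ∃ G : Finset Γ(X, O), Subring.closure (G : Set Γ(X, O)) = ⊤ := by
  have : LocallyOfFiniteType (IsTerminal.from specULiftZIsTerminal X) := h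
  have hft := HasRingHomProperty.appLE (P := @LocallyOfFiniteType) (IsTerminal.from specULiftZIsTerminal X)
    ‹_› ⟨⊤, isAffineOpen_top _⟩ ⟨O, hO⟩ (fun _ _ => trivial)
  have hft' := (RingHom.finiteType_respectsIso.cancel_left_isIso
    (Scheme.ΓSpecIso (CommRingCat.of (ULift.{u} ℤ))).inv _).2 hft
  letI alg := ((Scheme.ΓSpecIso (CommRingCat.of (ULift.{u} ℤ))).inv ≫
    (IsTerminal.from specULiftZIsTerminal X).appLE ⊤ O (fun _ _ => trivial)).hom.toAlgebra
  obtain ⟨G, hG⟩ := (hft' : Algebra.FiniteType (ULift.{u} ℤ) Γ(X, O)).out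
  refine ⟨G, top_unique fun x _ => ?_⟩
  suffices ∀ y ∈ Algebra.adjoin (ULift.{u} ℤ) (G : Set Γ(X, O)), y ∈ Subring.closure (G : Set Γ(X, O)) from
    this x (hG ▸ Algebra.mem_top)
  intro y hy
  induction hy using Algebra.adjoin_induction with
  | mem a ha => exact Subring.subset_closure ha
  | algebraMap r =>
    obtain ⟨n⟩ := r
    have : (ULift.up n : ULift.{u} ℤ) = (n : ULift.{u} ℤ) := by ext; simp
    rw [this, map_intCast]
    exact intCast_mem _ n
  | add a b _ _ ha hb => exact add_mem ha hb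
  | mul a b _ _ ha hb => exact mul_mem ha hb

/-- Morphisms out of a schematically dominated scheme. -/
theorem ext_of_schDom {X P Z S : Scheme.{u}} (g : X ⟶ P) [IsSchemeTheoreticallyDominant g]
    (s : Z ⟶ S) [IsSeparated s] (u v : P ⟶ Z) (h : u ≫ s = v ≫ s) (hg : g ≫ u = g ≫ v) : u = v := by
  let L : P ⟶ pullback s s := pullback.lift u v h
  let e := pullback.snd (pullback.diagonal s) L
  have hfac : (g ≫ u) ≫ pullback.diagonal s = g ≫ L := by
    apply pullback.hom_ext
    · simp only [Category.assoc, pullback.diagonal_fst, Category.comp_id, L]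
      exact congrArg (g ≫ ·) (pullback.lift_fst u v h).symm
    · simp only [Category.assoc, pullback.diagonal_snd, Category.comp_id, L, hg]
      exact congrArg (g ≫ ·) (pullback.lift_snd u v h).symm
  have hker : e.ker ≤ ⊥ := by
    rw [← g.ker_eq_bot]
    have : g = pullback.lift (g ≫ u) g hfac ≫ e := (pullback.lift_snd _ _ hfac).symm
    rw [this]
    exact Scheme.Hom.le_ker_comp _ _
  let t := IsClosedImmersion.lift e (𝟙 P) (hker.trans bot_le)
  have ht : t ≫ e = 𝟙 P := IsClosedImmersion.lift_fac _ _ _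
  have e' : (t ≫ pullback.fst _ L) ≫ pullback.diagonal s = L := by
    rw [Category.assoc, pullback.condition, ← Category.assoc]
    show (t ≫ e) ≫ L = L
    rw [ht, Category.id_comp]
  have e₁ := e' =≫ pullback.fst s s
  have e₂ := e' =≫ pullback.snd s s
  simp only [L, Category.assoc, pullback.diagonal_fst, pullback.diagonal_snd, pullback.lift_fst,
    pullback.lift_snd, Category.comp_id] at e₁ e₂
  exact e₁.symm.trans e₂

/-- A morphism which is an open immersion over each member of a cover by preimages is an open immersion. -/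
theorem isOpenImmersion_of_preimages {X Y : Scheme.{u}} (f : X ⟶ Y) {ι : Type*} {Z : ι → Scheme.{u}}
    (q : ∀ i, Z i ⟶ X) [∀ i, IsOpenImmersion (q i)] (U : ι → Y.Opens)
    (hr : ∀ i, (q i).opensRange = f ⁻¹ᵁ U i) (hcov : ∀ x : X, ∃ i, x ∈ f ⁻¹ᵁ U i)
    (h : ∀ i, IsOpenImmersion (q i ≫ f)) : IsOpenImmersion f := by
  have hmem : ∀ x : X, ∃ i z, q i z = x := fun x => by
    obtain ⟨i, hi⟩ := hcov x
    rw [← hr i] at hi
    exact ⟨i, hi⟩
  refine IsOpenImmersion.iff_isIso_stalkMap.2 ⟨Topology.IsOpenEmbedding.of_continuous_injective_isOpenMap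
    f.continuous ?_ ?_, fun x => ?_⟩
  · intro x y hxy
    obtain ⟨i, z, rfl⟩ := hmem x
    have hy : y ∈ f ⁻¹ᵁ U i := by
      have hz : q i z ∈ f ⁻¹ᵁ U i := hr i ▸ ⟨z, rfl⟩
      show f y ∈ U i
      rw [← hxy]
      exact hz
    rw [← hr i] at hy
    obtain ⟨w, rfl⟩ := hy
    haveI := h i
    rw [(q i ≫ f).isOpenEmbedding.injective (show (q i ≫ f) z = (q i ≫ f) w from hxy)]
  · intro s hs
    rw [isOpen_iff_forall_mem_open]
    rintro _ ⟨x, hx, rfl⟩
    obtain ⟨i, z, rfl⟩ := hmem x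
    haveI := h i
    refine ⟨(q i ≫ f) '' (q i ⁻¹' s), ?_, (q i ≫ f).isOpenEmbedding.isOpenMap _ (hs.preimage (q i).continuous),
      ⟨z, hx, rfl⟩⟩
    rintro _ ⟨w, hw, rfl⟩
    exact ⟨q i w, hw, rfl⟩
  · obtain ⟨i, z, rfl⟩ := hmem x
    haveI := h i
    have h1 : IsIso ((q i ≫ f).stalkMap z) := inferInstance
    rw [Scheme.Hom.stalkMap_comp] at h1
    haveI : IsIso (f.stalkMap (q i z) ≫ (q i).stalkMap z) := h1
    exact IsIso.of_isIso_comp_right (f.stalkMap (q i z)) ((q i).stalkMap z)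

/-- Global sections of a restriction. -/
theorem resLE_appTop {X Y : Scheme.{u}} (f : X ⟶ Y) (U : Y.Opens) (V : X.Opens) (e : V ≤ f ⁻¹ᵁ U) :
    (f.resLE U V e).appTop ≫ V.topIso.hom = U.topIso.hom ≫ f.appLE U V e := by
  have h1 : ∀ (W : (V : Scheme.{u}).Opens) (hW : W = ⊤) (e' : W ≤ f.resLE U V e ⁻¹ᵁ ⊤),
      (f.resLE U V e).appLE ⊤ W e' ≫ (V : Scheme.{u}).presheaf.map (eqToHom hW.symm).op =
        (f.resLE U V e).appTop := by
    intro W hW e'
    rw [Scheme.Hom.appLE_map]
    exact Scheme.Hom.appLE_eq_app _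
  rw [← h1 ⊤ rfl le_top, Scheme.Hom.resLE_appLE]
  simp [Scheme.Opens.topIso, Scheme.Hom.map_appLE]
  erw [Category.id_comp]
  exact Scheme.Hom.appLE_map _ _ _

section limit

variable {I : Type u} [SmallCategory I] [IsCofiltered I] (D : I ⥤ Scheme.{u}) (c : Cone D) (hc : IsLimit c)
  [∀ {i j : I} (f : i ⟶ j), IsAffineHom (D.map f)] [∀ i, CompactSpace (D.obj i)]
  [∀ i, QuasiSeparatedSpace (D.obj i)]

include hc

/-- Sections over a quasi-compact open of the limit come from a stage. -/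
theorem exists_appLE_π_eq {i : I} {U : (D.obj i).Opens} (hU : IsCompact (U : Set (D.obj i)))
    (s : Γ(c.pt, c.π.app i ⁻¹ᵁ U)) :
    ∃ (j : I) (f : j ⟶ i) (e : c.π.app i ⁻¹ᵁ U ≤ c.π.app j ⁻¹ᵁ (D.map f ⁻¹ᵁ U))
      (t : Γ(D.obj j, D.map f ⁻¹ᵁ U)),
      ((c.π.app j).appLE (D.map f ⁻¹ᵁ U) (c.π.app i ⁻¹ᵁ U) e).hom t = s := by
  haveI (j : Over i) : CompactSpace ((opensDiagram D i U).obj j) :=
    isCompact_iff_compactSpace.mp (QuasiCompact.isCompact_preimage (f := D.map j.hom) _ U.2 hU)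
  haveI (j : Over i) : QuasiSeparatedSpace ((opensDiagram D i U).obj j) :=
    (isQuasiSeparated_iff_quasiSeparatedSpace _ (D.map _ ⁻¹ᵁ _).2).mp (.of_quasiSeparatedSpace _)
  obtain ⟨j, t, ht⟩ := exists_appTop_π_eq_of_isLimit _ _ (isLimitOpensCone D c hc i U)
    ((c.π.app i ⁻¹ᵁ U).topIso.inv s)
  have he : c.π.app i ⁻¹ᵁ U ≤ c.π.app j.left ⁻¹ᵁ (D.map j.hom ⁻¹ᵁ U) := by
    rw [← Scheme.Hom.comp_preimage, c.w]
  refine ⟨j.left, j.hom, he, (D.map j.hom ⁻¹ᵁ U).topIso.hom t, ?_⟩
  have h2 := congrArg (c.π.app i ⁻¹ᵁ U).topIso.hom ht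
  rw [← CommRingCat.comp_apply, Iso.inv_hom_id, CommRingCat.id_apply] at h2
  rw [h2]
  show ((D.map j.hom ⁻¹ᵁ U).topIso.hom ≫ (c.π.app j.left).appLE _ _ he).hom t =
    (((opensCone D c i U).π.app j).appTop ≫ (c.π.app i ⁻¹ᵁ U).topIso.hom).hom t
  congr 2
  exact (resLE_appTop (c.π.app j.left) _ _ he).symm

end limit

end Groth.Agent.Approx
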