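import Groth.Agent.Approx.FiniteFP

/-!
# An integral morphism is a limit of finite morphisms of finite presentation
-/

set_option autoImplicit false
set_option backward.isDefEq.respectTransparency false
set_option backward.isDefEq.respectTransparency.types false

universe u

open CategoryTheory CategoryTheory.Limits AlgebraicGeometry TopologicalSpace Opposite
open Groth.Agent.MorLib.IdealFG

namespace Groth.Agent.Approx

/-- The image of a scheme integral over the base in a scheme affine over the base is integral. -/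
theorem isIntegralHom_image {X Y S : Scheme.{u}} (j : X ⟶ Y) [QuasiCompact j] (g : Y ⟶ S) [IsAffineHom g]
    [IsIntegralHom (j ≫ g)] : IsIntegralHom (j.ker.subschemeι ≫ g) := by
  refine { (inferInstance : IsAffineHom (j.ker.subschemeι ≫ g)) with isIntegral_app := fun U hU => ?_ }
  refine RingHom.IsIntegral.tower_bot _ (j.toImage.app ((j.ker.subschemeι ≫ g) ⁻¹ᵁ U)).hom
    (j.toImage_app_injective ⟨g ⁻¹ᵁ U, hU.preimage g⟩) ?_
  rw [← CommRingCat.hom_comp, ← Scheme.Hom.comp_app]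
  have e : j ≫ g = j.toImage ≫ j.ker.subschemeι ≫ g :=
    (congrArg (· ≫ g) j.toImage_imageι.symm).trans (Category.assoc _ _ _)
  have key : ∀ k : X ⟶ S, j ≫ g = k → (k.app U).hom.IsIntegral := by
    rintro k rfl; exact (j ≫ g).isIntegral_app U hU
  exact key _ e

/-- A cone mapped by monomorphisms to a limit cone is limit. -/
theorem nonempty_isLimit_of_mono {J C : Type*} [Category J] [Category C] {D D' : J ⥤ C} (ν : D ⟶ D')
    [∀ j, Mono (ν.app j)] (c : Cone D) (h : IsLimit ((Cone.postcompose ν).obj c)) : Nonempty (IsLimit c) := by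
  refine ⟨IsLimit.mk (fun s => h.lift ((Cone.postcompose ν).obj s)) (fun s j => ?_) fun s m hm => ?_⟩
  · rw [← cancel_mono (ν.app j), Category.assoc]
    exact h.fac ((Cone.postcompose ν).obj s) j
  · refine h.uniq ((Cone.postcompose ν).obj s) m fun j => ?_
    exact (Category.assoc _ _ _).symm.trans (congrArg (· ≫ ν.app j) (hm j))

namespace Setup

variable {X S : Scheme.{u}} {f : X ⟶ S} (σ : Setup f)

/-- Finitely presented finite neighbourhoods of `X` in the approximations. -/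
def FinIdx : Type u :=
  Σ p : σ.Pair, {K : Sub (σ.yProj p).ker // IsFinite (K.1.subschemeι ≫ σ.yS p)}

/-- The ideal of an index. -/
abbrev idl (a : σ.FinIdx) : (σ.Y a.1).IdealSheafData := a.2.1.1

theorem yTrans_self (p : σ.Pair) : σ.yTrans (le_refl p) = 𝟙 (σ.Y p) :=
  congrArg CommaMorphism.left (σ.sysY.map_id (op p))

theorem yTrans_trans {p q r : σ.Pair} (h : p ≤ q) (h' : q ≤ r) :
    σ.yTrans h' ≫ σ.yTrans h = σ.yTrans (h.trans h') :=
  (congrArg CommaMorphism.left
    (σ.sysY.map_comp (X := op r) (Y := op q) (Z := op p) (homOfLE h').op (homOfLE h).op)).symm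

theorem yProj_trans {p q : σ.Pair} (h : p ≤ q) : σ.yProj q ≫ σ.yTrans h = σ.yProj p :=
  congrArg CommaMorphism.left (σ.coneY.w (j := op q) (j' := op p) (homOfLE h).op)

/-- The transition condition. -/
def finLE (a b : σ.FinIdx) : Prop :=
  ∃ h : a.1 ≤ b.1, σ.idl a ≤ ((σ.idl b).subschemeι ≫ σ.yTrans h).ker

/-- The transition morphisms. -/
noncomputable def finTrans {a b : σ.FinIdx} (h : σ.finLE a b) : (σ.idl b).subscheme ⟶ (σ.idl a).subscheme :=
  IsClosedImmersion.lift (σ.idl a).subschemeι ((σ.idl b).subschemeι ≫ σ.yTrans h.1)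
    ((σ.idl a).ker_subschemeι.le.trans h.2)

theorem finTrans_ι {a b : σ.FinIdx} (h : σ.finLE a b) :
    σ.finTrans h ≫ (σ.idl a).subschemeι = (σ.idl b).subschemeι ≫ σ.yTrans h.1 :=
  IsClosedImmersion.lift_fac _ _ _

theorem finLE_of_hom {a b : σ.FinIdx} (h : a.1 ≤ b.1) (m : (σ.idl b).subscheme ⟶ (σ.idl a).subscheme)
    (hm : m ≫ (σ.idl a).subschemeι = (σ.idl b).subschemeι ≫ σ.yTrans h) : σ.finLE a b :=
  ⟨h, (σ.idl a).ker_subschemeι.ge.trans ((Scheme.Hom.le_ker_comp m _).trans (congrArg Scheme.Hom.ker hm).le)⟩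

instance : Preorder σ.FinIdx where
  le := σ.finLE
  le_refl a := σ.finLE_of_hom le_rfl (𝟙 _) (by rw [σ.yTrans_self, Category.id_comp, Category.comp_id])
  le_trans a b c h h' := σ.finLE_of_hom (h.1.trans h'.1) (σ.finTrans h' ≫ σ.finTrans h) (by
    rw [Category.assoc, σ.finTrans_ι, ← Category.assoc, σ.finTrans_ι, Category.assoc, σ.yTrans_trans])

/-- The projection to the pairs. -/
def finPair : σ.FinIdx → σ.Pair := Sigma.fst

theorem finPair_mono : Monotone σ.finPair := fun _ _ h => h.1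

theorem exists_finIdx [CompactSpace S] [QuasiSeparatedSpace S] [IsIntegralHom f] (p : σ.Pair)
    [IsAffineHom (σ.yS p)] (K : Sub (σ.yProj p).ker) :
    ∃ a : σ.FinIdx, ∃ h : a.1 = p, h ▸ K.1 ≤ σ.idl a := by
  haveI : CompactSpace X := QuasiCompact.compactSpace_of_compactSpace f
  haveI : IsIntegralHom (σ.yProj p ≫ σ.yS p) := by rw [σ.yProj_snd]; infer_instance
  haveI := isIntegralHom_image (σ.yProj p) (σ.yS p)
  obtain ⟨K0, hK0⟩ := exists_sub_finite (σ.yProj p).ker.subschemeι (σ.yS p)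
  have hle : K0.1 ≤ (σ.yProj p).ker := K0.2.1.trans (σ.yProj p).ker.ker_subschemeι.le
  refine ⟨⟨p, ⟨K0.1 ⊔ K.1, sup_le hle K.2.1, isFG_sup K0.2.2 K.2.2⟩,
    hK0 ⟨K0.1 ⊔ K.1, sup_le K0.2.1 (K.2.1.trans (σ.yProj p).ker.ker_subschemeι.ge),
      isFG_sup K0.2.2 K.2.2⟩ le_sup_left⟩, rfl, le_sup_right⟩

theorem exists_finIdx_ge [CompactSpace S] [QuasiSeparatedSpace S] [IsIntegralHom f] {p0 : σ.Pair}
    (hp0 : ∀ p, p0 ≤ p → IsAffineHom (σ.yS p)) (a b : σ.FinIdx) : ∃ c : σ.FinIdx, a ≤ c ∧ b ≤ c := by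
  obtain ⟨p', ha, hb⟩ := exists_ge_ge a.1 b.1
  obtain ⟨p, hp', h0⟩ := exists_ge_ge p' p0
  haveI := hp0 p h0
  have hA := ha.trans hp'
  have hB := hb.trans hp'
  have step : ∀ (x : σ.FinIdx) (hx : x.1 ≤ p), (σ.idl x).comap (σ.yTrans hx) ≤ (σ.yProj p).ker := by
    intro x hx
    rw [← Scheme.IdealSheafData.le_map_iff_comap_le, Scheme.IdealSheafData.map_ker, σ.yProj_trans]
    exact x.2.1.2.1
  obtain ⟨c, rfl, hc⟩ := σ.exists_finIdx p ⟨(σ.idl a).comap (σ.yTrans hA) ⊔ (σ.idl b).comap (σ.yTrans hB),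
    sup_le (step a hA) (step b hB), isFG_sup (isFG_comap a.2.1.2.2 _) (isFG_comap b.2.1.2.2 _)⟩
  have fin : ∀ (x : σ.FinIdx) (hx : x.1 ≤ c.1), (σ.idl x).comap (σ.yTrans hx) ≤ σ.idl c → x ≤ c := by
    intro x hx h
    refine ⟨hx, ?_⟩
    rw [← Scheme.IdealSheafData.map_ker, Scheme.IdealSheafData.ker_subschemeι,
      Scheme.IdealSheafData.le_map_iff_comap_le]
    exact h
  exact ⟨c, fin a hA (le_sup_left.trans hc), fin b hB (le_sup_right.trans hc)⟩

/-- The finite schemes of finite presentation around `X`. -/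
noncomputable def finSys : σ.FinIdxᵒᵖ ⥤ Over S where
  obj a := Over.mk ((σ.idl a.unop).subschemeι ≫ σ.yS a.unop.1)
  map {a b} h := Over.homMk (σ.finTrans (show b.unop ≤ a.unop from h.unop.le)) (by
    show _ ≫ _ ≫ σ.yS b.unop.1 = _ ≫ σ.yS a.unop.1
    rw [← Category.assoc, σ.finTrans_ι, Category.assoc, σ.yTrans_snd])
  map_id a := Over.OverMorphism.ext (by
    show σ.finTrans (le_refl a.unop) = 𝟙 _
    rw [← cancel_mono (σ.idl a.unop).subschemeι, σ.finTrans_ι, σ.yTrans_self, Category.id_comp,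
      Category.comp_id])
  map_comp {a b c} h h' := Over.OverMorphism.ext (by
    show σ.finTrans (le_trans (show c.unop ≤ b.unop from h'.unop.le) (show b.unop ≤ a.unop from h.unop.le)) =
      σ.finTrans (show b.unop ≤ a.unop from h.unop.le) ≫ σ.finTrans (show c.unop ≤ b.unop from h'.unop.le)
    rw [← cancel_mono (σ.idl c.unop).subschemeι, Category.assoc, σ.finTrans_ι, σ.finTrans_ι, ← Category.assoc,
      σ.finTrans_ι, Category.assoc, σ.yTrans_trans])

/-- The morphism from `X`. -/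
noncomputable def finProj (a : σ.FinIdx) : X ⟶ (σ.idl a).subscheme :=
  IsClosedImmersion.lift (σ.idl a).subschemeι (σ.yProj a.1) ((σ.idl a).ker_subschemeι.le.trans a.2.1.2.1)

theorem finProj_ι (a : σ.FinIdx) : σ.finProj a ≫ (σ.idl a).subschemeι = σ.yProj a.1 :=
  IsClosedImmersion.lift_fac _ _ _

/-- The inclusion into the system of approximations. -/
noncomputable def finIncl : σ.finSys ⟶ σ.finPair_mono.functor.op ⋙ σ.sysY where
  app a := Over.homMk (σ.idl a.unop).subschemeι rfl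
  naturality a b h := Over.OverMorphism.ext (σ.finTrans_ι (show b.unop ≤ a.unop from h.unop.le))

instance mono_finIncl (a : σ.FinIdxᵒᵖ) : Mono (σ.finIncl.app a) := by
  haveI : Mono (σ.finIncl.app a).left := (inferInstance : Mono (σ.idl a.unop).subschemeι)
  exact Over.mono_of_mono_left _

/-- The cone. -/
noncomputable def finCone : Cone σ.finSys where
  pt := Over.mk f
  π :=
  { app := fun a => Over.homMk (σ.finProj a.unop) (by
      show σ.finProj a.unop ≫ _ ≫ σ.yS a.unop.1 = f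
      rw [← Category.assoc, σ.finProj_ι, σ.yProj_snd])
    naturality := fun a b h => Over.OverMorphism.ext (by
      show 𝟙 X ≫ σ.finProj b.unop = σ.finProj a.unop ≫ σ.finTrans (show b.unop ≤ a.unop from h.unop.le)
      rw [← cancel_mono (σ.idl b.unop).subschemeι, Category.id_comp, Category.assoc, σ.finTrans_ι,
        ← Category.assoc, σ.finProj_ι, σ.finProj_ι, σ.yProj_trans]) }

theorem nonempty_isLimit_finCone (hfin : σ.finPair_mono.functor.Final) : Nonempty (IsLimit σ.finCone) := by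
  obtain ⟨h⟩ := σ.nonempty_isLimit_coneY
  haveI := hfin
  refine nonempty_isLimit_of_mono σ.finIncl σ.finCone (IsLimit.ofIsoLimit
    ((Functor.Initial.isLimitWhiskerEquiv σ.finPair_mono.functor.op _).symm h) (Cone.ext (Iso.refl _) fun a => ?_))
  exact Over.OverMorphism.ext ((σ.finProj_ι a.unop).symm.trans (Category.id_comp _).symm)

end Setup

/-- An integral morphism is a limit of finite morphisms of finite presentation. -/
theorem exists_isLimit_finite_fp {X S : Scheme.{u}} (f : X ⟶ S) [IsIntegralHom f] [CompactSpace S]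
    [QuasiSeparatedSpace S] :
    ∃ (I : Type u) (_ : Preorder I) (_ : IsDirected I (fun a b => a ≤ b)) (_ : Nonempty I)
      (D : Iᵒᵖ ⥤ Over S) (c : Cone D) (_ : IsLimit c),
      (∀ i, IsFinite (D.obj i).hom ∧ LocallyOfFinitePresentation (D.obj i).hom) ∧
      Nonempty (c.pt ≅ Over.mk f) := by
  haveI : CompactSpace X := QuasiCompact.compactSpace_of_compactSpace f
  haveI : QuasiSeparatedSpace X := quasiSeparatedSpace_of_quasiSeparated f
  obtain ⟨σ⟩ := nonempty_setup f
  obtain ⟨p0, hp0⟩ := σ.eventually_affine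
  haveI hdir : IsDirected σ.FinIdx (fun a b => a ≤ b) := ⟨fun a b => σ.exists_finIdx_ge hp0 a b⟩
  have key : ∀ p : σ.Pair, ∃ a : σ.FinIdx, p ≤ a.1 := by
    intro p
    obtain ⟨q, hq, hq0⟩ := exists_ge_ge p p0
    haveI := hp0 q hq0
    obtain ⟨a, ha, -⟩ := σ.exists_finIdx q ⟨⊥, bot_le, isFG_bot⟩
    exact ⟨a, hq.trans ha.ge⟩
  haveI : Nonempty σ.FinIdx := ⟨(key p0).choose⟩
  obtain ⟨hc⟩ := σ.nonempty_isLimit_finCone (by rw [Monotone.final_functor_iff]; exact key)
  refine ⟨σ.FinIdx, inferInstance, hdir, inferInstance, σ.finSys, σ.finCone, hc, fun a => ⟨a.unop.2.2, ?_⟩,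
    ⟨Iso.refl _⟩⟩
  haveI := lfp_subschemeι a.unop.2.1.2.2
  show LocallyOfFinitePresentation ((σ.idl a.unop).subschemeι ≫ σ.yS a.unop.1)
  infer_instance

end Groth.Agent.Approx
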