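import Groth.Agent.Approx.Over
import Mathlib.AlgebraicGeometry.Morphisms.ClosedImmersion

/-!
# Finitely presented approximations of a morphism
-/

set_option autoImplicit false
set_option backward.isDefEq.respectTransparency false
set_option backward.isDefEq.respectTransparency.types false

universe u

open CategoryTheory CategoryTheory.Limits AlgebraicGeometry TopologicalSpace Opposite

namespace Groth.Agent.Approx

namespace Setup

variable {X S : Scheme.{u}} {f : X ⟶ S} (σ : Setup f)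

/-- The approximations as a diagram of schemes. -/
noncomputable def sysYSch : σ.Pairᵒᵖ ⥤ Scheme.{u} := σ.sysY ⋙ Over.forget S

/-- Its cone. -/
noncomputable def coneYSch : Cone σ.sysYSch := (Over.forget S).mapCone σ.coneY

theorem nonempty_isLimit_coneYSch : Nonempty (IsLimit σ.coneYSch) :=
  isLimit_left σ.nonempty_isLimit_coneY.some

/-- The structure morphisms. -/
noncomputable def tY : σ.sysYSch ⟶ (Functor.const σ.Pairᵒᵖ).obj S where
  app p := σ.yS p.unop
  naturality p q h := (σ.yTrans_snd (show q.unop ≤ p.unop from h.unop.le)).trans (Category.comp_id _).symm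

instance isAffineHom_sysYSch {p q : σ.Pairᵒᵖ} (h : p ⟶ q) : IsAffineHom (σ.sysYSch.map h) :=
  σ.isAffineHom_sysY h

instance compactSpace_Y [CompactSpace S] (p : σ.Pair) : CompactSpace (σ.Y p) :=
  QuasiCompact.compactSpace_of_compactSpace (σ.yS p)

instance quasiSeparatedSpace_Y [QuasiSeparatedSpace S] (p : σ.Pair) : QuasiSeparatedSpace (σ.Y p) :=
  quasiSeparatedSpace_of_quasiSeparated (σ.yS p)

instance compactSpace_sysYSch [CompactSpace S] (p : σ.Pairᵒᵖ) : CompactSpace (σ.sysYSch.obj p) :=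
  σ.compactSpace_Y p.unop

instance quasiSeparatedSpace_sysYSch [QuasiSeparatedSpace S] (p : σ.Pairᵒᵖ) :
    QuasiSeparatedSpace (σ.sysYSch.obj p) :=
  σ.quasiSeparatedSpace_Y p.unop

/-- For `f` of finite type the projections are eventually closed immersions. -/
theorem eventually_closedImmersion [CompactSpace S] [QuasiSeparatedSpace S] [LocallyOfFiniteType f] :
    ∃ p0 : σ.Pair, ∀ p, p0 ≤ p → IsClosedImmersion (σ.yProj p) := by
  obtain ⟨hc⟩ := σ.nonempty_isLimit_coneYSch
  obtain ⟨i0⟩ : Nonempty σ.Pair := inferInstance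
  haveI : LocallyOfFiniteType (σ.coneYSch.π.app (op i0)) := by
    haveI : LocallyOfFiniteType (σ.yProj i0 ≫ σ.yS i0) := by rw [σ.yProj_snd]; infer_instance
    exact locallyOfFiniteType_of_comp (σ.yProj i0) (σ.yS i0)
  obtain ⟨⟨p0⟩, -, h⟩ := exists_closedImmersion_stage hc (op i0)
  exact ⟨p0, fun p hp => h (op p) (homOfLE hp).op⟩

/-- For `f` separated the approximations are eventually separated. -/
theorem eventually_separated [CompactSpace S] [QuasiSeparatedSpace S] [IsSeparated f] :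
    ∃ p0 : σ.Pair, ∀ p, p0 ≤ p → IsSeparated (σ.yS p) := by
  obtain ⟨hc⟩ := σ.nonempty_isLimit_coneYSch
  obtain ⟨i0⟩ : Nonempty σ.Pair := inferInstance
  haveI : ∀ (i j : σ.Pairᵒᵖ) (a : i ⟶ j), IsAffineHom (σ.sysYSch.map a) := fun _ _ a => σ.isAffineHom_sysYSch a
  haveI : IsSeparated (σ.coneYSch.π.app (op i0) ≫ σ.tY.app (op i0)) := by
    show IsSeparated (σ.yProj i0 ≫ σ.yS i0)
    rw [σ.yProj_snd]; infer_instance
  obtain ⟨⟨p0⟩, h⟩ := Groth.Agent.S9199.result S σ.sysYSch σ.tY σ.coneYSch hc (op i0)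
  exact ⟨p0, fun p hp => h (op p) (homOfLE hp).op⟩

/-- For `f` affine the approximations are eventually affine. -/
theorem eventually_affine [CompactSpace S] [QuasiSeparatedSpace S] [IsAffineHom f] :
    ∃ p0 : σ.Pair, ∀ p, p0 ≤ p → IsAffineHom (σ.yS p) := by
  obtain ⟨hc⟩ := σ.nonempty_isLimit_coneYSch
  obtain ⟨i0⟩ : Nonempty σ.Pair := inferInstance
  haveI : ∀ (i j : σ.Pairᵒᵖ) (a : i ⟶ j), IsAffineHom (σ.sysYSch.map a) := fun _ _ a => σ.isAffineHom_sysYSch a
  haveI : IsAffineHom (σ.coneYSch.π.app (op i0) ≫ σ.tY.app (op i0)) := by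
    show IsAffineHom (σ.yProj i0 ≫ σ.yS i0)
    rw [σ.yProj_snd]; infer_instance
  obtain ⟨⟨p0⟩, h⟩ := Groth.Agent.S9200.result S σ.sysYSch σ.tY σ.coneYSch hc (op i0)
  exact ⟨p0, fun p hp => h (op p) (homOfLE hp).op⟩

end Setup

/-- Restriction of a morphism to a quasi-compact open containing the image. -/
theorem exists_restrict {X S : Scheme.{u}} (f : X ⟶ S) [CompactSpace X] [QuasiSeparatedSpace S] :
    ∃ (W : S.Opens) (f' : X ⟶ W), CompactSpace (W : Scheme.{u}) ∧ QuasiSeparatedSpace (W : Scheme.{u}) ∧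
      QuasiCompact W.ι ∧ f' ≫ W.ι = f := by
  obtain ⟨W, hW, hfW⟩ := exists_qc_open f
  exact ⟨W, IsOpenImmersion.lift W.ι f (by rw [Scheme.Opens.range_ι]; rintro _ ⟨x, rfl⟩; exact hfW x),
    isCompact_iff_compactSpace.1 hW, .of_isOpenEmbedding W.ι.isOpenEmbedding,
    Groth.Agent.QCoh.quasiCompact_ι_of_compact W hW, IsOpenImmersion.lift_fac _ _ _⟩

/-- A morphism of finite type embeds in one of finite presentation. -/
theorem exists_closedImmersion_fp {X S : Scheme.{u}} (f : X ⟶ S) [LocallyOfFiniteType f] [CompactSpace X]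
    [QuasiSeparatedSpace X] [QuasiSeparatedSpace S] :
    ∃ (X' : Scheme.{u}) (f' : X' ⟶ S) (j : X ⟶ X'), LocallyOfFinitePresentation f' ∧ QuasiCompact f' ∧
      QuasiSeparated f' ∧ CompactSpace X' ∧ QuasiSeparatedSpace X' ∧ IsClosedImmersion j ∧ j ≫ f' = f ∧
      (IsSeparated f → IsSeparated f') := by
  obtain ⟨W, f', hW, hWqs, hWqc, hf'⟩ := exists_restrict f
  haveI : LocallyOfFiniteType (f' ≫ W.ι) := by rw [hf']; infer_instance
  haveI := locallyOfFiniteType_of_comp f' W.ι
  obtain ⟨σ⟩ := nonempty_setup f'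
  obtain ⟨p0, hp0⟩ := σ.eventually_closedImmersion
  by_cases hs : IsSeparated f
  · haveI : IsSeparated (f' ≫ W.ι) := by rw [hf']; exact hs
    haveI : IsSeparated f' := IsSeparated.of_comp f' W.ι
    obtain ⟨p1, hp1⟩ := σ.eventually_separated
    obtain ⟨p, h0, h1⟩ := exists_ge_ge p0 p1
    haveI := hp1 p h1
    exact ⟨σ.Y p, σ.yS p ≫ W.ι, σ.yProj p, inferInstance, inferInstance, inferInstance, inferInstance,
      inferInstance, hp0 p h0, by rw [← Category.assoc, σ.yProj_snd, hf'], fun _ => inferInstance⟩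
  · exact ⟨σ.Y p0, σ.yS p0 ≫ W.ι, σ.yProj p0, inferInstance, inferInstance, inferInstance, inferInstance,
      inferInstance, hp0 p0 le_rfl, by rw [← Category.assoc, σ.yProj_snd, hf'], fun h => absurd h hs⟩

/-- The elements above a given one. -/
abbrev Tail {I : Type u} [Preorder I] (i0 : I) : Type u := {i : I // i0 ≤ i}

section Tail

variable {I : Type u} [Preorder I] [IsDirected I (fun a b => a ≤ b)] (i0 : I)

instance : IsDirected (Tail i0) (fun a b => a ≤ b) :=
  ⟨fun a b => by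
    obtain ⟨c, hc, hc'⟩ := exists_ge_ge a.1 b.1
    exact ⟨⟨c, a.2.trans hc⟩, hc, hc'⟩⟩

instance : Nonempty (Tail i0) := ⟨⟨i0, le_rfl⟩⟩

/-- The inclusion of a tail. -/
def tailVal : Tail i0 → I := Subtype.val

theorem tailVal_mono : Monotone (tailVal i0) := fun _ _ h => h

theorem tail_final : (tailVal_mono i0).functor.Final := by
  rw [Monotone.final_functor_iff]
  intro i
  obtain ⟨c, hc, hc'⟩ := exists_ge_ge i i0
  exact ⟨⟨c, hc'⟩, hc⟩

end Tail

end Groth.Agent.Approx
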