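import Groth.Agent.CMOpen5.Affine
import Groth.Agent.FibDim.RelDim
import Groth.Agent.FibDim.LocDim
import Groth.Agent.AlgSpDec.FibreDimEtale
import Groth.Agent.H23.GrassRep
import Groth.Agent.S2768

/-!
# Fibre dimension of affine space, and of schemes quasi-finite flat over it
-/

set_option autoImplicit false
set_option backward.isDefEq.respectTransparency false
set_option backward.isDefEq.respectTransparency.types false

universe u

open AlgebraicGeometry CategoryTheory CategoryTheory.Limits FlatMor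

namespace Groth.Agent.Approx.AffDim

theorem fibreDimAt_affineSpace {S : Scheme.{u}} (n : ℕ) (p : 𝔸(ULift.{u} (Fin n); S)) :
    FlatMor.fibreDimAt (𝔸(ULift.{u} (Fin n); S) ↘ S) p = (n : WithBot ℕ∞) := by
  obtain ⟨V, hV, hpV, -⟩ :=
    exists_isAffineOpen_mem_and_subset (U := (⊤ : S.Opens)) (x := (𝔸(ULift.{u} (Fin n); S) ↘ S) p) trivial
  obtain ⟨v, hv⟩ : (𝔸(ULift.{u} (Fin n); S) ↘ S) p ∈ Set.range hV.fromSpec := by rw [hV.range_fromSpec]; exact hpV
  obtain ⟨w, hw, -⟩ :=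
    Scheme.exists_preimage_of_isPullback (AffineSpace.isPullback_map hV.fromSpec) p v hv.symm
  haveI := Groth.Agent.CMOpen5.isIso_rename Γ(S, V) n
  obtain ⟨w', hw'⟩ := (Spec.map (CommRingCat.ofHom
      (MvPolynomial.renameEquiv Γ(S, V) (Equiv.ulift.{u} : ULift.{u} (Fin n) ≃ Fin n)).toAlgHom.toRingHom)).homeomorph.surjective
    ((AffineSpace.SpecIso (ULift.{u} (Fin n)) Γ(S, V)).hom w)
  have hc : Groth.Agent.CMOpen5.chartA hV.fromSpec n w' = p := by
    rw [Groth.Agent.CMOpen5.chartA, Scheme.Hom.comp_apply]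
    refine (congrArg _ hw').trans ?_
    rw [← Scheme.Hom.comp_apply, Iso.hom_inv_id_assoc, hw]
  let σ := Spec.map (CommRingCat.ofHom (algebraMap Γ(S, V) (MvPolynomial (Fin n) Γ(S, V))))
  haveI : SmoothOfRelativeDimension n σ := by
    rw [HasRingHomProperty.Spec_iff (P := @SmoothOfRelativeDimension n)]
    refine RingHom.locally_of (RingHom.isStandardSmoothOfRelativeDimension_respectsIso) _ ?_
    show RingHom.IsStandardSmoothOfRelativeDimension n (algebraMap Γ(S, V) (MvPolynomial (Fin n) Γ(S, V)))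
    rw [RingHom.isStandardSmoothOfRelativeDimension_algebraMap]
    have := Groth.Agent.H23.GrassRep.isStandardSmooth_mvPolynomial Γ(S, V) (Fin n)
    rwa [Nat.card_eq_fintype_card, Fintype.card_fin] at this
  haveI : LocallyOfFiniteType σ :=
    HasRingHomProperty.Spec_iff.2 (RingHom.finiteType_algebraMap.2 inferInstance)
  haveI : LocallyOfFiniteType (𝔸(ULift.{u} (Fin n); S) ↘ S) := inferInstance
  rw [← hc, ← Groth.Agent.FibDim.fibreDimAt_openImmersion_comp,
    Groth.Agent.CMOpen5.chartA_over hV.fromSpec n, Groth.Agent.FibDim.fibreDimAt_comp_mono]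
  exact Groth.Agent.S2768.result n σ w'

theorem fibreDimAt_eq_of_lqf_affineSpace {X S : Scheme.{u}} (f : X ⟶ S) [LocallyOfFiniteType f] {n : ℕ}
    (U : X.Opens) (g : (U : Scheme.{u}) ⟶ 𝔸(ULift.{u} (Fin n); S))
    (hg : g ≫ (𝔸(ULift.{u} (Fin n); S) ↘ S) = U.ι ≫ f) [LocallyQuasiFinite g] {x : X} (hx : x ∈ U)
    (hfl : (g.stalkMap ⟨x, hx⟩).hom.Flat) : FlatMor.fibreDimAt f x = (n : WithBot ℕ∞) := by
  haveI : LocallyOfFiniteType (g ≫ (𝔸(ULift.{u} (Fin n); S) ↘ S)) := by rw [hg]; infer_instance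
  haveI : LocallyOfFiniteType g := locallyOfFiniteType_of_comp g (𝔸(ULift.{u} (Fin n); S) ↘ S)
  have h1 : FlatMor.fibreDimAt (U.ι ≫ f) (⟨x, hx⟩ : U) = FlatMor.fibreDimAt f x := by
    rw [Groth.Agent.FibDim.fibreDimAt_openImmersion_comp]
    rfl
  rw [← h1, ← hg, Groth.Agent.FibDim.fibreDimAt_comp_of_flat g _ _ hfl,
    Groth.Agent.AlgSpDec.fibreDimAt_eq_zero_of_lqf g, zero_add, fibreDimAt_affineSpace]

end Groth.Agent.Approx.AffDim
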