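import Groth.Agent.RelSpecX.AffHom
import Mathlib.CategoryTheory.Sites.DenseSubsite.Basic
import Mathlib.CategoryTheory.Limits.Constructions.Over.Connected

/-!
# Limits of affine schemes over a base given by unions of algebras

If the direct image algebra of `X` is the directed union of those of affine schemes `D i` over the
base, then `X` is the limit of the `D i`.
-/

set_option autoImplicit false
set_option backward.isDefEq.respectTransparency false
set_option backward.isDefEq.respectTransparency.types false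

universe u

open CategoryTheory CategoryTheory.Limits AlgebraicGeometry TopologicalSpace Opposite

namespace Groth.Agent.Approx

open Groth.Agent.RelSpecX

variable {Y : Scheme.{u}}

/-- The map on sections over `U` of a morphism over `Y`. -/
noncomputable def secMap {A B : Over Y} (h : A ⟶ B) (U : Y.Opens) :
    Γ(B.left, B.hom ⁻¹ᵁ U) →+* Γ(A.left, A.hom ⁻¹ᵁ U) :=
  ((AffAlg.algHom B.hom A.hom h.left (Over.w h)).app (op U)).hom

theorem secMap_comp {A B C : Over Y} (h : A ⟶ B) (h' : B ⟶ C) (U : Y.Opens) (x : Γ(C.left, C.hom ⁻¹ᵁ U)) :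
    secMap (h ≫ h') U x = secMap h U (secMap h' U x) := by
  have e := algHom_comp C.hom B.hom A.hom h'.left (Over.w h') h.left (Over.w h)
  exact congr(($(e).app (op U)).hom x)

theorem secMap_res {A B : Over Y} (h : A ⟶ B) {U V : Y.Opens} (le : V ≤ U) (x : Γ(B.left, B.hom ⁻¹ᵁ U)) :
    secMap h V (((AffAlg.alg B.hom).map (homOfLE le).op).hom x) =
      ((AffAlg.alg A.hom).map (homOfLE le).op).hom (secMap h U x) :=
  congr($((AffAlg.algHom B.hom A.hom h.left (Over.w h)).naturality (homOfLE le).op) x)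

theorem secMap_str {A B : Over Y} (h : A ⟶ B) (U : Y.Opens) (r : Γ(Y, U)) :
    secMap h U ((B.hom.app U).hom r) = (A.hom.app U).hom r :=
  congr(($(AffAlg.algHom_comm B.hom A.hom h.left (Over.w h)).app (op U)).hom r)

theorem hom_ext_secMap {A B : Over Y} [IsAffineHom B.hom] {h h' : A ⟶ B}
    (e : ∀ U : Y.affineOpens, ∀ x, secMap h U.1 x = secMap h' U.1 x) : h = h' :=
  Over.OverMorphism.ext (algHom_injective B.hom A.hom (Over.w h) (Over.w h') fun U => by
    ext x
    exact e U x)

variable {I : Type u} [Preorder I] [IsDirected I (fun a b => a ≤ b)] [Nonempty I]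
  {D : Iᵒᵖ ⥤ Over Y} (c : Cone D)

/-- The projections of a cone, with the cone point as source. -/
noncomputable abbrev cpr {J : Type u} [Category.{u} J] {F : J ⥤ Over Y} (s : Cone F) (i : J) : s.pt ⟶ F.obj i :=
  s.π.app i

theorem secMap_π {i j : I} (h : i ≤ j) (U : Y.Opens) (a : Γ((D.obj (op i)).left, (D.obj (op i)).hom ⁻¹ᵁ U)) :
    secMap (cpr c (op j)) U (secMap (D.map (homOfLE h).op) U a) = secMap (cpr c (op i)) U a := by
  rw [← secMap_comp]
  exact congrArg (fun t => secMap t U a) (c.w (homOfLE h).op)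

/-- **The limit criterion.** -/
theorem nonempty_isLimit_of_union [∀ i, IsAffineHom (D.obj i).hom] [IsAffineHom c.pt.hom]
    (hinj : ∀ (i : I) (U : Y.affineOpens), Function.Injective (secMap (cpr c (op i)) U.1))
    (hun : ∀ (U : Y.affineOpens) (b : Γ(c.pt.left, c.pt.hom ⁻¹ᵁ U.1)),
      ∃ (i : I) (a : _), secMap (cpr c (op i)) U.1 a = b) :
    Nonempty (IsLimit c) := by
  choose idx rep hrep using hun
  -- any two representatives of a section give the same value
  have key : ∀ (s : Cone D) (U : Y.affineOpens) {i j : I} (a : _) (a' : _),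
      secMap (cpr c (op i)) U.1 a = secMap (cpr c (op j)) U.1 a' →
      secMap (cpr s (op i)) U.1 a = secMap (cpr s (op j)) U.1 a' := by
    intro s U i j a a' h
    obtain ⟨k, hik, hjk⟩ := exists_ge_ge i j
    rw [← secMap_π s hik U.1 a, ← secMap_π s hjk U.1 a']
    congr 1
    apply hinj k U
    rw [secMap_π c hik U.1 a, secMap_π c hjk U.1 a', h]
  let val (s : Cone D) (U : Y.affineOpens) (b : Γ(c.pt.left, c.pt.hom ⁻¹ᵁ U.1)) :
      Γ(s.pt.left, s.pt.hom ⁻¹ᵁ U.1) := secMap (cpr s (op (idx U b))) U.1 (rep U b)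
  have hval : ∀ (s : Cone D) (U : Y.affineOpens) (i : I) (a : _),
      val s U (secMap (cpr c (op i)) U.1 a) = secMap (cpr s (op i)) U.1 a :=
    fun s U i a => key s U _ _ (hrep U _)
  let valHom (s : Cone D) (U : Y.affineOpens) :
      Γ(c.pt.left, c.pt.hom ⁻¹ᵁ U.1) →+* Γ(s.pt.left, s.pt.hom ⁻¹ᵁ U.1) :=
  { toFun := val s U
    map_one' := by
      obtain ⟨i⟩ := ‹Nonempty I›
      have := hval s U i 1
      simpa only [map_one] using this
    map_zero' := by
      obtain ⟨i⟩ := ‹Nonempty I›
      have := hval s U i 0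
      simpa only [map_zero] using this
    map_add' := fun b b' => by
      obtain ⟨k, hk, hk'⟩ := exists_ge_ge (idx U b) (idx U b')
      have h1 : secMap (cpr c (op k)) U.1 (secMap (D.map (homOfLE hk).op) U.1 (rep U b) +
          secMap (D.map (homOfLE hk').op) U.1 (rep U b')) = b + b' := by
        rw [map_add, secMap_π c hk, secMap_π c hk', hrep, hrep]
      have := hval s U k (secMap (D.map (homOfLE hk).op) U.1 (rep U b) +
          secMap (D.map (homOfLE hk').op) U.1 (rep U b'))
      rwa [h1, map_add, secMap_π s hk, secMap_π s hk'] at this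
    map_mul' := fun b b' => by
      obtain ⟨k, hk, hk'⟩ := exists_ge_ge (idx U b) (idx U b')
      have h1 : secMap (cpr c (op k)) U.1 (secMap (D.map (homOfLE hk).op) U.1 (rep U b) *
          secMap (D.map (homOfLE hk').op) U.1 (rep U b')) = b * b' := by
        rw [map_mul, secMap_π c hk, secMap_π c hk', hrep, hrep]
      have := hval s U k (secMap (D.map (homOfLE hk).op) U.1 (rep U b) *
          secMap (D.map (homOfLE hk').op) U.1 (rep U b'))
      rwa [h1, map_mul, secMap_π s hk, secMap_π s hk'] at this }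
  let νR (s : Cone D) : (Scheme.AffineZariskiSite.toOpensFunctor Y).op ⋙ AffAlg.alg c.pt.hom ⟶
      (Scheme.AffineZariskiSite.toOpensFunctor Y).op ⋙ AffAlg.alg s.pt.hom :=
  { app := fun U => CommRingCat.ofHom (valHom s ⟨U.unop.1, U.unop.2⟩)
    naturality := fun U V f => by
      ext b
      have le : V.unop.1 ≤ U.unop.1 := Scheme.AffineZariskiSite.toOpens_mono f.unop.le
      let U' : Y.affineOpens := ⟨U.unop.1, U.unop.2⟩
      let V' : Y.affineOpens := ⟨V.unop.1, V.unop.2⟩
      show val s V' (((AffAlg.alg c.pt.hom).map (homOfLE le).op).hom b) =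
        ((AffAlg.alg s.pt.hom).map (homOfLE le).op).hom (val s U' b)
      conv_lhs => rw [← hrep U' b]
      rw [← secMap_res (cpr c (op (idx U' b))) le, hval, secMap_res (cpr s (op (idx U' b))) le] }
  let ν (s : Cone D) : AffAlg.alg c.pt.hom ⟶ AffAlg.alg s.pt.hom :=
    Functor.IsCoverDense.restrictHomEquivHom (G := Scheme.AffineZariskiSite.toOpensFunctor Y)
      (K := Opens.grothendieckTopology Y) (ℱ := AffAlg.alg c.pt.hom)
      (ℱ' := (⟨AffAlg.alg s.pt.hom, TopCat.Sheaf.pushforward_sheaf_of_sheaf _ s.pt.left.sheaf.property⟩ :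
        TopCat.Sheaf CommRingCat.{u} Y.carrier)) (νR s)
  have hν : ∀ (s : Cone D) (U : Y.affineOpens) b, ((ν s).app (op U.1)).hom b = val s U b := by
    intro s U b
    have e := (Functor.IsCoverDense.restrictHomEquivHom (G := Scheme.AffineZariskiSite.toOpensFunctor Y)
      (K := Opens.grothendieckTopology Y) (ℱ := AffAlg.alg c.pt.hom)
      (ℱ' := (⟨AffAlg.alg s.pt.hom, TopCat.Sheaf.pushforward_sheaf_of_sheaf _ s.pt.left.sheaf.property⟩ :
        TopCat.Sheaf CommRingCat.{u} Y.carrier))).symm_apply_apply (νR s)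
    exact congr(($(e).app (op ⟨U.1, U.2⟩)).hom b)
  let ω (s : Cone D) : AffAlg.algHoms c.pt.hom s.pt.hom := ⟨ν s, hom_ext_affine s.pt.hom fun U hU => by
    ext r
    show ((ν s).app (op U)).hom ((c.pt.hom.app U).hom r) = (s.pt.hom.app U).hom r
    rw [hν s ⟨U, hU⟩]
    obtain ⟨i⟩ := ‹Nonempty I›
    rw [← secMap_str (cpr c (op i)) U r, hval s ⟨U, hU⟩ i]
    exact secMap_str (cpr s (op i)) U r⟩
  let m (s : Cone D) : s.pt ⟶ c.pt :=
    Over.homMk (ofAlgHom c.pt.hom s.pt.hom (ω s)) (ofAlgHom_comp _ _ _)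
  have hm : ∀ (s : Cone D) (U : Y.affineOpens) b, secMap (m s) U.1 b = val s U b := fun s U b =>
    (congr(($(algHom_ofAlgHom c.pt.hom s.pt.hom (ω s)).app (op U.1)).hom b)).trans (hν s U b)
  refine ⟨IsLimit.mk m (fun s ⟨i⟩ => hom_ext_secMap fun U x => ?_) fun s f hf =>
    hom_ext_secMap fun U x => ?_⟩
  · show secMap (m s ≫ cpr c (op i)) U.1 x = secMap (cpr s (op i)) U.1 x
    rw [secMap_comp, hm, hval]
  · conv_lhs => rw [← hrep U x]
    rw [hm, ← secMap_comp]
    exact congrArg (fun t => secMap t U.1 (rep U x)) (hf (op (idx U x)))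

/-- Forgetting the base preserves the limit. -/
theorem isLimit_left {c : Cone D} (hc : IsLimit c) :
    Nonempty (IsLimit ((Over.forget Y).mapCone c)) :=
  haveI : IsCofiltered Iᵒᵖ := inferInstance
  haveI : IsConnected Iᵒᵖ := IsCofiltered.isConnected _
  ⟨isLimitOfPreserves (Over.forget Y) hc⟩

end Groth.Agent.Approx
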