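import Mathlib.AlgebraicGeometry.AffineScheme
import Mathlib.Topology.Sheaves.SheafCondition.UniqueGluing

/-!
# Sheaves of sets from presheaves on affine opens with binary standard gluing
-/

set_option autoImplicit false
set_option backward.isDefEq.respectTransparency false
set_option backward.isDefEq.respectTransparency.types false

universe u

open CategoryTheory AlgebraicGeometry TopologicalSpace Opposite

namespace Groth.Agent.Approx.AffineSheaf

variable {X : Scheme.{u}} (F : (X.affineOpens)ᵒᵖ ⥤ Type u)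

/-- Restriction. -/
def res {U V : X.affineOpens} (h : V ≤ U) (s : F.obj (op U)) : F.obj (op V) := F.map (homOfLE h).op s

theorem res_self {U : X.affineOpens} (h : U ≤ U) (s : F.obj (op U)) : res F h s = s := by
  show F.map (homOfLE h).op s = s
  rw [show (homOfLE h).op = 𝟙 (op U) from rfl, F.map_id]
  rfl

theorem res_res {U V W : X.affineOpens} (h : V ≤ U) (h' : W ≤ V) (s : F.obj (op U)) :
    res F h' (res F h s) = res F (h'.trans h) s := by
  show F.map (homOfLE h').op (F.map (homOfLE h).op s) = F.map (homOfLE (h'.trans h)).op s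
  rw [← ConcreteCategory.comp_apply, ← F.map_comp]
  rfl

/-- The binary gluing condition. -/
structure Good (E : X.affineOpens) : Prop where
  empty : (E : X.Opens) = ⊥
  nonempty : Nonempty (F.obj (op E))
  subsingleton : Subsingleton (F.obj (op E))
  inj : ∀ {U V W : X.affineOpens} (f g : Γ(X, (U : X.Opens))), (V : X.Opens) = X.basicOpen f →
    (W : X.Opens) = X.basicOpen g → (U : X.Opens) = (V : X.Opens) ⊔ (W : X.Opens) →
    ∀ (hV : V ≤ U) (hW : W ≤ U) (s s' : F.obj (op U)), res F hV s = res F hV s' →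
    res F hW s = res F hW s' → s = s'
  glue : ∀ {U V W VW : X.affineOpens} (f g : Γ(X, (U : X.Opens))), (V : X.Opens) = X.basicOpen f →
    (W : X.Opens) = X.basicOpen g → (VW : X.Opens) = X.basicOpen (f * g) →
    (U : X.Opens) = (V : X.Opens) ⊔ (W : X.Opens) →
    ∀ (hV : V ≤ U) (hW : W ≤ U) (h1 : VW ≤ V) (h2 : VW ≤ W) (a : F.obj (op V)) (b : F.obj (op W)),
    res F h1 a = res F h2 b → ∃ s, res F hV s = a ∧ res F hW s = b

variable {F}

/-- The affine open `D(f)`. -/
def D {U : X.affineOpens} (f : Γ(X, (U : X.Opens))) : X.affineOpens := ⟨X.basicOpen f, U.2.basicOpen f⟩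

theorem D_le {U : X.affineOpens} (f : Γ(X, (U : X.Opens))) : D f ≤ U := X.basicOpen_le f

theorem union_eq {U : X.affineOpens} (a b : Γ(X, (U : X.Opens))) (h : Ideal.span {a, b} = ⊤) :
    (U : X.Opens) = X.basicOpen a ⊔ X.basicOpen b := by
  refine le_antisymm ((U.2.self_le_iSup_basicOpen_iff.2 h).trans (iSup_le ?_))
    (sup_le (X.basicOpen_le a) (X.basicOpen_le b))
  rintro ⟨c, rfl | rfl⟩
  · exact le_sup_left
  · exact le_sup_right

variable {E : X.affineOpens} (hE : Good F E) {S : X.affineOpens → Prop}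
  (hS : ∀ W W', W' ≤ W → S W → S W') (t : ∀ W, S W → F.obj (op W))
  (ht : ∀ W W' (h : W' ≤ W) (hW : S W) (hW' : S W'), res F h (t W hW) = t W' hW')

include hE hS ht in
theorem existsUnique_glue_fin (n : ℕ) : ∀ (U : X.affineOpens) (f : Fin n → Γ(X, (U : X.Opens))),
    Ideal.span (Set.range f) = ⊤ → (∀ k, S (D (f k))) →
    ∃! s : F.obj (op U), ∀ (W : X.affineOpens) (hW : S W) (h : W ≤ U), res F h s = t W hW := by
  induction n with
  | zero =>
    intro U f hf _
    have hU : (U : X.Opens) = ⊥ := by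
      refine le_bot_iff.1 ?_
      rw [← (U.2.iSup_basicOpen_eq_self_iff).2 hf]
      exact iSup_le fun ⟨_, k, _⟩ => k.elim0
    have hUE : U = E := Subtype.ext (hU.trans hE.empty.symm)
    subst hUE
    obtain ⟨e⟩ := hE.nonempty
    haveI := hE.subsingleton
    refine ⟨e, fun W hW h => ?_, fun y _ => Subsingleton.elim _ _⟩
    obtain rfl : W = U := Subtype.ext ((le_bot_iff.1 (hU ▸ h : (W : X.Opens) ≤ ⊥)).trans hU.symm)
    exact Subsingleton.elim _ _
  | succ n ih =>
    intro U f hf hfS
    rw [Ideal.eq_top_iff_one, Ideal.mem_span_range_iff_exists_fun] at hf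
    obtain ⟨c, hc⟩ := hf
    rw [Fin.sum_univ_succ] at hc
    generalize hg : (∑ i : Fin n, c i.succ * f i.succ) = g at hc
    let Vg : X.affineOpens := D g
    have hVg : Vg ≤ U := D_le g
    let ρ : Γ(X, (U : X.Opens)) ⟶ Γ(X, (Vg : X.Opens)) := X.presheaf.map (homOfLE hVg).op
    have hunit : IsUnit (ρ g) := RingedSpace.isUnit_res_basicOpen X.toRingedSpace g
    have hf' : Ideal.span (Set.range fun i : Fin n => ρ (f i.succ)) = ⊤ := by
      refine Ideal.eq_top_of_isUnit_mem _ ?_ hunit
      rw [← hg, map_sum]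
      refine sum_mem fun i _ => ?_
      rw [map_mul]
      exact Ideal.mul_mem_left _ _ (Ideal.subset_span ⟨i, rfl⟩)
    have hfS' : ∀ i : Fin n, S (D (ρ (f i.succ))) := fun i => by
      refine hS _ _ ?_ (hfS i.succ)
      show X.basicOpen (ρ (f i.succ)) ≤ X.basicOpen (f i.succ)
      exact X.basicOpen_restrict (homOfLE hVg) (f i.succ) |>.trans le_rfl
    obtain ⟨b, hb, hbu⟩ := ih Vg _ hf' hfS'
    let V₀ : X.affineOpens := D (f 0)
    have hV₀ : V₀ ≤ U := D_le (f 0)
    have hcov : ∀ {W : X.affineOpens} (hW : W ≤ U),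
        (W : X.Opens) = X.basicOpen (X.presheaf.map (homOfLE hW).op (f 0)) ⊔
          X.basicOpen (X.presheaf.map (homOfLE hW).op g) := by
      intro W hW
      refine union_eq _ _ ?_
      rw [Ideal.eq_top_iff_one, ← map_one (X.presheaf.map (homOfLE (show (W : X.Opens) ≤ (U : X.Opens) from hW)).op).hom, ← hc, map_add, map_mul]
      exact add_mem (Ideal.mul_mem_left _ _ (Ideal.subset_span (Set.mem_insert _ _)))
        (Ideal.subset_span (Set.mem_insert_of_mem _ rfl))
    have hres : ∀ {W : X.affineOpens} (hW : W ≤ U) (q : Γ(X, (U : X.Opens))),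
        X.basicOpen (X.presheaf.map (homOfLE hW).op q) = (W : X.Opens) ⊓ X.basicOpen q :=
      fun hW q => X.basicOpen_res q _
    let V₀g : X.affineOpens := D (f 0 * g)
    have h1 : V₀g ≤ V₀ := by
      show X.basicOpen (f 0 * g) ≤ X.basicOpen (f 0)
      rw [Scheme.basicOpen_mul]
      exact inf_le_left
    have h2 : V₀g ≤ Vg := by
      show X.basicOpen (f 0 * g) ≤ X.basicOpen g
      rw [Scheme.basicOpen_mul]
      exact inf_le_right
    have hUcov : (U : X.Opens) = (V₀ : X.Opens) ⊔ (Vg : X.Opens) := by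
      refine union_eq _ _ ?_
      rw [Ideal.eq_top_iff_one, ← hc]
      exact add_mem (Ideal.mul_mem_left _ _ (Ideal.subset_span (Set.mem_insert _ _)))
        (Ideal.subset_span (Set.mem_insert_of_mem _ rfl))
    obtain ⟨s, hs1, hs2⟩ := hE.glue (f 0) g (V := V₀) (W := Vg) (VW := V₀g) rfl rfl rfl hUcov hV₀ hVg h1 h2
      (t V₀ (hfS 0)) b (by rw [ht _ _ h1 (hfS 0) (hS _ _ h1 (hfS 0)), hb _ (hS _ _ h1 (hfS 0)) h2])
    refine ⟨s, fun W hW h => ?_, fun s' hs' => ?_⟩
    · have hWV : D (X.presheaf.map (homOfLE h).op (f 0)) ≤ V₀ := by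
        show X.basicOpen _ ≤ X.basicOpen _
        rw [hres]
        exact inf_le_right
      have hWg : D (X.presheaf.map (homOfLE h).op g) ≤ Vg := by
        show X.basicOpen _ ≤ X.basicOpen _
        rw [hres]
        exact inf_le_right
      refine hE.inj (X.presheaf.map (homOfLE h).op (f 0)) (X.presheaf.map (homOfLE h).op g)
        (V := D (X.presheaf.map (homOfLE h).op (f 0)))
        (W := D (X.presheaf.map (homOfLE h).op g)) rfl rfl (hcov h) (D_le _) (D_le _) _ _ ?_ ?_
      · rw [res_res, ← res_res F hV₀ hWV, hs1, ht _ _ hWV (hfS 0) (hS _ _ hWV (hfS 0)), ht]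
      · rw [res_res, ← res_res F hVg hWg, hs2, hb _ (hS _ _ (D_le _) hW) hWg, ht]
    · refine hE.inj (f 0) g (V := V₀) (W := Vg) rfl rfl hUcov hV₀ hVg _ _ ?_ ?_
      · rw [hs1, hs' V₀ (hfS 0) hV₀]
      · rw [hs2]
        exact hbu _ fun W hW h => by rw [res_res, hs' W hW]

include hE hS ht in
theorem existsUnique_glue (U : X.affineOpens) (hcover : ∀ x ∈ (U : X.Opens), ∃ W, S W ∧ x ∈ (W : X.Opens)) :
    ∃! s : F.obj (op U), ∀ (W : X.affineOpens) (hW : S W) (h : W ≤ U), res F h s = t W hW := by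
  let A : Set Γ(X, (U : X.Opens)) := {q | S (D q)}
  have hA : Ideal.span A = ⊤ := by
    rw [← U.2.iSup_basicOpen_eq_self_iff]
    refine le_antisymm (iSup_le fun q => X.basicOpen_le _) fun x hx => ?_
    obtain ⟨W, hW, hxW⟩ := hcover x hx
    obtain ⟨q, hq, hxq⟩ := U.2.exists_basicOpen_le ⟨x, hxW⟩ hx
    exact Opens.mem_iSup.2 ⟨⟨q, hS _ (D q) hq hW⟩, hxq⟩
  obtain ⟨T, hTA, hT⟩ := Submodule.mem_span_finite_of_mem_span ((Ideal.eq_top_iff_one _).1 hA)
  have hspan : Ideal.span (Set.range fun k : Fin T.card => (T.equivFin.symm k : Γ(X, (U : X.Opens)))) = ⊤ := by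
    rw [Ideal.eq_top_iff_one]
    refine Ideal.span_mono ?_ hT
    intro q hq
    exact ⟨T.equivFin ⟨q, hq⟩, by simp⟩
  exact existsUnique_glue_fin hE hS t ht _ U _ hspan fun k => hTA (T.equivFin.symm k).2

variable (F)

/-- Compatible families over the affine opens inside an open. -/
def Fam (O : X.Opens) : Type u :=
  {s : ∀ U : X.affineOpens, (U : X.Opens) ≤ O → F.obj (op U) //
    ∀ (U V : X.affineOpens) (hU : (U : X.Opens) ≤ O) (h : V ≤ U), res F h (s U hU) = s V (le_trans (show (V : X.Opens) ≤ (U : X.Opens) from h) hU)}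

/-- The presheaf of compatible families. -/
def famPresheaf : (Opens ↥X)ᵒᵖ ⥤ Type u where
  obj O := Fam F O.unop
  map i := ↾fun s => ⟨fun U hU => s.1 U (hU.trans i.unop.le), fun U V hU h => s.2 U V _ h⟩
  map_id O := by
    ext s
    exact Subtype.ext rfl
  map_comp i j := by
    ext s
    exact Subtype.ext rfl

variable {F}

theorem famPresheaf_map_val {O O' : (Opens ↥X)ᵒᵖ} (i : O ⟶ O') (s : Fam F O.unop) (U : X.affineOpens)
    (hU : (U : X.Opens) ≤ O'.unop) :
    ((show Fam F O'.unop from (famPresheaf F).map i s)).1 U hU = s.1 U (hU.trans i.unop.le) := rfl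

include hE in
theorem isSheaf_famPresheaf : TopCat.Presheaf.IsSheaf (X := X.carrier) (famPresheaf F) := by
  refine TopCat.Presheaf.isSheaf_of_isSheafUniqueGluing_types _ fun ι O sf hsf => ?_
  let sf' : ∀ i, Fam F (O i) := sf
  have hcompat : ∀ i j (W : X.affineOpens) (hi : (W : X.Opens) ≤ O i) (hj : (W : X.Opens) ≤ O j),
      (sf' i).1 W hi = (sf' j).1 W hj := fun i j W hi hj =>
    congrArg (fun z : Fam F (O i ⊓ O j) => z.1 W (le_inf hi hj)) (hsf i j)
  let S : X.affineOpens → Prop := fun W => ∃ i, (W : X.Opens) ≤ O i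
  have hS : ∀ W W', W' ≤ W → S W → S W' := fun W W' h ⟨i, hi⟩ => ⟨i, le_trans (show (W' : X.Opens) ≤ (W : X.Opens) from h) hi⟩
  let t : ∀ W, S W → F.obj (op W) := fun W hW => (sf' hW.choose).1 W hW.choose_spec
  have htv : ∀ W (hW : S W) i (hi : (W : X.Opens) ≤ O i), t W hW = (sf' i).1 W hi :=
    fun W hW i hi => hcompat _ _ W _ hi
  have ht : ∀ W W' (h : W' ≤ W) (hW : S W) (hW' : S W'), res F h (t W hW) = t W' hW' := by
    intro W W' h hW hW'
    rw [(sf' hW.choose).2 W W' hW.choose_spec h]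
    exact (htv W' hW' _ _).symm
  have hex : ∀ (U : X.affineOpens), (U : X.Opens) ≤ iSup O →
      ∃! s : F.obj (op U), ∀ (W : X.affineOpens) (hW : S W) (h : W ≤ U), res F h s = t W hW := by
    intro U hU
    refine existsUnique_glue hE hS t ht U fun x hx => ?_
    obtain ⟨i, hi⟩ := Opens.mem_iSup.1 (hU hx)
    obtain ⟨q, hq, hxq⟩ := U.2.exists_basicOpen_le ⟨x, hi⟩ hx
    exact ⟨D q, ⟨i, hq⟩, hxq⟩
  let g : Fam F (iSup O) := ⟨fun U hU => (hex U hU).exists.choose, fun U V hU h =>
    (hex V (le_trans (show (V : X.Opens) ≤ (U : X.Opens) from h) hU)).unique (fun W hW hWV => by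
      rw [res_res]; exact (hex U hU).exists.choose_spec W hW _) (hex V (le_trans (show (V : X.Opens) ≤ (U : X.Opens) from h) hU)).exists.choose_spec⟩
  refine ⟨g, fun i => ?_, fun g' hg' => ?_⟩
  · refine Subtype.ext (funext fun U => funext fun hU => ?_)
    show g.1 U (hU.trans (le_iSup O i)) = (sf' i).1 U hU
    have := (hex U (hU.trans (le_iSup O i))).exists.choose_spec U ⟨i, hU⟩ le_rfl
    rw [res_self] at this
    exact this.trans (htv U ⟨i, hU⟩ i hU)
  · refine Subtype.ext (funext fun U => funext fun hU => ?_)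
    refine (hex U hU).unique (fun W hW h => ?_) (hex U hU).exists.choose_spec
    show res F h ((show Fam F (iSup O) from g').1 U hU) = _
    rw [(show Fam F (iSup O) from g').2 U W hU h, htv W hW hW.choose hW.choose_spec]
    exact congrArg (fun z : Fam F (O hW.choose) => z.1 W hW.choose_spec) (hg' hW.choose)

/-- Sections over an affine open. -/
def famEquiv (U : X.affineOpens) : Fam F (U : X.Opens) ≃ F.obj (op U) where
  toFun s := s.1 U le_rfl
  invFun a := ⟨fun V hV => res F (U := U) hV a, fun V W hV h => res_res F _ h a⟩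
  left_inv s := Subtype.ext (funext fun V => funext fun hV => s.2 U V le_rfl hV)
  right_inv a := res_self F le_rfl a

include hE in
theorem exists_sheaf : ∃ G : TopCat.Sheaf (Type u) X.carrier,
    Nonempty ((Monotone.functor (f := fun U : X.affineOpens => (U : X.Opens)) (fun _ _ h => h)).op ⋙ G.1 ≅ F) := by
  refine ⟨⟨famPresheaf F, isSheaf_famPresheaf hE⟩, ⟨NatIso.ofComponents
    (fun U => (famEquiv U.unop).toIso) fun {U V} i => ?_⟩⟩
  ext s
  exact ((show Fam F _ from s).2 U.unop V.unop le_rfl i.unop.le).symm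

end Groth.Agent.Approx.AffineSheaf
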