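import Groth.Agent.Approx.Basic
import Mathlib.AlgebraicGeometry.AffineScheme
import Mathlib.RingTheory.FiniteType

/-!
# Extending a model of a quasi-compact open over an affine open
-/

set_option autoImplicit false
set_option backward.isDefEq.respectTransparency false
set_option backward.isDefEq.respectTransparency.types false

universe u

open CategoryTheory CategoryTheory.Limits AlgebraicGeometry TopologicalSpace Opposite

namespace Groth.Agent.Approx

/-- The spectrum of a finitely generated ring is of finite type over the integers. -/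
theorem ftz_spec (A : Type u) [CommRing A] (G : Finset A) (hG : Subring.closure (G : Set A) = ⊤) :
    FTZ (Spec (CommRingCat.of A)) := by
  let φ : ULift.{u} ℤ →+* A := (Int.castRingHom A).comp ULift.ringEquiv.toRingHom
  have e : IsTerminal.from specULiftZIsTerminal (Spec (CommRingCat.of A)) = Spec.map (CommRingCat.ofHom φ) :=
    specULiftZIsTerminal.hom_ext _ _
  show LocallyOfFiniteType _
  rw [e, HasRingHomProperty.Spec_iff (P := @LocallyOfFiniteType)]
  letI := φ.toAlgebra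
  refine (show Algebra.FiniteType (ULift.{u} ℤ) A from ⟨⟨G, top_unique fun x _ => ?_⟩⟩)
  have hx : x ∈ Subring.closure (G : Set A) := hG ▸ Subring.mem_top x
  exact (Subring.closure_le (t := (Algebra.adjoin (ULift.{u} ℤ) (G : Set A)).toSubring)).2
    Algebra.subset_adjoin hx

variable {V S V1 : Scheme.{u}} (j : V ⟶ S) [IsOpenImmersion j]

/-- A section over `j ⁻¹ U` times a power of `f` extends to `U`. -/
theorem exists_lift [QuasiSeparatedSpace V] (U : S.Opens) (hU : IsAffineOpen U)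
    (hW : IsCompact ((j ⁻¹ᵁ U : V.Opens) : Set V)) (f : Γ(S, U)) (hf : S.basicOpen f ≤ j.opensRange)
    (s : Γ(V, j ⁻¹ᵁ U)) :
    ∃ (m : ℕ) (b : Γ(S, U)), (j.app U).hom b = (j.app U).hom f ^ m * s := by
  set a := (j.app U).hom with hadef
  have hD : j ⁻¹ᵁ S.basicOpen f = V.basicOpen (a f) := Scheme.preimage_basicOpen j f
  haveI : IsIso (j.app (S.basicOpen f)) := j.isIso_app _ hf
  obtain ⟨x, hx⟩ := (ConcreteCategory.bijective_of_isIso (j.app (S.basicOpen f))).2
    ((V.presheaf.map (homOfLE (j.preimage_mono (S.basicOpen_le f))).op).hom s)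
  haveI := hU.isLocalization_basicOpen f
  obtain ⟨k, b, hb⟩ := IsLocalization.Away.surj f x
  have hnat : ∀ y, (j.app (S.basicOpen f)).hom (algebraMap Γ(S, U) Γ(S, S.basicOpen f) y) =
      (V.presheaf.map (homOfLE (j.preimage_mono (S.basicOpen_le f))).op).hom (a y) :=
    fun y => congr($(j.naturality (homOfLE (S.basicOpen_le f)).op) y)
  have h1 : (V.presheaf.map (homOfLE (j.preimage_mono (S.basicOpen_le f))).op).hom (a b - a f ^ k * s) = 0 := by
    have h2 := congrArg (j.app (S.basicOpen f)).hom hb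
    rw [map_mul, map_pow, hnat, hnat] at h2
    rw [map_sub, map_mul, map_pow, ← h2, sub_eq_zero, mul_comm]
    exact congrArg (_ * ·) hx
  have h3 : (V.presheaf.map (homOfLE (V.basicOpen_le (a f))).op).hom (a b - a f ^ k * s) = 0 := by
    have h4 := congrArg (V.presheaf.map (eqToHom hD.symm).op).hom h1
    rw [map_zero, ← CommRingCat.comp_apply, ← Functor.map_comp] at h4
    exact h4
  obtain ⟨l, hl⟩ := exists_pow_mul_eq_zero_of_res_basicOpen_eq_zero_of_isCompact V hW _ (a f) h3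
  refine ⟨l + k, f ^ l * b, ?_⟩
  rw [map_mul, map_pow]
  rw [mul_sub, sub_eq_zero] at hl
  rw [hl, pow_add, mul_assoc]

/-- The ring of functions on a basic open of the model is a localization of the chart. -/
theorem isLocalization_away (U : S.Opens) (hU : IsAffineOpen U) (f : Γ(S, U))
    (hf : S.basicOpen f ≤ j.opensRange) (A : Subring Γ(S, U)) {W1 : V1.Opens} (φ : A →+* Γ(V1, W1))
    (ι1 : Γ(V1, W1) →+* Γ(V, j ⁻¹ᵁ U)) (hι1 : Function.Injective ι1)
    (hφ : ∀ x : A, ι1 (φ x) = (j.app U).hom x.1) (hfA : f ∈ A) (t : Γ(V1, W1)) (ht : ι1 t = (j.app U).hom f)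
    [IsLocalization.Away t Γ(V1, V1.basicOpen t)]
    (G : Finset Γ(V1, V1.basicOpen t)) (hG : Subring.closure (G : Set Γ(V1, V1.basicOpen t)) = ⊤)
    (hgen : ∀ y ∈ G, ∃ (k : ℕ) (x : A), y * algebraMap Γ(V1, W1) Γ(V1, V1.basicOpen t) t ^ k =
      algebraMap Γ(V1, W1) Γ(V1, V1.basicOpen t) (φ x)) :
    letI := ((algebraMap Γ(V1, W1) Γ(V1, V1.basicOpen t)).comp φ).toAlgebra
    IsLocalization.Away (⟨f, hfA⟩ : A) Γ(V1, V1.basicOpen t) := by
  let res := algebraMap Γ(V1, W1) Γ(V1, V1.basicOpen t)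
  letI := (res.comp φ).toAlgebra
  have hφf : φ ⟨f, hfA⟩ = t := hι1 ((hφ _).trans ht.symm)
  refine IsLocalization.Away.mk _ ?_ ?_ ?_
  · show IsUnit (res (φ ⟨f, hfA⟩))
    rw [hφf]
    exact IsLocalization.Away.algebraMap_isUnit t
  · intro z
    suffices hz' : ∃ (k : ℕ) (x : A), z * res t ^ k = res (φ x) by
      obtain ⟨k, x, h⟩ := hz'
      exact ⟨k, x, by show z * res (φ ⟨f, hfA⟩) ^ k = res (φ x); rw [hφf]; exact h⟩
    have hz' : z ∈ Subring.closure (G : Set Γ(V1, V1.basicOpen t)) := hG.symm ▸ Subring.mem_top z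
    induction hz' using Subring.closure_induction with
    | mem y hy => exact hgen y hy
    | zero => exact ⟨0, 0, by simp⟩
    | one => exact ⟨0, 1, by simp⟩
    | add y w _ _ hy hw =>
      obtain ⟨k, x, hx⟩ := hy
      obtain ⟨l, x', hx'⟩ := hw
      refine ⟨k + l, x * (⟨f, hfA⟩ : A) ^ l + x' * (⟨f, hfA⟩ : A) ^ k, ?_⟩
      simp only [map_add, map_mul, map_pow, hφf, ← hx, ← hx']
      ring
    | neg y _ hy =>
      obtain ⟨k, x, hx⟩ := hy
      exact ⟨k, -x, by simp only [map_neg, neg_mul, hx]⟩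
    | mul y w _ _ hy hw =>
      obtain ⟨k, x, hx⟩ := hy
      obtain ⟨l, x', hx'⟩ := hw
      refine ⟨k + l, x * x', ?_⟩
      simp only [map_mul, ← hx, ← hx']
      ring
  · intro x y hxy
    have h1 : res (φ x) = res (φ y) := hxy
    obtain ⟨m, hm⟩ := IsLocalization.Away.exists_of_eq t h1
    have h2 : (j.app U).hom (f ^ m * x.1) = (j.app U).hom (f ^ m * y.1) := by
      have := congrArg ι1 hm
      simp only [map_mul, map_pow, hφ, ht] at this ⊢
      exact this
    haveI : IsIso (j.app (S.basicOpen f)) := j.isIso_app _ hf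
    haveI := hU.isLocalization_basicOpen f
    have hnat : ∀ y, (j.app (S.basicOpen f)).hom (algebraMap Γ(S, U) Γ(S, S.basicOpen f) y) =
        (V.presheaf.map (homOfLE (j.preimage_mono (S.basicOpen_le f))).op).hom ((j.app U).hom y) :=
      fun y => congr($(j.naturality (homOfLE (S.basicOpen_le f)).op) y)
    have h3 : algebraMap Γ(S, U) Γ(S, S.basicOpen f) (f ^ m * x.1) =
        algebraMap Γ(S, U) Γ(S, S.basicOpen f) (f ^ m * y.1) :=
      (ConcreteCategory.bijective_of_isIso (j.app (S.basicOpen f))).1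
        ((hnat _).trans ((congrArg _ h2).trans (hnat _).symm))
    obtain ⟨k, hk⟩ := IsLocalization.Away.exists_of_eq f h3
    refine ⟨k + m, Subtype.ext ?_⟩
    show f ^ (k + m) * x.1 = f ^ (k + m) * y.1
    rw [pow_add, mul_assoc, mul_assoc, hk]

/-- **The chart.** -/
theorem exists_chart [QuasiSeparatedSpace V] (U : S.Opens) (hU : IsAffineOpen U) (F : Finset Γ(S, U))
    (hF : ∀ f ∈ F, S.basicOpen f ≤ j.opensRange)
    (hW : IsCompact ((j ⁻¹ᵁ U : V.Opens) : Set V))
    (p : V ⟶ V1) [IsSchemeTheoreticallyDominant p] [QuasiCompact p] (hft : FTZ V1)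
    (W1 : V1.Opens) (hW1 : IsCompact (W1 : Set V1)) (heq : p ⁻¹ᵁ W1 = j ⁻¹ᵁ U)
    (t : F → Γ(V1, W1))
    (ht : ∀ f, (p.appLE W1 (j ⁻¹ᵁ U) heq.ge).hom (t f) = (j.app U).hom f.1)
    (hO : ∀ f, IsAffineOpen (V1.basicOpen (t f))) (hcov : W1 ≤ ⨆ f, V1.basicOpen (t f)) :
    ∃ (A : Subring Γ(S, U)) (φ : A →+* Γ(V1, W1)) (hFA : ∀ f ∈ F, f ∈ A),
      FTZ (Spec (CommRingCat.of A)) ∧
      (∀ x : A, (p.appLE W1 (j ⁻¹ᵁ U) heq.ge).hom (φ x) = (j.app U).hom x.1) ∧
      ∃ _ : IsOpenImmersion (W1.toSpecΓ ≫ Spec.map (CommRingCat.ofHom φ)),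
        (W1.toSpecΓ ≫ Spec.map (CommRingCat.ofHom φ)).opensRange =
          ⨆ f : F, PrimeSpectrum.basicOpen (⟨f.1, hFA f.1 f.2⟩ : A) := by
  classical
  haveI := isLocallyNoetherian_of_ftz hft
  haveI := quasiSeparatedSpace_of_ftz hft
  set ι1 := (p.appLE W1 (j ⁻¹ᵁ U) heq.ge).hom with hι1def
  have hι1 : Function.Injective ι1 := by
    have key : ∀ (W : V.Opens) (e : W ≤ p ⁻¹ᵁ W1), W = p ⁻¹ᵁ W1 → Function.Injective (p.appLE W1 W e).hom := by
      rintro W e rfl
      rw [Scheme.Hom.appLE_eq_app]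
      exact p.app_injective W1
    exact key _ heq.ge heq.symm
  set a := (j.app U).hom with hadef
  have hD : ∀ f : Γ(S, U), j ⁻¹ᵁ S.basicOpen f = V.basicOpen (a f) := fun f => Scheme.preimage_basicOpen j f
  -- lifting sections times powers
  have lift : ∀ (f : F) (s : Γ(V, j ⁻¹ᵁ U)), ∃ (m : ℕ) (b : Γ(S, U)), a b = a f.1 ^ m * s :=
    fun f s => exists_lift j U hU hW f.1 (hF f.1 f.2) s
  -- generators on each affine open
  have hgen := fun f : F => finiteType_sections hft (hO f)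
  choose G hG using hgen
  have hW1qs : IsQuasiSeparated (W1 : Set V1) := IsQuasiSeparated.of_quasiSeparatedSpace _
  haveI hloc : ∀ f : F, IsLocalization.Away (t f) Γ(V1, V1.basicOpen (t f)) := fun f =>
    isLocalization_basicOpen_of_qcqs hW1 hW1qs (t f)
  have num : ∀ (f : F) (z : Γ(V1, V1.basicOpen (t f))), ∃ (n : ℕ) (b : Γ(S, U)) (r : Γ(V1, W1)),
      ι1 r = a b ∧ z * algebraMap Γ(V1, W1) Γ(V1, V1.basicOpen (t f)) (t f) ^ n =
        algebraMap Γ(V1, W1) Γ(V1, V1.basicOpen (t f)) r := by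
    intro f z
    obtain ⟨n, r, hr⟩ := IsLocalization.Away.surj (t f) z
    obtain ⟨m, b, hb⟩ := lift f (ι1 r)
    refine ⟨n + m, b, t f ^ m * r, ?_, ?_⟩
    · rw [map_mul, map_pow, hι1def, ht f, ← hι1def, hb]
    · rw [pow_add, ← mul_assoc, hr, map_mul, map_pow, mul_comm]
  choose n b r hr hz using num
  let GA : Finset Γ(S, U) := F ∪ F.attach.biUnion fun f => (G f).image (b f)
  obtain ⟨A, hAdef⟩ : ∃ A : Subring Γ(S, U), A = Subring.closure (GA : Set Γ(S, U)) := ⟨_, rfl⟩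
  have hA : ∀ x ∈ A, a x ∈ ι1.range := by
    intro x hx
    rw [hAdef] at hx
    refine (Subring.closure_le (t := ι1.range.comap a)).2 (fun y hy => ?_) hx
    rcases Finset.mem_union.1 hy with hy | hy
    · exact ⟨t ⟨y, hy⟩, ht ⟨y, hy⟩⟩
    · obtain ⟨f, -, hy⟩ := Finset.mem_biUnion.1 hy
      obtain ⟨z, -, rfl⟩ := Finset.mem_image.1 hy
      exact ⟨r f z, hr f z⟩
  obtain ⟨φ, hφ⟩ : ∃ φ : A →+* Γ(V1, W1), ∀ x : A, ι1 (φ x) = a x.1 := by
    let e : Γ(V1, W1) ≃+* ι1.range := RingEquiv.ofBijective ι1.rangeRestrict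
      ⟨fun x y h => hι1 (congrArg Subtype.val h), ι1.rangeRestrict_surjective⟩
    exact ⟨e.symm.toRingHom.comp ((a.comp A.subtype).codRestrict ι1.range fun x => hA x.1 x.2),
      fun x => congrArg Subtype.val (e.apply_symm_apply ⟨a x.1, hA x.1 x.2⟩)⟩
  have hFA : ∀ f ∈ F, f ∈ A := fun f hf => hAdef ▸ Subring.subset_closure (Finset.mem_union_left _ hf)
  have hφt : ∀ f : F, φ ⟨f.1, hFA f.1 f.2⟩ = t f := fun f => hι1 ((hφ _).trans (ht f).symm)
  -- the local open immersions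
  have hAway : ∀ f : F,
      letI := ((algebraMap Γ(V1, W1) Γ(V1, V1.basicOpen (t f))).comp φ).toAlgebra
      IsLocalization.Away (⟨f.1, hFA f.1 f.2⟩ : A) Γ(V1, V1.basicOpen (t f)) := fun f =>
    isLocalization_away j U hU f.1 (hF f.1 f.2) A φ ι1 hι1 hφ (hFA f.1 f.2) (t f) (ht f) (G f) (hG f)
      fun y hy => ⟨n f y, ⟨b f y, hAdef ▸ Subring.subset_closure (Finset.mem_union_right _
        (Finset.mem_biUnion.2 ⟨f, Finset.mem_attach _ _, Finset.mem_image_of_mem _ hy⟩))⟩, by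
        rw [hz f y]
        exact congrArg _ (hι1 ((hr f y).trans (hφ ⟨b f y, _⟩).symm))⟩
  have hftA : FTZ (Spec (CommRingCat.of A)) := by
    refine ftz_spec A (GA.attach.image fun y => ⟨y.1, hAdef ▸ Subring.subset_closure y.2⟩) ?_
    have h : Subring.map A.subtype (Subring.closure
        ((GA.attach.image fun y => (⟨y.1, hAdef ▸ Subring.subset_closure y.2⟩ : A) : Finset A) : Set A)) =
        Subring.map A.subtype ⊤ := by
      rw [RingHom.map_closure, ← RingHom.range_eq_map, Subring.range_subtype]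
      refine Eq.trans ?_ hAdef.symm
      congr 1
      ext y
      simpa using fun hy => hAdef ▸ Subring.subset_closure hy
    have h' := congrArg (Subring.comap A.subtype) h
    rwa [Subring.comap_map_eq_self_of_injective A.subtype_injective,
      Subring.comap_map_eq_self_of_injective A.subtype_injective] at h'
  refine ⟨A, φ, hFA, hftA, hφ, ?_⟩
  set ψ := W1.toSpecΓ ≫ Spec.map (CommRingCat.ofHom φ) with hψdef
  let Uf : F → (Spec (CommRingCat.of A)).Opens := fun f => PrimeSpectrum.basicOpen (⟨f.1, hFA f.1 f.2⟩ : A)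
  have hpre : ∀ f : F, ψ ⁻¹ᵁ Uf f = W1.ι ⁻¹ᵁ V1.basicOpen (t f) := by
    intro f
    rw [hψdef, Scheme.Hom.comp_preimage]
    show W1.toSpecΓ ⁻¹ᵁ PrimeSpectrum.basicOpen (φ ⟨f.1, hFA f.1 f.2⟩) = _
    rw [hφt f]
    exact Scheme.Opens.toSpecΓ_preimage_basicOpen W1 (t f)
  let q : ∀ f : F, (V1.basicOpen (t f) : Scheme.{u}) ⟶ W1 := fun f => V1.homOfLE (V1.basicOpen_le (t f))
  have hqr : ∀ f, (q f).opensRange = ψ ⁻¹ᵁ Uf f := fun f => by
    rw [hpre f]
    exact Scheme.opensRange_homOfLE _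
  have hqψ : ∀ f, q f ≫ ψ = (hO f).isoSpec.hom ≫
      Spec.map (CommRingCat.ofHom ((algebraMap Γ(V1, W1) Γ(V1, V1.basicOpen (t f))).comp φ)) := by
    intro f
    rw [hψdef, CommRingCat.ofHom_comp, Spec.map_comp, ← Category.assoc, ← Category.assoc]
    congr 1
    exact (Scheme.Opens.toSpecΓ_SpecMap_presheaf_map _ _ (V1.basicOpen_le (t f))).symm
  have hopen : ∀ f, IsOpenImmersion (q f ≫ ψ) := by
    intro f
    rw [hqψ f]
    letI := ((algebraMap Γ(V1, W1) Γ(V1, V1.basicOpen (t f))).comp φ).toAlgebra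
    haveI := hAway f
    haveI := IsOpenImmersion.of_isLocalization (R := A) (S := Γ(V1, V1.basicOpen (t f))) (⟨f.1, hFA f.1 f.2⟩ : A)
    exact IsOpenImmersion.comp (hO f).isoSpec.hom _
  have hcov' : ∀ x : (W1 : Scheme.{u}), ∃ f, x ∈ ψ ⁻¹ᵁ Uf f := fun x => by
    obtain ⟨f, hf⟩ := Opens.mem_iSup.1 (hcov x.2)
    exact ⟨f, (hpre f) ▸ hf⟩
  haveI hψ : IsOpenImmersion ψ := isOpenImmersion_of_preimages ψ q Uf hqr hcov' hopen
  refine ⟨hψ, le_antisymm ?_ (iSup_le fun f => ?_)⟩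
  · rintro _ ⟨x, rfl⟩
    obtain ⟨f, hf⟩ := hcov' x
    exact Opens.mem_iSup.2 ⟨f, hf⟩
  · intro y hy
    letI := ((algebraMap Γ(V1, W1) Γ(V1, V1.basicOpen (t f))).comp φ).toAlgebra
    haveI := hAway f
    obtain ⟨w, hw⟩ : y ∈ Set.range (PrimeSpectrum.comap
        (algebraMap A Γ(V1, V1.basicOpen (t f)))) := by
      rw [PrimeSpectrum.localization_away_comap_range _ (⟨f.1, hFA f.1 f.2⟩ : A)]
      exact hy
    obtain ⟨w', hw'⟩ := (hO f).isoSpec.hom.homeomorph.surjective w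
    refine ⟨q f w', ?_⟩
    show (q f ≫ ψ) w' = y
    rw [hqψ f, ← hw, ← hw']
    rfl

end Groth.Agent.Approx
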