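import Mathlib

/-!
# Affine Zariski coverings of cofinite systems of quasi-compact quasi-separated schemes
-/

set_option backward.isDefEq.respectTransparency false
set_option backward.isDefEq.respectTransparency.types false

universe u v

open CategoryTheory CategoryTheory.Limits AlgebraicGeometry TopologicalSpace Opposite

namespace Groth.Agent.Approx.CofinCover

/-- Enumerated finite affine covers. -/
theorem exists_cov {X : Scheme.{u}} (W : X.Opens) :
    ∃ (b : ℕ) (c : ℕ → X.Opens), (∀ n, IsAffineOpen (c n) ∧ c n ≤ W) ∧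
      (IsCompact (W : Set X) → (W : Set X) ⊆ ⋃ n ∈ Finset.range b, (c n : Set X)) := by
  classical
  by_cases hW : IsCompact (W : Set X)
  · obtain ⟨S, hS, hWS⟩ := isCompact_iff_finite_and_eq_biUnion_affineOpens.mp hW
    haveI := hS.to_subtype
    haveI := Fintype.ofFinite S
    let e := Fintype.equivFin S
    refine ⟨Fintype.card S, fun n => if h : n < Fintype.card S then (e.symm ⟨n, h⟩).1.1 else ⊥,
      fun n => ?_, fun _ x hx => ?_⟩
    · dsimp only
      split_ifs with h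
      · refine ⟨(e.symm ⟨n, h⟩).1.2, ?_⟩
        rw [hWS]
        exact le_iSup₂ (f := fun (i : X.affineOpens) (_ : i ∈ S) => (i : X.Opens)) _ (e.symm ⟨n, h⟩).2
      · exact ⟨isAffineOpen_bot X, bot_le⟩
    · rw [hWS] at hx
      simp only [SetLike.mem_coe, Opens.mem_iSup] at hx
      obtain ⟨i, hi, hxi⟩ := hx
      refine Set.mem_biUnion (Finset.mem_range.2 (e ⟨i, hi⟩).2) ?_
      simp only [SetLike.mem_coe]
      rw [dif_pos (e ⟨i, hi⟩).2]
      simpa using hxi
  · exact ⟨0, fun _ => ⊥, fun n => ⟨isAffineOpen_bot X, bot_le⟩, fun h => absurd h hW⟩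

noncomputable def bd {X : Scheme.{u}} (W : X.Opens) : ℕ := (exists_cov W).choose

noncomputable def cov {X : Scheme.{u}} (W : X.Opens) : ℕ → X.Opens := (exists_cov W).choose_spec.choose

theorem isAffineOpen_cov {X : Scheme.{u}} (W : X.Opens) (n : ℕ) : IsAffineOpen (cov W n) :=
  ((exists_cov W).choose_spec.choose_spec.1 n).1

theorem cov_le {X : Scheme.{u}} (W : X.Opens) (n : ℕ) : cov W n ≤ W :=
  ((exists_cov W).choose_spec.choose_spec.1 n).2

theorem exists_mem_cov {X : Scheme.{u}} (W : X.Opens) (hW : IsCompact (W : Set X)) {x : X} (hx : x ∈ W) :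
    ∃ n, n < bd W ∧ x ∈ cov W n := by
  obtain ⟨n, hn, hxn⟩ := Set.mem_iUnion₂.1 ((exists_cov W).choose_spec.choose_spec.2 hW hx)
  exact ⟨n, Finset.mem_range.1 hn, hxn⟩

variable {Λ : Type v} [PartialOrder Λ] [WellFoundedLT Λ] (X : Λᵒᵖ ⥤ Scheme.{u})

abbrev tr {μ l : Λ} (h : μ ≤ l) : X.obj (op l) ⟶ X.obj (op μ) := X.map (homOfLE h).op

/-- Restriction of an index function. -/
abbrev res {μ l : Λ} (h : μ ≤ l) (s : {ν // ν ≤ l} → ℕ) : {ν // ν ≤ μ} → ℕ := fun ν => s ⟨ν.1, ν.2.trans h⟩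

/-- The pieces of the covering. -/
noncomputable def V : ∀ l : Λ, ({ν // ν ≤ l} → ℕ) → (X.obj (op l)).Opens :=
  wellFounded_lt.fix fun l rec s =>
    cov (⨅ μ : {μ // μ < l}, tr X μ.2.le ⁻¹ᵁ rec μ.1 μ.2 (res μ.2.le s)) (s ⟨l, le_rfl⟩)

/-- The intersection of the preimages of the lower pieces. -/
noncomputable abbrev W (l : Λ) (s : {ν // ν ≤ l} → ℕ) : (X.obj (op l)).Opens :=
  ⨅ μ : {μ // μ < l}, tr X μ.2.le ⁻¹ᵁ V X μ.1 (res μ.2.le s)

theorem V_eq (l : Λ) (s : {ν // ν ≤ l} → ℕ) : V X l s = cov (W X l s) (s ⟨l, le_rfl⟩) :=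
  by rw [V, WellFounded.fix_eq]; rfl

theorem isAffineOpen_V (l : Λ) (s : {ν // ν ≤ l} → ℕ) : IsAffineOpen (V X l s) := by
  rw [V_eq]; exact isAffineOpen_cov _ _

theorem tr_refl (l : Λ) : tr X (le_refl l) = 𝟙 _ := by
  simp [tr, show (homOfLE (le_refl l)).op = 𝟙 (op l) from rfl]

theorem V_le {μ l : Λ} (h : μ ≤ l) (s : {ν // ν ≤ l} → ℕ) : V X l s ≤ tr X h ⁻¹ᵁ V X μ (res h s) := by
  rcases eq_or_lt_of_le h with rfl | hlt
  · rw [tr_refl]; exact le_rfl
  · rw [V_eq]
    exact (cov_le _ _).trans (iInf_le _ (⟨μ, hlt⟩ : {μ // μ < l}))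

variable [∀ l : Λ, Finite {μ // μ < l}]

theorem coe_W (l : Λ) (s : {ν // ν ≤ l} → ℕ) :
    (W X l s : Set (X.obj (op l))) = ⋂ μ : {μ // μ < l}, ↑(tr X μ.2.le ⁻¹ᵁ V X μ.1 (res μ.2.le s)) := by
  haveI := Fintype.ofFinite {μ // μ < l}
  rw [show W X l s = Finset.univ.inf fun μ : {μ // μ < l} => tr X μ.2.le ⁻¹ᵁ V X μ.1 (res μ.2.le s) from
    (Finset.inf_univ_eq_iInf _).symm, Opens.coe_finset_inf]
  simp [Finset.inf_set_eq_iInter]

theorem isCompact_W (hqc : ∀ l, CompactSpace (X.obj (op l))) (hqs : ∀ l, QuasiSeparatedSpace (X.obj (op l)))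
    (l : Λ) (s : {ν // ν ≤ l} → ℕ) : IsCompact (W X l s : Set (X.obj (op l))) := by
  classical
  haveI := Fintype.ofFinite {μ // μ < l}
  haveI := hqc l
  haveI := hqs l
  rw [coe_W]
  suffices H : ∀ S : Finset {μ // μ < l},
      IsCompact (⋂ μ ∈ S, (↑(tr X μ.2.le ⁻¹ᵁ V X μ.1 (res μ.2.le s)) : Set (X.obj (op l)))) by
    simpa using H Finset.univ
  intro S
  induction S using Finset.induction with
  | empty => simpa using isCompact_univ
  | insert a S _ ih =>
    rw [Finset.set_biInter_insert]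
    haveI := hqs a.1
    refine IsCompact.inter_of_isOpen ?_ ih (Opens.isOpen _) (isOpen_biInter_finset fun _ _ => Opens.isOpen _)
    exact (tr X a.2.le).isCompact_preimage (isAffineOpen_V X _ _).isCompact

/-- Admissible indices. -/
def J (l : Λ) : Type v := {s : {ν // ν ≤ l} → ℕ // ∀ (ν : Λ) (h : ν ≤ l), s ⟨ν, h⟩ < bd (W X ν (res h s))}

theorem finite_J (l : Λ) : Finite (J X l) := by
  classical
  induction l using WellFoundedLT.induction with
  | _ l ih =>
    haveI : ∀ μ : {μ // μ < l}, Finite (J X μ.1) := fun μ => ih μ.1 μ.2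
    let P := ∀ μ : {μ // μ < l}, J X μ.1
    let low : J X l → P := fun s μ => ⟨res μ.2.le s.1, fun ν h => s.2 ν (h.trans μ.2.le)⟩
    let bound : P → ℕ := fun p => bd (⨅ μ : {μ // μ < l}, tr X μ.2.le ⁻¹ᵁ V X μ.1 (p μ).1)
    let F : J X l → Σ p : P, Fin (bound p) := fun s => ⟨low s, ⟨s.1 ⟨l, le_rfl⟩, s.2 l le_rfl⟩⟩
    refine Finite.of_injective F fun s t h => Subtype.ext (funext fun ν => ?_)
    rcases eq_or_lt_of_le ν.2 with he | hlt
    · obtain ⟨ν, hν⟩ := ν
      dsimp only at he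
      subst he
      exact congrArg (fun z : Σ p : P, Fin (bound p) => z.2.1) h
    · exact congrArg (fun z : Σ p : P, Fin (bound p) => (z.1 ⟨ν.1, hlt⟩).1 ⟨ν.1, le_rfl⟩) h

/-- A coherent choice of pieces through a point. -/
noncomputable def ch {l : Λ} (x : X.obj (op l)) : ∀ μ : Λ, μ ≤ l → ℕ :=
  wellFounded_lt.fix fun μ rec h =>
    open Classical in
    let W' := ⨅ ν : {ν // ν < μ}, tr X ν.2.le ⁻¹ᵁ
      V X ν.1 (fun κ => rec κ.1 (lt_of_le_of_lt κ.2 ν.2) ((κ.2.trans ν.2.le).trans h))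
    if hn : ∃ n, n < bd W' ∧ tr X h x ∈ cov W' n then hn.choose else 0

theorem exists_mem_V (hqc : ∀ l, CompactSpace (X.obj (op l))) (hqs : ∀ l, QuasiSeparatedSpace (X.obj (op l)))
    {l : Λ} (x : X.obj (op l)) : ∃ s : J X l, x ∈ V X l s.1 := by
  let s : {ν // ν ≤ l} → ℕ := fun ν => ch X x ν.1 ν.2
  have key : ∀ μ, ∀ h : μ ≤ l, s ⟨μ, h⟩ < bd (W X μ (res h s)) ∧ tr X h x ∈ V X μ (res h s) := by
    intro μ
    induction μ using WellFoundedLT.induction with
    | _ μ ih =>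
      intro h
      have hW : tr X h x ∈ W X μ (res h s) := by
        rw [← SetLike.mem_coe, coe_W]
        refine Set.mem_iInter.2 fun ν => ?_
        show tr X ν.2.le (tr X h x) ∈ V X ν.1 _
        rw [← Scheme.Hom.comp_apply, ← X.map_comp]
        exact (ih ν.1 ν.2 (ν.2.le.trans h)).2
      have hch : s ⟨μ, h⟩ = _ := congrFun (WellFounded.fix_eq wellFounded_lt _ μ) h
      have hn : ∃ n, n < bd (W X μ (res h s)) ∧ tr X h x ∈ cov (W X μ (res h s)) n :=
        exists_mem_cov _ (isCompact_W X hqc hqs _ _) hW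
      rw [V_eq]
      have h2 : s ⟨μ, h⟩ = hn.choose := hch.trans (dif_pos hn)
      show s ⟨μ, h⟩ < _ ∧ _ ∈ cov _ (s ⟨μ, h⟩)
      rw [h2]
      exact hn.choose_spec
  refine ⟨⟨s, fun ν h => (key ν h).1⟩, ?_⟩
  have := (key l le_rfl).2
  rwa [tr_refl] at this

noncomputable abbrev T (l : Λ) : Type u := haveI := finite_J X l; Shrink.{u} (J X l)

noncomputable abbrev pr {l : Λ} (k : T X l) : J X l := haveI := finite_J X l; (equivShrink.{u} (J X l)).symm k

noncomputable abbrev mk {l : Λ} (s : J X l) : T X l := haveI := finite_J X l; equivShrink.{u} (J X l) s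

theorem pr_mk {l : Λ} (s : J X l) : pr X (mk X s) = s := haveI := finite_J X l; Equiv.symm_apply_apply _ _

theorem mk_pr {l : Λ} (k : T X l) : mk X (pr X k) = k := haveI := finite_J X l; Equiv.apply_symm_apply _ _

instance (l : Λ) : Finite (T X l) := haveI := finite_J X l; Finite.of_equiv _ (equivShrink.{u} (J X l))

/-- The restriction of an admissible index. -/
abbrev resJ {μ l : Λ} (h : μ ≤ l) (s : J X l) : J X μ := ⟨res h s.1, fun ν hν => s.2 ν (hν.trans h)⟩

noncomputable abbrev piece (l : Λ) (k : T X l) : (X.obj (op l)).Opens := V X l (pr X k).1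

noncomputable abbrev obj (l : Λ) : Scheme.{u} := ∐ fun k : T X l => (piece X l k).toScheme

theorem piece_le {μ l : Λ} (h : μ ≤ l) (k : T X l) :
    piece X l k ≤ tr X h ⁻¹ᵁ piece X μ (mk X (resJ X h (pr X k))) := by
  rw [piece, piece, pr_mk]
  exact V_le X h _

noncomputable def map {μ l : Λ} (h : μ ≤ l) : obj X l ⟶ obj X μ :=
  Sigma.desc fun k => (tr X h).resLE _ _ (piece_le X h k) ≫ Sigma.ι (fun k : T X μ => (piece X μ k).toScheme) _

theorem comp_ι_congr {μ l : Λ} {g g' : X.obj (op l) ⟶ X.obj (op μ)} (hg : g = g') {k k' : T X μ} (hk : k = k')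
    (Vl : (X.obj (op l)).Opens) (h : Vl ≤ g ⁻¹ᵁ piece X μ k) (h' : Vl ≤ g' ⁻¹ᵁ piece X μ k') :
    g.resLE _ _ h ≫ Sigma.ι (fun k : T X μ => (piece X μ k).toScheme) k =
      g'.resLE _ _ h' ≫ Sigma.ι (fun k : T X μ => (piece X μ k).toScheme) k' := by
  subst hg hk; rfl

/-- The system of coverings. -/
noncomputable def system : Λᵒᵖ ⥤ Scheme.{u} where
  obj l := obj X l.unop
  map i := map X (leOfHom i.unop)
  map_id l := by
    refine Sigma.hom_ext _ _ fun k => ?_
    rw [map, Sigma.ι_desc, Category.comp_id]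
    have h0 : piece X l.unop k ≤ (𝟙 _ : X.obj (op l.unop) ⟶ _) ⁻¹ᵁ piece X l.unop k := le_rfl
    refine (comp_ι_congr X (tr_refl X _) ?_ _ _ h0).trans ?_
    · exact mk_pr X k
    · rw [Scheme.Hom.resLE_id, Scheme.homOfLE_rfl, Category.id_comp]
  map_comp {a b c} i j := by
    refine Sigma.hom_ext _ _ fun k => ?_
    simp only [map, Sigma.ι_desc, Sigma.ι_desc_assoc, Category.assoc]
    rw [← Category.assoc, Scheme.Hom.resLE_comp_resLE]
    refine comp_ι_congr X ?_ ?_ _ _ _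
    · rw [← X.map_comp]; rfl
    · rw [pr_mk]

/-- The covering map. -/
noncomputable def proj : system X ⟶ X where
  app l := Sigma.desc fun k => (piece X l.unop k).ι
  naturality {a b} i := by
    show map X (leOfHom i.unop) ≫ Sigma.desc (fun k => (piece X b.unop k).ι) =
      Sigma.desc (fun k => (piece X a.unop k).ι) ≫ X.map i
    refine Sigma.hom_ext _ _ fun k => ?_
    simp only [map, Sigma.ι_desc_assoc, Category.assoc, Sigma.ι_desc, Scheme.Hom.resLE_comp_ι]
    rfl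

theorem isAffine_obj (l : Λ) : IsAffine (obj X l) :=
  haveI : ∀ k, IsAffine (piece X l k).toScheme := fun k => isAffineOpen_V X _ _
  inferInstance

end Groth.Agent.Approx.CofinCover
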