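import Groth.Agent.WEtLib.Basic
import Groth.Agent.WEtLib.Stalks

/-!
# Flatness descends along algebras with flat diagonal
-/

universe u

open TensorProduct

namespace Groth.Agent.Approx.DiagFlat

open Groth.Agent.WEtLib

noncomputable section

variable {A B : Type u} [CommRing A] [CommRing B] [Algebra A B]

theorem pure_diag_of_flat (h : (Algebra.TensorProduct.lmul' A (S := B)).Flat) : (diag A B).Pure := by
  let μ := Algebra.TensorProduct.lmul' A (S := B)
  letI : Algebra (B ⊗[A] B) B := μ.toRingHom.toAlgebra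
  haveI : Module.Flat (B ⊗[A] B) B := h
  let e := Ideal.quotientKerAlgEquivOfSurjective (f := Algebra.ofId (B ⊗[A] B) B)
    (fun b => ⟨b ⊗ₜ 1, show μ (b ⊗ₜ 1) = b by simp [μ]⟩)
  exact Module.Flat.of_linearEquiv e.toLinearEquiv

/-- a partition of the identity killing finitely many diagonal elements -/
theorem exists_splitting [(diag A B).Pure] (s : Finset B) :
    ∃ (k : ℕ) (u w : Fin k → B), ∑ i, u i * w i = 1 ∧
      ∀ b ∈ s, ∑ i, (b * u i) ⊗ₜ[A] w i = ∑ i, u i ⊗ₜ[A] (b * w i) := by
  classical
  obtain ⟨e, he, hes⟩ := exists_killer (A := A) (B := B) (s.image fun b => b ⊗ₜ[A] 1 - 1 ⊗ₜ[A] b) fun z hz => by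
    obtain ⟨b, _, rfl⟩ := Finset.mem_image.1 hz
    simp [RingHom.mem_ker]
  obtain ⟨k, u, w, rfl⟩ := TensorProduct.exists_sum_tmul_eq e
  refine ⟨k, u, w, by simpa [map_sum] using he, fun b hb => ?_⟩
  have h := hes _ (Finset.mem_image_of_mem _ hb)
  rw [sub_mul, sub_eq_zero, Finset.mul_sum, Finset.mul_sum] at h
  simpa [Algebra.TensorProduct.tmul_mul_tmul] using h

/-- flatness over the base gives flatness over a weakly etale algebra -/
theorem flat_of_flat [(diag A B).Pure] (N : Type u) [AddCommGroup N] [Module A N] [Module B N]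
    [IsScalarTower A B N] [Module.Flat A N] : Module.Flat B N := by
  classical
  refine Module.Flat.of_forall_isTrivialRelation fun {l f x} hfx => ?_
  obtain ⟨k, u, w, huw, hs⟩ := exists_splitting (A := A) (Finset.univ.image f)
  -- the relation vanishes in `B ⊗[A] N`
  have h0 : ∑ p : Fin l × Fin k, (f p.1 * u p.2) ⊗ₜ[A] (w p.2 • x p.1) = (0 : B ⊗[A] N) := by
    let ψ : ∀ n : N, B ⊗[A] B →ₗ[A] B ⊗[A] N := fun n =>
      TensorProduct.map LinearMap.id ((LinearMap.toSpanSingleton B N n).restrictScalars A)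
    calc ∑ p : Fin l × Fin k, (f p.1 * u p.2) ⊗ₜ[A] (w p.2 • x p.1)
        = ∑ i, ψ (x i) (∑ j, (f i * u j) ⊗ₜ[A] w j) := by
          simp [ψ, Fintype.sum_prod_type]
      _ = ∑ i, ψ (x i) (∑ j, u j ⊗ₜ[A] (f i * w j)) := by
          refine Finset.sum_congr rfl fun i _ => ?_
          rw [hs (f i) (Finset.mem_image_of_mem _ (Finset.mem_univ i))]
      _ = ∑ j, u j ⊗ₜ[A] (w j • ∑ i, f i • x i) := by
          simp only [ψ, map_sum, TensorProduct.map_tmul, LinearMap.id_apply, LinearMap.coe_restrictScalars,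
            LinearMap.toSpanSingleton_apply, Finset.smul_sum, TensorProduct.tmul_sum]
          rw [Finset.sum_comm]
          refine Finset.sum_congr rfl fun j _ => Finset.sum_congr rfl fun i _ => ?_
          rw [smul_smul, mul_comm (w j)]
      _ = 0 := by simp [hfx]
  obtain ⟨q, a, y, hay, ha0⟩ := vanishesTrivially_of_sum_tmul_eq_zero_of_rTensor_injective A
    (Module.Flat.rTensor_preserves_injective_linearMap _ Subtype.val_injective) h0
  refine ⟨q, fun i r => ∑ j, u j * algebraMap A B (a (i, j) r), y, fun i => ?_, fun r => ?_⟩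
  · calc x i = (∑ j, u j * w j) • x i := by rw [huw, one_smul]
      _ = ∑ j, u j • (w j • x i) := by rw [Finset.sum_smul]; simp [mul_smul]
      _ = ∑ j, ∑ r, u j • (a (i, j) r • y r) := by
          refine Finset.sum_congr rfl fun j _ => ?_
          rw [show w j • x i = ∑ r, a (i, j) r • y r from hay (i, j), Finset.smul_sum]
      _ = _ := by
          rw [Finset.sum_comm]
          refine Finset.sum_congr rfl fun r _ => ?_
          rw [Finset.sum_smul]
          refine Finset.sum_congr rfl fun j _ => ?_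
          rw [mul_smul, algebraMap_smul]
  · rw [← ha0 r, Fintype.sum_prod_type]
    refine Finset.sum_congr rfl fun i _ => ?_
    rw [Finset.mul_sum]
    refine Finset.sum_congr rfl fun j _ => ?_
    rw [Algebra.smul_def]
    ring

end

end Groth.Agent.Approx.DiagFlat
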