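import Mathlib
import Groth.Agent.DimFormula.Fibre
import Groth.Agent.DimFormula.QuasiSection
import Groth.Agent.FibDim.LocDim
import Groth.Agent.VarDim.IrredFibres

/-!
# Dimension of a scheme locally of finite type over a Noetherian one
-/

set_option backward.isDefEq.respectTransparency false
set_option backward.isDefEq.respectTransparency.types false

universe u

open AlgebraicGeometry CategoryTheory TopologicalSpace Order

namespace Groth.Agent.Approx.DimBound

variable {X Y : Scheme.{u}} (f : X ⟶ Y) [LocallyOfFiniteType f]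

theorem rd_of_trdeg {x : X} {n : ℕ}
    (h : letI := (f.residueFieldMap x).hom.toAlgebra
      Algebra.trdeg (Y.residueField (f.base x)) (X.residueField x) = n) : FibDim.rd f x = n := by
  have h1 : (FibDim.rd f x : Cardinal.{u}) = n := (FibDim.rd_eq_rdeg f x).trans h
  exact_mod_cast h1

theorem rd_le_of_trdeg {x : X} {n : ℕ}
    (h : letI := (f.residueFieldMap x).hom.toAlgebra
      Algebra.trdeg (Y.residueField (f.base x)) (X.residueField x) ≤ n) : FibDim.rd f x ≤ n := by
  have h1 : (FibDim.rd f x : Cardinal.{u}) ≤ n := (FibDim.rd_eq_rdeg f x).trans_le h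
  exact_mod_cast h1

theorem codim_add_rd_le [IsLocallyNoetherian Y] (x : X) (E : ℕ)
    (hE : ∀ ξ : X, closure {ξ} ∈ irreducibleComponents ↥X → ξ ⤳ x → FibDim.rd f ξ ≤ E) :
    DimFormula.codim x + FibDim.rd f x ≤ DimFormula.codim (f x) + E := by
  haveI := LocallyOfFiniteType.isLocallyNoetherian f
  obtain ⟨η, hη, hmax, he⟩ := DimFormula.exists_maximal_cd_eq_codim x
  have h1 := (DimFormula.cd_formula f hη).1
  have h2 := DimFormula.cd_le_codim (hη.map f.continuous)
  have h3 := hE η (VarDim.closure_mem_irreducibleComponents hmax) hη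
  omega

theorem topologicalKrullDim_le [IsLocallyNoetherian Y] (E : ℕ)
    (hE : ∀ ξ : X, closure {ξ} ∈ irreducibleComponents ↥X → FibDim.rd f ξ ≤ E) :
    topologicalKrullDim ↥X ≤ topologicalKrullDim ↥Y + E := by
  haveI := LocallyOfFiniteType.isLocallyNoetherian f
  rw [FibDim.topologicalKrullDim_eq_iSup_codim, FibDim.topologicalKrullDim_eq_iSup_codim]
  refine iSup_le fun x => ?_
  refine le_trans ?_ (add_le_add (le_iSup
    (fun y : Y => ((DimFormula.codim y : ℕ∞) : WithBot ℕ∞)) (f x)) le_rfl)
  have h := codim_add_rd_le f x E fun ξ h _ => hE ξ h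
  exact_mod_cast (show DimFormula.codim x ≤ DimFormula.codim (f x) + E by omega)

omit [LocallyOfFiniteType f] in
/-- Chains of specializations lift along a closed map. -/
theorem exists_lift_series (hf : IsClosedMap f) (l : LTSeries Y) :
    ∀ t : X, f t = l.last → ∃ m : LTSeries X, m.length = l.length ∧ m.last = t ∧ f m.head = l.head := by
  induction l using RelSeries.inductionOn with
  | singleton a => exact fun t ht => ⟨RelSeries.singleton _ t, rfl, rfl, ht⟩
  | cons l a hal ih =>
    intro t ht
    rw [RelSeries.last_cons] at ht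
    obtain ⟨m, hlen, hlast, hhead⟩ := ih t ht
    have hle : f m.head ⤳ a := hhead ▸ le_of_lt (show a < l.head from hal)
    obtain ⟨s, hs, hsa⟩ := hf.specializingMap hle
    have hlt : s < m.head := by
      refine lt_of_le_not_ge (α := X) hs fun h => ?_
      rw [DimFormula.eq_of_specializes_of_specializes h hs, hhead] at hsa
      exact (show a < l.head from hal).ne hsa.symm
    refine ⟨m.cons s hlt, ?_, ?_, ?_⟩
    · simp [RelSeries.cons_length, hlen]
    · rw [RelSeries.last_cons]; exact hlast
    · rw [RelSeries.head_cons, RelSeries.head_cons]; exact hsa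

theorem add_le_topologicalKrullDim [IsLocallyNoetherian Y] [IrreducibleSpace X] [IrreducibleSpace Y]
    [IsDominant f] (hf : IsClosedMap f) :
    topologicalKrullDim ↥Y + (FibDim.rd f (genericPoint X) : ℕ) ≤ topologicalKrullDim ↥X := by
  haveI := LocallyOfFiniteType.isLocallyNoetherian f
  set η := genericPoint X
  have hgen : f η = genericPoint Y :=
    ((genericPoint_spec X).image f.continuous).eq (by
      rw [Set.image_univ, f.denseRange.closure_eq]
      exact genericPoint_spec Y)
  haveI : Nonempty ↥(f.fiber (f η)) := ⟨f.asFiber η⟩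
  obtain ⟨a, -, ha⟩ := nonempty_inter_closedPoints (X := ↥(f.fiber (f η))) Set.univ_nonempty
    isClosed_univ.isLocallyClosed
  let t : X := f.fiberι (f η) a
  have hft : f t = f η := FibDim.fiber_apply_fiberι f a
  have hηt : η ⤳ t := (genericPoint_spec X).specializes (Set.mem_univ t)
  have hrd : FibDim.rd f t = 0 := by
    refine DimFormula.rd_eq_zero_of_closed f fun x' hx' htx' => ?_
    obtain ⟨b, rfl⟩ : x' ∈ Set.range (f.fiberι (f η)) := by
      rw [Scheme.Hom.range_fiberι]; exact hx'.trans hft
    have hab : a ⤳ b := (FibDim.fiberι_specializes_iff f _ _).1 htx'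
    have : b ∈ ({a} : Set ↥(f.fiber (f η))) := by
      rw [← (show IsClosed ({a} : Set ↥(f.fiber (f η))) from ha).closure_eq]
      exact specializes_iff_mem_closure.1 hab
    rw [Set.mem_singleton_iff.1 this]
  have hcd := DimFormula.cd_add_rd_of_fibre f hηt hft.symm
  obtain ⟨l₂, hl₂0, -, hl₂⟩ := DimFormula.exists_cd_series hηt
  haveI : Nonempty Y := ⟨f η⟩
  rw [topologicalKrullDim, topologicalKrullDim,
    Order.krullDim_eq_of_orderIso (irreducibleSetEquivPoints (α := ↥X)),
    Order.krullDim_eq_of_orderIso (irreducibleSetEquivPoints (α := ↥Y)),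
    Order.krullDim_eq_iSup_length (α := ↥Y), ← WithBot.coe_natCast, ← WithBot.coe_add,
    ENat.iSup_add]
  rw [WithBot.coe_iSup (OrderTop.bddAbove _)]
  refine iSup_le fun l => ?_
  have hgl : l.last ≤ f η := by
    rw [hgen]
    exact (genericPoint_spec Y).specializes (Set.mem_univ _)
  obtain ⟨l', hl'last, hl'len⟩ : ∃ l' : LTSeries Y, l'.last = f η ∧ l.length ≤ l'.length := by
    by_cases he : l.last = f η
    · exact ⟨l, he, le_rfl⟩
    · have h : l.last < f η := lt_of_le_not_ge (α := Y) hgl fun h'' =>
        he (DimFormula.eq_of_specializes_of_specializes h'' hgl)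
      exact ⟨l.snoc (f η) h, RelSeries.last_snoc .., by simp [RelSeries.snoc_length]⟩
  obtain ⟨m, hmlen, hmlast, -⟩ := exists_lift_series f hf l' t (hft.trans hl'last.symm)
  refine le_trans ?_ (LTSeries.length_le_krullDim (m.smash l₂ (hmlast.trans hl₂0.symm)))
  rw [RelSeries.smash_length, hl₂]
  exact_mod_cast (show l.length + FibDim.rd f η ≤ m.length + DimFormula.cd η t by omega)

end Groth.Agent.Approx.DimBound
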