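import Groth.Agent.Approx.FP

/-!
# Morphisms from a limit to a scheme of finite type over the integers
-/

set_option autoImplicit false
set_option backward.isDefEq.respectTransparency false
set_option backward.isDefEq.respectTransparency.types false

universe u

open CategoryTheory CategoryTheory.Limits AlgebraicGeometry TopologicalSpace Opposite

namespace Groth.Agent.Approx

/-- Morphisms to schemes of finite type over the integers factor through a stage. -/
theorem exists_factor_ftz {I : Type u} [SmallCategory I] [IsCofiltered I] {D : I ⥤ Scheme.{u}} {c : Cone D}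
    (hc : IsLimit c) [∀ {i j} (f : i ⟶ j), IsAffineHom (D.map f)] [∀ i, CompactSpace (D.obj i)]
    [∀ i, QuasiSeparatedSpace (D.obj i)] {T : Scheme.{u}} (hT : FTZ T) (a : c.pt ⟶ T) :
    ∃ (i : I) (φ : D.obj i ⟶ T), c.π.app i ≫ φ = a := by
  haveI : LocallyOfFiniteType (IsTerminal.from specULiftZIsTerminal T) := hT
  haveI : IsLocallyNoetherian (Spec (CommRingCat.of (ULift.{u} ℤ))) := by
    haveI : IsNoetherianRing (CommRingCat.of (ULift.{u} ℤ)) := isNoetherianRing_ulift_int
    infer_instance
  let t : D ⟶ (Functor.const I).obj (Spec (CommRingCat.of (ULift.{u} ℤ))) :=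
    { app := fun i => specULiftZIsTerminal.from _
      naturality := fun i j g => specULiftZIsTerminal.hom_ext _ _ }
  obtain ⟨i, φ, h, -⟩ := Scheme.exists_π_app_comp_eq_of_locallyOfFinitePresentation D t
    (IsTerminal.from specULiftZIsTerminal T) c hc a (by ext i; exact specULiftZIsTerminal.hom_ext _ _)
  exact ⟨i, φ, h⟩

end Groth.Agent.Approx
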