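import Groth.Agent.FibDim.BaseField
import Groth.Agent.FibDim.Minimal
import Groth.Agent.H23.RedSub
import Mathlib.AlgebraicGeometry.AffineTransitionLimit

/-!
# The fibre dimension of a limit of morphisms is attained at a stage
-/

universe u

open CategoryTheory CategoryTheory.Limits AlgebraicGeometry TopologicalSpace

set_option backward.isDefEq.respectTransparency false
set_option backward.isDefEq.respectTransparency.types false

namespace Groth.Agent.Approx.FibreDimStage

open Groth.Agent.FibDim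

theorem le_dim_of_rd_ge {X Y : Scheme.{u}} (f : X ⟶ Y) [LocallyOfFiniteType f] (y : Y) (d : ℕ)
    (h : ¬ topologicalKrullDim ↥(f.fiber y) ≤ d) : ∃ z, f z = y ∧ d + 1 ≤ rd f z := by
  by_contra hn
  push Not at hn
  apply h
  rw [FibDim.topologicalKrullDim_fiber f y]
  exact iSup_le fun z => by exact_mod_cast Nat.lt_succ_iff.1 (hn z.1 z.2)

theorem rd_le_of_closedImmersion {X X' Q S S' : Scheme.{u}} {p : Q ⟶ X} {q : Q ⟶ S'} {f : X ⟶ S}
    {g : S' ⟶ S} (h : IsPullback p q f g) [LocallyOfFiniteType f] (f' : X' ⟶ S') [LocallyOfFiniteType f']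
    (c : X' ⟶ Q) [IsClosedImmersion c] (hc : c ≫ q = f') (z : X') : rd f' z ≤ rd f (p (c z)) := by
  haveI : LocallyOfFiniteType q := MorphismProperty.of_isPullback h ‹LocallyOfFiniteType f›
  subst hc
  have h0 : rd c z = 0 := by
    have := FibDim.rd_eq_rdeg c z
    rw [VarDim.rdeg_preimmersion] at this
    exact_mod_cast this
  rw [FibDim.rd_comp, h0, add_zero]
  exact rd_baseChange_le h (c z)

variable {I : Type u} [SmallCategory I] [IsCofiltered I]
  (DX DS : I ⥤ Scheme.{u}) (φ : DX ⟶ DS) (cX : Cone DX) (cS : Cone DS)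
  (hX : IsLimit cX) (hS : IsLimit cS)
  [∀ (i j : I) (a : i ⟶ j), IsAffineHom (DS.map a)] [∀ i, CompactSpace (DS.obj i)]
  [∀ i, LocallyOfFiniteType (φ.app i)] [∀ i, QuasiCompact (φ.app i)]
  (hcl : ∀ (i j : I) (a : i ⟶ j), IsClosedImmersion (pullback.lift (DX.map a) (φ.app i) (φ.naturality a)))
  (f : cX.pt ⟶ cS.pt) (hf : ∀ i, f ≫ cS.π.app i = cX.π.app i ≫ φ.app i)

include hcl in
theorem isAffineHom_map {i j : I} (a : i ⟶ j) : IsAffineHom (DX.map a) := by
  haveI := hcl i j a
  haveI : IsAffineHom (pullback.fst (φ.app j) (DS.map a)) :=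
    MorphismProperty.pullback_fst _ _ inferInstance
  rw [← pullback.lift_fst (f := φ.app j) (g := DS.map a) (DX.map a) (φ.app i) (φ.naturality a)]
  infer_instance

variable {K : Scheme.{u}} (σ : K ⟶ cS.pt)

/-- The system of fibres. -/
noncomputable def P : I ⥤ Scheme.{u} where
  obj i := pullback (φ.app i) (σ ≫ cS.π.app i)
  map {i j} a := pullback.lift (pullback.fst _ _ ≫ DX.map a) (pullback.snd _ _) (by
    rw [Category.assoc, φ.naturality a, pullback.condition_assoc, Category.assoc, cS.w])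
  map_id i := by ext <;> simp
  map_comp a b := by ext <;> simp

@[reassoc]
theorem P_map_fst {i j : I} (a : i ⟶ j) :
    (P DX DS φ cS σ).map a ≫ pullback.fst (φ.app j) (σ ≫ cS.π.app j) =
      pullback.fst (φ.app i) (σ ≫ cS.π.app i) ≫ DX.map a := pullback.lift_fst _ _ _

@[reassoc]
theorem P_map_snd {i j : I} (a : i ⟶ j) :
    (P DX DS φ cS σ).map a ≫ pullback.snd (φ.app j) (σ ≫ cS.π.app j) =
      pullback.snd (φ.app i) (σ ≫ cS.π.app i) := pullback.lift_snd _ _ _

include hcl in
theorem isClosedImmersion_P_map {i j : I} (a : i ⟶ j) : IsClosedImmersion ((P DX DS φ cS σ).map a) := by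
  haveI := hcl i j a
  let σi := σ ≫ cS.π.app i
  let c := pullback.lift (DX.map a) (φ.app i) (φ.naturality a)
  let e : (P DX DS φ cS σ).obj j ⟶ pullback (φ.app j) (DS.map a) :=
    pullback.lift (pullback.fst _ _) (pullback.snd (φ.app j) (σ ≫ cS.π.app j) ≫ σi) (by
      rw [pullback.condition, Category.assoc, Category.assoc, cS.w])
  have hR : IsPullback e (pullback.snd (φ.app j) (σ ≫ cS.π.app j)) (pullback.snd (φ.app j) (DS.map a)) σi := by
    refine IsPullback.of_right ?_ (pullback.lift_snd _ _ _) (IsPullback.of_hasPullback (φ.app j) (DS.map a))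
    have h := IsPullback.of_hasPullback (φ.app j) (σ ≫ cS.π.app j)
    rw [show e ≫ pullback.fst (φ.app j) (DS.map a) = pullback.fst _ _ from pullback.lift_fst _ _ _,
      show σi ≫ DS.map a = σ ≫ cS.π.app j from by rw [Category.assoc, cS.w]]
    exact h
  have hT : IsPullback (pullback.fst (φ.app i) σi) ((P DX DS φ cS σ).map a) c e := by
    refine IsPullback.of_bot ?_ ?_ hR
    · rw [P_map_snd, show c ≫ pullback.snd (φ.app j) (DS.map a) = φ.app i from pullback.lift_snd _ _ _]
      exact IsPullback.of_hasPullback (φ.app i) σi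
    · apply pullback.hom_ext
      · rw [Category.assoc, Category.assoc, pullback.lift_fst, pullback.lift_fst, P_map_fst]
      · rw [Category.assoc, Category.assoc, pullback.lift_snd, pullback.lift_snd, P_map_snd_assoc,
          pullback.condition]
  exact MorphismProperty.of_isPullback hT ‹IsClosedImmersion c›

include hX hS hcl hf in
/-- A bound on all fibres of the limit bounds all fibres at some stage. -/
theorem exists_stage (d : ℕ) (hd : ∀ s : cS.pt, topologicalKrullDim ↥(f.fiber s) ≤ d) :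
    ∃ i : I, ∀ s : DS.obj i, topologicalKrullDim ↥((φ.app i).fiber s) ≤ d := by
  by_contra hcon
  push Not at hcon
  haveI : ∀ {i j : I} (a : i ⟶ j), IsAffineHom (DX.map a) := isAffineHom_map DX DS φ hcl
  haveI : ∀ i, CompactSpace (DX.obj i) := fun i => QuasiCompact.compactSpace_of_compactSpace (φ.app i)
  let T : ∀ i, Set (DX.obj i) := fun i =>
    {x | ((d + 1 : ℕ) : WithBot ℕ∞) ≤ FlatMor.fibreDimAt (φ.app i) x}
  obtain ⟨x, hx⟩ := exists_mem_of_isClosed_of_nonempty DX cX hX T
    (fun i => isClosed_le_fibreDimAt (φ.app i) (d + 1))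
    (fun i => by
      obtain ⟨s, hs⟩ := hcon i
      obtain ⟨z, -, hz⟩ := le_dim_of_rd_ge (φ.app i) s d (not_le.2 hs)
      exact ⟨z, le_trans (by exact_mod_cast hz) (rd_le_fibreDimAt (φ.app i) specializes_rfl rfl)⟩)
    (fun i => (isClosed_le_fibreDimAt (φ.app i) (d + 1)).isCompact)
    (fun {i j} a w hw => by
      haveI := hcl i j a
      obtain ⟨z, hzw, hzf, he, -⟩ := exists_fibreDimAt_eq (φ.app i) w
      have hw' : d + 1 ≤ rd (φ.app i) z := by
        have : ((d + 1 : ℕ) : WithBot ℕ∞) ≤ FlatMor.fibreDimAt (φ.app i) w := hw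
        rw [he] at this
        exact_mod_cast this
      have h1 := hw'.trans (rd_le_of_closedImmersion (IsPullback.of_hasPullback (φ.app j) (DS.map a))
        (φ.app i) _ (pullback.lift_snd (DX.map a) (φ.app i) (φ.naturality a)) z)
      rw [← Scheme.Hom.comp_apply, pullback.lift_fst] at h1
      refine le_trans (by exact_mod_cast h1) (rd_le_fibreDimAt (φ.app j) (hzw.map (DX.map a).continuous) ?_)
      rw [← Scheme.Hom.comp_apply, ← Scheme.Hom.comp_apply, φ.naturality a, Scheme.Hom.comp_apply,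
        Scheme.Hom.comp_apply, hzf])
  let s := f x
  let σ := cS.pt.fromSpecResidueField s
  let F := P DX DS φ cS σ
  haveI : ∀ i, LocallyOfFiniteType (pullback.snd (φ.app i) (σ ≫ cS.π.app i)) := fun i => inferInstance
  have hdim : ∀ i, ¬ topologicalKrullDim ↥(F.obj i) ≤ d := fun i hle => by
    obtain ⟨z, -, hzf, he, -⟩ := exists_fibreDimAt_eq (φ.app i) (cX.π.app i x)
    have hw' : d + 1 ≤ rd (φ.app i) z := by
      have : ((d + 1 : ℕ) : WithBot ℕ∞) ≤ FlatMor.fibreDimAt (φ.app i) (cX.π.app i x) := hx i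
      rw [he] at this
      exact_mod_cast this
    let k : Spec (cS.pt.residueField s) := IsLocalRing.closedPoint _
    obtain ⟨p, -, -, hp⟩ := exists_rd_baseChange_eq
      (IsPullback.of_hasPullback (φ.app i) (σ ≫ cS.π.app i)) z k (by
        rw [hzf, ← Scheme.Hom.comp_apply, ← hf, Scheme.Hom.comp_apply, Scheme.Hom.comp_apply,
          Scheme.fromSpecResidueField_apply]
        rfl)
    haveI : Subsingleton ↥(Spec (cS.pt.residueField s)) := subsingleton_spec_field _
    rw [show F.obj i = pullback (φ.app i) (σ ≫ cS.π.app i) from rfl,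
      topologicalKrullDim_eq_iSup_rd (pullback.snd (φ.app i) (σ ≫ cS.π.app i))] at hle
    have h2 : ((rd (pullback.snd (φ.app i) (σ ≫ cS.π.app i)) p : ℕ∞) : WithBot ℕ∞) ≤ d :=
      le_trans (le_iSup (fun p => ((rd (pullback.snd (φ.app i) (σ ≫ cS.π.app i)) p : ℕ∞) : WithBot ℕ∞)) p) hle
    have h3 : rd (pullback.snd (φ.app i) (σ ≫ cS.π.app i)) p ≤ d := by exact_mod_cast h2
    omega
  obtain ⟨i₀⟩ := IsCofiltered.nonempty (C := I)
  haveI : IsLocallyNoetherian (F.obj i₀) :=
    LocallyOfFiniteType.isLocallyNoetherian (pullback.snd (φ.app i₀) (σ ≫ cS.π.app i₀))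
  haveI : CompactSpace (F.obj i₀) :=
    QuasiCompact.compactSpace_of_compactSpace (pullback.snd (φ.app i₀) (σ ≫ cS.π.app i₀))
  haveI : IsNoetherian (F.obj i₀) := ⟨⟩
  haveI := fun {i j : I} (a : i ⟶ j) => isClosedImmersion_P_map DX DS φ cS hcl σ a
  let C : Set (Closeds (F.obj i₀)) := {C | ∃ (k : I) (a : k ⟶ i₀), (C : Set (F.obj i₀)) = Set.range (F.map a)}
  obtain ⟨C₀, ⟨j, aj, hC₀⟩, hmin⟩ := (wellFounded_lt (α := Closeds (F.obj i₀))).has_min C
    ⟨⟨Set.range (F.map (𝟙 i₀)), (F.map (𝟙 i₀)).isClosedEmbedding.isClosed_range⟩, i₀, 𝟙 i₀, rfl⟩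
  have hsurj : ∀ {k : I} (a : k ⟶ j), Surjective (F.map a) := fun {k} a => ⟨fun y => by
    have hle : (⟨Set.range (F.map (a ≫ aj)), (F.map (a ≫ aj)).isClosedEmbedding.isClosed_range⟩ :
        Closeds (F.obj i₀)) ≤ C₀ := by
      show Set.range (F.map (a ≫ aj)) ⊆ C₀
      rw [hC₀, F.map_comp, Scheme.Hom.comp_base, TopCat.coe_comp]
      exact Set.range_comp_subset_range _ _
    have heq := hle.lt_or_eq.resolve_left (hmin _ ⟨k, a ≫ aj, rfl⟩)
    obtain ⟨w, hw⟩ : F.map aj y ∈ Set.range (F.map (a ≫ aj)) := by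
      have : F.map aj y ∈ (C₀ : Set (F.obj i₀)) := by rw [hC₀]; exact ⟨y, rfl⟩
      rw [← heq] at this
      exact this
    refine ⟨w, (F.map aj).isClosedEmbedding.injective ?_⟩
    rwa [← Scheme.Hom.comp_apply, ← F.map_comp]⟩
  let Z := (Scheme.IdealSheafData.vanishingIdeal (⊤ : Closeds (F.obj j))).subscheme
  let ι : Z ⟶ F.obj j := (Scheme.IdealSheafData.vanishingIdeal (⊤ : Closeds (F.obj j))).subschemeι
  haveI : IsReduced Z := H23.RedSub.isReduced_vanishingIdeal _
  haveI : Surjective ι := ⟨fun y => by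
    have : y ∈ Set.range ι := by
      rw [Scheme.IdealSheafData.range_subschemeι, Scheme.IdealSheafData.coe_support_vanishingIdeal]
      trivial
    exact this⟩
  have hlift : ∀ k : Over j, ∃ u : Z ⟶ F.obj k.left, u ≫ F.map k.hom = ι := fun k => by
    haveI := hsurj k.hom
    haveI : IsIso (pullback.snd (F.map k.hom) ι) := isIso_of_isClosedImmersion_of_surjective _
    exact ⟨inv (pullback.snd (F.map k.hom) ι) ≫ pullback.fst _ _, by
      rw [Category.assoc, pullback.condition, IsIso.inv_hom_id_assoc]⟩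
  choose u hu using hlift
  have hunat : ∀ {k l : Over j} (b : k ⟶ l), u k ≫ F.map b.left = u l := fun {k l} b => by
    rw [← cancel_mono (F.map l.hom), Category.assoc, ← F.map_comp, Over.w b, hu, hu]
  let cX' := (Functor.Initial.isLimitWhiskerEquiv (Over.forget j) cX).symm hX
  let cS' := (Functor.Initial.isLimitWhiskerEquiv (Over.forget j) cS).symm hS
  let legs : Cone (Over.forget j ⋙ DX) :=
    { pt := Z
      π :=
        { app := fun k => u k ≫ pullback.fst (φ.app k.left) (σ ≫ cS.π.app k.left)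
          naturality := fun k l b => by
            show 𝟙 Z ≫ u l ≫ pullback.fst _ _ = (u k ≫ pullback.fst _ _) ≫ DX.map b.left
            rw [Category.id_comp, Category.assoc, ← P_map_fst DX DS φ cS σ b.left]
            exact (reassoc_of% (hunat b)) _ |>.symm } }
  let w : Z ⟶ cX.pt := cX'.lift legs
  have hw : ∀ k : Over j, w ≫ cX.π.app k.left = u k ≫ pullback.fst (φ.app k.left) (σ ≫ cS.π.app k.left) :=
    fun k => cX'.fac legs k
  have husnd : ∀ k : Over j, u k ≫ pullback.snd (φ.app k.left) (σ ≫ cS.π.app k.left) =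
      ι ≫ pullback.snd (φ.app j) (σ ≫ cS.π.app j) := fun k => by
    rw [← P_map_snd DX DS φ cS σ k.hom, reassoc_of% (hu k)]
  have hwf : w ≫ f = (ι ≫ pullback.snd (φ.app j) (σ ≫ cS.π.app j)) ≫ σ := cS'.hom_ext fun k => by
    show (w ≫ f) ≫ cS.π.app k.left = _ ≫ cS.π.app k.left
    rw [Category.assoc, hf, reassoc_of% (hw k), pullback.condition, ← Category.assoc, husnd k]
    simp only [Category.assoc]
  let l : Z ⟶ f.fiber s := pullback.lift w (ι ≫ pullback.snd (φ.app j) (σ ≫ cS.π.app j)) hwf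
  let m : f.fiber s ⟶ F.obj j := pullback.lift (pullback.fst f σ ≫ cX.π.app j) (pullback.snd f σ) (by
    rw [Category.assoc, ← hf, pullback.condition_assoc])
  have hlm : l ≫ m = ι := by
    apply pullback.hom_ext
    · rw [Category.assoc, pullback.lift_fst, reassoc_of% (pullback.lift_fst w _ hwf)]
      have hid : u (Over.mk (𝟙 j)) = ι := by
        have := hu (Over.mk (𝟙 j))
        rw [show (Over.mk (𝟙 j) : Over j).hom = 𝟙 j from rfl] at this
        exact ((congrArg (fun t => u (Over.mk (𝟙 j)) ≫ t) (F.map_id j)).trans (Category.comp_id _)).symm.trans this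
      refine (hw (Over.mk (𝟙 j))).trans ?_
      rw [hid]
      rfl
    · rw [Category.assoc, pullback.lift_snd, pullback.lift_snd]
  refine hdim j (le_trans (le_of_eq ?_) ((Topology.IsInducing.topologicalKrullDim_le
    (f := l) ?_).trans (hd s)))
  · exact (((ι.isClosedEmbedding).isEmbedding.toHomeomorphOfSurjective
      ι.surjective).isHomeomorph.topologicalKrullDim_eq).symm
  · refine Topology.IsInducing.of_comp l.continuous m.continuous ?_
    have := (ι.isClosedEmbedding).isInducing
    rw [← hlm] at this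
    exact this

end Groth.Agent.Approx.FibreDimStage
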