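import Mathlib
import Groth.Agent.Synt29.UnramFibre

/-!
# Properties of a morphism of proper schemes near a fibre
-/

set_option backward.isDefEq.respectTransparency false
set_option backward.isDefEq.respectTransparency.types false

universe u

open CategoryTheory CategoryTheory.Limits AlgebraicGeometry TopologicalSpace

namespace Groth.Agent.Approx.FibreProper

variable {X Y S : Scheme.{u}}

/-- An open containing a fibre of a closed map contains the preimage of a neighbourhood. -/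
theorem exists_nhd_preimage_le (h : Y ⟶ S) (hh : IsClosedMap h) (s : S) (V : Y.Opens)
    (hV : ∀ y, h y = s → y ∈ V) : ∃ U : S.Opens, s ∈ U ∧ h ⁻¹ᵁ U ≤ V := by
  refine ⟨⟨(h '' (V : Set Y)ᶜ)ᶜ, (hh _ V.2.isClosed_compl).isOpen_compl⟩, ?_, fun y hy => ?_⟩
  · rintro ⟨y, hy, hys⟩
    exact hy (hV y hys)
  · by_contra hne
    exact hy ⟨y, hne, rfl⟩

theorem isFinite_restrict_of_le (f : X ⟶ Y) {V W : Y.Opens} (hWV : W ≤ V) [IsFinite (f ∣_ V)] :
    IsFinite (f ∣_ W) := by
  have e : V.ι ''ᵁ (V.ι ⁻¹ᵁ W) = W := by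
    rw [Scheme.Hom.image_preimage_eq_opensRange_inf, Scheme.Opens.opensRange_ι]
    exact inf_eq_right.2 hWV
  have h1 : IsFinite ((f ∣_ V) ∣_ (V.ι ⁻¹ᵁ W)) := IsZariskiLocalAtTarget.restrict ‹IsFinite (f ∣_ V)› _
  rw [MorphismProperty.arrow_mk_iso_iff @IsFinite (morphismRestrictRestrict f V (V.ι ⁻¹ᵁ W)), e] at h1
  exact h1

theorem exists_isFinite_nhd (f : X ⟶ Y) (g : X ⟶ S) (h : Y ⟶ S) (w : f ≫ h = g) [IsProper g]
    [IsProper h] (s : S) [IsFinite (CohIII.fiberMapOver f g h w s)] :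
    ∃ U : S.Opens, s ∈ U ∧ IsFinite (f ∣_ (h ⁻¹ᵁ U)) := by
  haveI : IsProper (f ≫ h) := by rw [w]; infer_instance
  haveI : IsProper f := .of_comp f h
  have hfin : ∀ y : Y, h y = s → (f ⁻¹' {y}).Finite := by
    intro y hy
    obtain ⟨b, rfl⟩ : y ∈ Set.range (h.fiberι s) := by rw [Scheme.Hom.range_fiberι]; exact hy
    refine (((CohIII.fiberMapOver f g h w s).finite_preimage_singleton b).image (g.fiberι s)).subset ?_
    intro x hx
    have hgx : g x = s := by rw [← w, Scheme.Hom.comp_apply, show f x = h.fiberι s b from hx]; exact hy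
    obtain ⟨a, rfl⟩ : x ∈ Set.range (g.fiberι s) := by rw [Scheme.Hom.range_fiberι]; exact hgx
    refine ⟨a, (h.fiberι s).isEmbedding.injective ?_, rfl⟩
    rw [← Scheme.Hom.comp_apply, ← (Synt29.UnramFibre.isPullback_fiberMapOver f g h w s).w,
      Scheme.Hom.comp_apply]
    exact hx
  choose V hyV hV using fun y : {y : Y // h y = s} =>
    exists_isFinite_morphismRestrict_of_finite_preimage_singleton f y.1 (hfin y.1 y.2)
  obtain ⟨U, hsU, hU⟩ := exists_nhd_preimage_le h h.isClosedMap s (⨆ y, V y)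
    fun y hy => Opens.mem_iSup.2 ⟨⟨y, hy⟩, hyV ⟨y, hy⟩⟩
  refine ⟨U, hsU, ?_⟩
  haveI : IsFinite (f ∣_ ⨆ y, V y) := by
    refine IsZariskiLocalAtTarget.of_iSup_eq_top (P := @IsFinite)
      (fun y => (⨆ y, V y).ι ⁻¹ᵁ V y) ?_ fun y => ?_
    · rw [← Scheme.Hom.preimage_iSup]
      exact (⨆ y, V y).ι_preimage_self
    · rw [MorphismProperty.arrow_mk_iso_iff @IsFinite (morphismRestrictRestrict f _ _)]
      have e : (⨆ y, V y).ι ''ᵁ ((⨆ y, V y).ι ⁻¹ᵁ V y) = V y := by
        rw [Scheme.Hom.image_preimage_eq_opensRange_inf, Scheme.Opens.opensRange_ι]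
        exact inf_eq_right.2 (le_iSup V y)
      rw [e]
      exact hV y
  exact isFinite_restrict_of_le f hU

theorem isOpenImmersion_ι_diagonal (f : X ⟶ Y) (O : X.Opens) [FormallyUnramified (O.ι ≫ f)]
    [LocallyOfFiniteType (O.ι ≫ f)] : IsOpenImmersion (O.ι ≫ pullback.diagonal f) := by
  have e : O.ι ≫ pullback.diagonal f = pullback.diagonal (O.ι ≫ f) ≫
      pullback.map (O.ι ≫ f) (O.ι ≫ f) f f O.ι O.ι (𝟙 Y) (Category.comp_id _) (Category.comp_id _) := by
    apply pullback.hom_ext <;> simp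
  rw [e]
  infer_instance

theorem eq_of_diag {W : Scheme.{u}} {f : X ⟶ Y} [LocallyOfFiniteType f] {a b : W ⟶ X}
    {l : W ⟶ pullback f f} (ha : l ≫ pullback.fst f f = a) (hb : l ≫ pullback.snd f f = b)
    (h : ∀ z, ∃ O : X.Opens, FormallyUnramified (O.ι ≫ f) ∧
      l z ∈ Set.range (O.ι ≫ pullback.diagonal f)) : a = b := by
  subst ha hb
  choose O hO hz using h
  haveI := fun z => hO z
  haveI := fun z => isOpenImmersion_ι_diagonal f (O z)
  refine Scheme.Cover.hom_ext (W.openCoverOfIsOpenCover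
    (fun z => l ⁻¹ᵁ ((O z).ι ≫ pullback.diagonal f).opensRange)
    (IsOpenCover.mk (top_le_iff.1 fun z _ => Opens.mem_iSup.2 ⟨z, hz z⟩))) _ _ fun z => ?_
  show (l ⁻¹ᵁ _).ι ≫ l ≫ pullback.fst f f = (l ⁻¹ᵁ _).ι ≫ l ≫ pullback.snd f f
  obtain ⟨m, hm⟩ : ∃ m, m ≫ (O z).ι ≫ pullback.diagonal f =
      (l ⁻¹ᵁ ((O z).ι ≫ pullback.diagonal f).opensRange).ι ≫ l :=
    ⟨IsOpenImmersion.lift ((O z).ι ≫ pullback.diagonal f) _ (by
      rintro _ ⟨y, rfl⟩
      exact y.2), IsOpenImmersion.lift_fac _ _ _⟩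
  rw [← reassoc_of% hm, ← reassoc_of% hm]
  simp

theorem exists_isClosedImmersion_nhd (f : X ⟶ Y) (g : X ⟶ S) (h : Y ⟶ S) (w : f ≫ h = g) [IsProper g]
    [IsProper h] (s : S) [IsClosedImmersion (CohIII.fiberMapOver f g h w s)] :
    ∃ U : S.Opens, s ∈ U ∧ IsClosedImmersion (f ∣_ (h ⁻¹ᵁ U)) := by
  haveI : IsProper (f ≫ h) := by rw [w]; infer_instance
  haveI : IsProper f := .of_comp f h
  have sq := Synt29.UnramFibre.isPullback_fiberMapOver f g h w s
  -- the unramified locus contains the fibre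
  have hO : ∀ x : X, g x = s → ∃ O : X.Opens, x ∈ O ∧ FormallyUnramified (O.ι ≫ f) := by
    intro x hx
    obtain ⟨a, rfl⟩ : x ∈ Set.range (g.fiberι s) := by rw [Scheme.Hom.range_fiberι]; exact hx
    exact (Synt29.UnramFibre.iff_fiberMapOver f g h w s a).2 ⟨⊤, trivial, inferInstance⟩
  choose O hxO hO using fun x : {x : X // g x = s} => hO x.1 x.2
  let T : (pullback f f).Opens := ⨆ x, haveI := hO x; haveI := isOpenImmersion_ι_diagonal f (O x);
    ((O x).ι ≫ pullback.diagonal f).opensRange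
  let q : pullback f f ⟶ S := pullback.fst f f ≫ g
  haveI : IsProper q := inferInstanceAs (IsProper (_ ≫ _))
  have hT : ∀ p, q p = s → p ∈ T := by
    intro p hp
    have hcond : pullback.fst f f ≫ g = pullback.snd f f ≫ g := by
      rw [← w, pullback.condition_assoc]
    obtain ⟨a, ha⟩ : pullback.fst f f p ∈ Set.range (g.fiberι s) := by
      rw [Scheme.Hom.range_fiberι]; exact hp
    let k := (pullback f f).fromSpecResidueField p
    have hr1 : ∀ z, (k ≫ pullback.fst f f ≫ g) z = s := fun z => by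
      rw [Scheme.Hom.comp_apply, Scheme.fromSpecResidueField_apply]; exact hp
    let qq : Spec ((pullback f f).residueField p) ⟶ Spec (S.residueField s) :=
      Spec.map ((S.residueFieldCongr (by exact hp.symm)).hom ≫ q.residueFieldMap p)
    have hqq : qq ≫ S.fromSpecResidueField s = k ≫ q := by
      show Spec.map _ ≫ _ = _
      rw [Spec.map_comp, Category.assoc, Scheme.residueFieldCongr_fromSpecResidueField,
        Scheme.Hom.SpecMap_residueFieldMap_fromSpecResidueField]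
    let l₁ : Spec ((pullback f f).residueField p) ⟶ g.fiber s :=
      pullback.lift (k ≫ pullback.fst f f) qq (by rw [Category.assoc]; exact hqq.symm)
    let l₂ : Spec ((pullback f f).residueField p) ⟶ g.fiber s :=
      pullback.lift (k ≫ pullback.snd f f) qq (by rw [Category.assoc, ← hcond]; exact hqq.symm)
    have e1 : l₁ ≫ g.fiberι s = k ≫ pullback.fst f f := pullback.lift_fst _ _ _
    have e2 : l₂ ≫ g.fiberι s = k ≫ pullback.snd f f := pullback.lift_fst _ _ _
    have heq : l₁ = l₂ := by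
      rw [← cancel_mono (CohIII.fiberMapOver f g h w s)]
      apply pullback.hom_ext
      · have e := sq.w
        simp only [Scheme.Hom.fiberι] at e e1 e2 ⊢
        rw [Category.assoc, Category.assoc, ← e, reassoc_of% e1, reassoc_of% e2, pullback.condition]
      · unfold CohIII.fiberMapOver
        simp only [Category.assoc, pullback.lift_snd, Category.comp_id]
        rw [pullback.lift_snd, pullback.lift_snd]
    have hk : k = (k ≫ pullback.fst f f) ≫ pullback.diagonal f := by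
      apply pullback.hom_ext
      · simp
      · simp only [Category.assoc, pullback.diagonal_snd, Category.comp_id]
        rw [← e1, heq, e2]
    set x := pullback.fst f f p
    have hx : g x = s := hp
    haveI := hO ⟨x, hx⟩
    haveI := isOpenImmersion_ι_diagonal f (O ⟨x, hx⟩)
    refine Opens.mem_iSup.2 ⟨⟨x, hx⟩, ⟨⟨x, hxO ⟨x, hx⟩⟩, ?_⟩⟩
    have := congr($hk (IsLocalRing.closedPoint _))
    rw [Scheme.Hom.comp_apply, Scheme.Hom.comp_apply, Scheme.fromSpecResidueField_apply] at this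
    rw [Scheme.Hom.comp_apply]
    exact this.symm
  obtain ⟨U, hsU, hU⟩ := exists_nhd_preimage_le q q.isClosedMap s T hT
  refine ⟨U, hsU, ?_⟩
  haveI : Mono (f ∣_ (h ⁻¹ᵁ U)) := by
    refine ⟨fun {W} a b hab => ?_⟩
    rw [← cancel_mono (f ⁻¹ᵁ (h ⁻¹ᵁ U)).ι]
    have hab' : (a ≫ (f ⁻¹ᵁ (h ⁻¹ᵁ U)).ι) ≫ f = (b ≫ (f ⁻¹ᵁ (h ⁻¹ᵁ U)).ι) ≫ f := by
      simp only [Category.assoc, ← morphismRestrict_ι, reassoc_of% hab]
    let l : W ⟶ pullback f f := pullback.lift _ _ hab'
    have hl : ∀ z, l z ∈ T := fun z => hU (by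
      show q (l z) ∈ U
      rw [← Scheme.Hom.comp_apply, ← Category.assoc, pullback.lift_fst, Scheme.Hom.comp_apply,
        Scheme.Hom.comp_apply, ← w, Scheme.Hom.comp_apply]
      exact (a z).2)
    refine eq_of_diag (l := l) (pullback.lift_fst _ _ _) (pullback.lift_snd _ _ _) fun z => ?_
    obtain ⟨x, hz⟩ := Opens.mem_iSup.1 (hl z)
    exact ⟨O x, hO x, hz⟩
  exact (IsClosedImmersion.iff_isProper_and_mono _).2 ⟨inferInstance, inferInstance⟩

end Groth.Agent.Approx.FibreProper
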