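import Groth.Agent.Approx.FiniteStage
import Groth.Agent.MorLib.IdealFG3

/-!
# Finite morphisms embed in finite morphisms of finite presentation
-/

set_option autoImplicit false
set_option backward.isDefEq.respectTransparency false
set_option backward.isDefEq.respectTransparency.types false

universe u

open CategoryTheory CategoryTheory.Limits AlgebraicGeometry TopologicalSpace Opposite
open Groth.Agent.MorLib.IdealFG

namespace Groth.Agent.Approx

/-- A closed subscheme integral over the base lies in a finitely presented one finite over it. -/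
theorem exists_sub_finite {X Y S : Scheme.{u}} (j : X ⟶ Y) [IsClosedImmersion j] (g : Y ⟶ S)
    [LocallyOfFinitePresentation g] [CompactSpace Y] [QuasiSeparatedSpace Y] [CompactSpace S]
    [QuasiSeparatedSpace S] [IsIntegralHom (j ≫ g)] :
    ∃ K0 : Sub j.ker, ∀ K : Sub j.ker, K0.1 ≤ K.1 → IsFinite (K.1.subschemeι ≫ g) := by
  let D := subDiagram g j.ker ⋙ Over.forget S
  let c := (Over.forget S).mapCone (subCone g j.ker)
  have hc : IsLimit c := isLimitOfPreserves (Over.forget S) (isLimitSubCone g j.ker)
  let t : D ⟶ (Functor.const (Sub j.ker)ᵒᵖ).obj S :=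
    { app := fun K => ((subDiagram g j.ker).obj K).hom
      naturality := fun K L a => (Over.w ((subDiagram g j.ker).map a)).trans (Category.comp_id _).symm }
  haveI : ∀ {K L : (Sub j.ker)ᵒᵖ} (a : K ⟶ L), IsFinite (D.map a) := fun a => by
    haveI : IsClosedImmersion (D.map a) := isClosedImmersion_map g j.ker a
    infer_instance
  haveI : ∀ K, CompactSpace (D.obj K) := fun K =>
    QuasiCompact.compactSpace_of_compactSpace K.unop.1.subschemeι
  haveI : ∀ K, QuasiSeparatedSpace (D.obj K) := fun K =>
    quasiSeparatedSpace_of_quasiSeparated K.unop.1.subschemeι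
  haveI : ∀ K, LocallyOfFiniteType (t.app K) := fun K => by
    haveI := lfp_subschemeι K.unop.2.2
    show LocallyOfFiniteType (K.unop.1.subschemeι ≫ g)
    infer_instance
  let b : (Sub j.ker)ᵒᵖ := op ⟨⊥, bot_le, isFG_bot⟩
  haveI : IsIntegralHom (c.π.app b ≫ t.app b) := by
    show IsIntegralHom (Scheme.IdealSheafData.inclusion b.unop.2.1 ≫ b.unop.1.subschemeι ≫ g)
    rw [Scheme.IdealSheafData.inclusion_subschemeι_assoc]
    have : j.ker.subschemeι ≫ g = inv j.toImage ≫ (j ≫ g) := by
      rw [IsIso.eq_inv_comp]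
      exact ((Category.assoc _ _ _).symm).trans (congrArg (· ≫ g) j.toImage_imageι)
    rw [this]; infer_instance
  obtain ⟨K0, h⟩ := exists_isFinite_stage D t c hc b
  exact ⟨K0.unop, fun K hK => h (op K) (homOfLE (show K0.unop ≤ K from hK)).op⟩

/-- A finite morphism embeds in a finite morphism of finite presentation. -/
theorem exists_finite_fp {X S : Scheme.{u}} (f : X ⟶ S) [IsFinite f] [CompactSpace S] [QuasiSeparatedSpace S] :
    ∃ (X' : Scheme.{u}) (f' : X' ⟶ S) (j : X ⟶ X'), IsFinite f' ∧ LocallyOfFinitePresentation f' ∧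
      IsClosedImmersion j ∧ j ≫ f' = f := by
  haveI : CompactSpace X := QuasiCompact.compactSpace_of_compactSpace f
  haveI : QuasiSeparatedSpace X := quasiSeparatedSpace_of_quasiSeparated f
  obtain ⟨σ⟩ := nonempty_setup f
  obtain ⟨p, hp⟩ := σ.eventually_closedImmersion
  haveI := hp p le_rfl
  haveI : IsIntegralHom (σ.yProj p ≫ σ.yS p) := by rw [σ.yProj_snd]; infer_instance
  obtain ⟨K, hK⟩ := exists_sub_finite (σ.yProj p) (σ.yS p)
  haveI := lfp_subschemeι K.2.2
  refine ⟨K.1.subscheme, K.1.subschemeι ≫ σ.yS p, (σ.yProj p).toImage ≫ Scheme.IdealSheafData.inclusion K.2.1,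
    hK K le_rfl, inferInstance, ?_, ?_⟩
  · haveI : IsClosedImmersion (Scheme.IdealSheafData.inclusion K.2.1 ≫ K.1.subschemeι) := by
      rw [Scheme.IdealSheafData.inclusion_subschemeι]; infer_instance
    haveI := IsClosedImmersion.of_comp (Scheme.IdealSheafData.inclusion K.2.1) K.1.subschemeι
    infer_instance
  · rw [Category.assoc, Scheme.IdealSheafData.inclusion_subschemeι_assoc]
    exact ((Category.assoc _ _ _).symm.trans (congrArg (· ≫ σ.yS p) (σ.yProj p).toImage_imageι)).trans
      (σ.yProj_snd p)

end Groth.Agent.Approx
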