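import Groth.Agent.MorLib.MonoSpec
import Groth.Agent.FDescent.QuasiFlat
import Mathlib.AlgebraicGeometry.ZariskisMainTheorem
import Mathlib.AlgebraicGeometry.Morphisms.Immersion
import Groth.Agent.MorLib.SpecLFT

/-!
# A criterion for a monomorphism to be an immersion
-/

universe u

open CategoryTheory CategoryTheory.Limits AlgebraicGeometry TopologicalSpace

set_option backward.isDefEq.respectTransparency false
set_option backward.isDefEq.respectTransparency.types false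

namespace Groth.Agent.Approx.ImmCrit

variable {X Y : Scheme.{u}} (f : Y ⟶ X)

/-- Zariski's main theorem and reflection of specializations give local closed immersions. -/
theorem exists_nhds [Mono f] [LocallyOfFiniteType f]
    (hr : ∀ (X' : Scheme.{u}) (g : X' ⟶ X) (y₀ y₁ : ↥(pullback f g)),
      pullback.snd f g y₁ ⤳ pullback.snd f g y₀ → y₁ ⤳ y₀) (y : Y) :
    ∃ (V : Y.Opens) (O : X.Opens), f y ∈ O ∧ f ⁻¹ᵁ O ⊓ V = V ∧ y ∈ V ∧
      ∀ h : V ≤ f ⁻¹ᵁ O, IsClosedImmersion (f.resLE O V h) := by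
  obtain ⟨W, hW, hxW⟩ : ∃ W : X.Opens, IsAffineOpen W ∧ f y ∈ W := by
    obtain ⟨_, ⟨W, hW, rfl⟩, hxW, -⟩ :=
      X.isBasis_affineOpens.exists_subset_of_mem_open (Set.mem_univ (f y)) isOpen_univ
    exact ⟨W, hW, hxW⟩
  obtain ⟨V₀, hV₀, hyV, hVW⟩ : ∃ V₀ : Y.Opens, IsAffineOpen V₀ ∧ y ∈ V₀ ∧ V₀ ≤ f ⁻¹ᵁ W := by
    obtain ⟨_, ⟨V₀, hV₀, rfl⟩, hyV, hVW⟩ :=
      Y.isBasis_affineOpens.exists_subset_of_mem_open (show y ∈ f ⁻¹ᵁ W from hxW) (f ⁻¹ᵁ W).isOpen
    exact ⟨V₀, hV₀, hyV, hVW⟩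
  let g := f.resLE W V₀ hVW
  haveI : IsAffine V₀.toScheme := hV₀
  haveI : IsAffine W.toScheme := hW
  haveI : Mono g := by
    have : Mono (g ≫ W.ι) := by rw [Scheme.Hom.resLE_comp_ι]; infer_instance
    exact mono_of_mono g W.ι
  haveI : LocallyOfFiniteType g := inferInstance
  haveI : LocallyQuasiFinite g := inferInstance
  let ι := g.toNormalization
  let p := g.fromNormalization
  let q := p ≫ W.ι
  -- the only point over `f y` is the image of `y`
  let P₀ := pullback (V₀.ι ≫ f) q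
  let j : P₀ ⟶ pullback f q := pullback.map (V₀.ι ≫ f) q f q V₀.ι (𝟙 _) (𝟙 _) (by simp) (by simp)
  haveI : IsOpenImmersion j := inferInstance
  let γ : V₀.toScheme ⟶ P₀ := pullback.lift (𝟙 _) ι (by
    rw [Category.id_comp, ← Scheme.Hom.resLE_comp_ι f hVW, ← Category.assoc]
    congr 1
    exact (Scheme.Hom.toNormalization_fromNormalization g).symm)
  haveI : IsClosedImmersion γ := by
    haveI : IsClosedImmersion (γ ≫ pullback.fst (V₀.ι ≫ f) q) := by
      rw [pullback.lift_fst]; infer_instance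
    exact IsClosedImmersion.of_comp γ (pullback.fst (V₀.ι ≫ f) q)
  have hfib : ∀ n : g.normalization, q n = f y → n = ι ⟨y, hyV⟩ := fun n hn => by
    obtain ⟨v, hv⟩ := Groth.Agent.FDescent.exists_specializes_of_mem_closure_range ι (ι.denseRange n)
    obtain ⟨z₀, hz₁, hz₂⟩ := Scheme.Pullback.exists_preimage_pullback (f := V₀.ι ≫ f) (g := q)
      ⟨y, hyV⟩ n hn.symm
    have hγ : pullback.snd f q (j (γ v)) = ι v := by
      rw [← Scheme.Hom.comp_apply, ← Scheme.Hom.comp_apply, pullback.lift_snd, Category.comp_id,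
        pullback.lift_snd]
    have hj : pullback.snd f q (j z₀) = n := by
      rw [← Scheme.Hom.comp_apply, pullback.lift_snd, Category.comp_id, hz₂]
    have h1 : j (γ v) ⤳ j z₀ := hr _ q _ _ (by rw [hγ, hj]; exact hv)
    obtain ⟨w, hw⟩ : z₀ ∈ Set.range γ :=
      (j.isOpenEmbedding.isInducing.specializes_iff.1 h1).mem_closed γ.isClosedEmbedding.isClosed_range ⟨v, rfl⟩
    have hwy : w = ⟨y, hyV⟩ := by
      rw [← hz₁, ← hw, ← Scheme.Hom.comp_apply, pullback.lift_fst]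
      rfl
    rw [← hz₂, ← hw, ← Scheme.Hom.comp_apply, pullback.lift_snd, hwy]
  let R := ι.opensRange
  have hcl : IsClosed (p '' ((R : Set g.normalization)ᶜ)) := p.isClosedMap _ R.isOpen.isClosed_compl
  let O₁ : W.toScheme.Opens := ⟨(p '' ((R : Set g.normalization)ᶜ))ᶜ, hcl.isOpen_compl⟩
  have hxO : g ⟨y, hyV⟩ ∈ O₁ := by
    rintro ⟨n, hn, hny⟩
    refine hn ?_
    have h2 : q n = f y := by
      show W.ι (p n) = _
      rw [hny, ← Scheme.Hom.comp_apply, Scheme.Hom.resLE_comp_ι]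
      rfl
    rw [hfib n h2]
    exact ⟨_, rfl⟩
  have hle : p ⁻¹ᵁ O₁ ≤ R := fun n hn => by
    by_contra hc
    exact hn ⟨n, hc, rfl⟩
  haveI : IsIso (ι ∣_ p ⁻¹ᵁ O₁) := by
    refine (isIso_iff_isOpenImmersion_and_surjective _).2 ⟨inferInstance, ⟨fun n => ?_⟩⟩
    obtain ⟨v, hv⟩ := hle n.2
    exact ⟨⟨v, show ι v ∈ p ⁻¹ᵁ O₁ by rw [show ι v = n.1 from hv]; exact n.2⟩,
      Subtype.ext ((congr($(morphismRestrict_ι ι (p ⁻¹ᵁ O₁)).base _)).trans hv)⟩
  haveI : Mono (g ∣_ O₁) := by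
    have : Mono ((g ∣_ O₁) ≫ O₁.ι) := by rw [morphismRestrict_ι]; infer_instance
    exact mono_of_mono _ O₁.ι
  have hci : IsClosedImmersion (g ∣_ O₁) := by
    rw [IsClosedImmersion.iff_isFinite_and_mono, IsFinite.iff_isIntegralHom_and_locallyOfFiniteType]
    refine ⟨⟨?_, inferInstance⟩, inferInstance⟩
    have h : IsIntegralHom ((ι ≫ p) ∣_ O₁) := by rw [morphismRestrict_comp]; infer_instance
    rwa [show ι ≫ p = g from Scheme.Hom.toNormalization_fromNormalization g] at h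
  let O := W.ι ''ᵁ O₁
  refine ⟨V₀ ⊓ f ⁻¹ᵁ O, O, ⟨g ⟨y, hyV⟩, hxO, ?_⟩, ?_, ⟨hyV, ?_⟩, fun h => ?_⟩
  · show W.ι (g ⟨y, hyV⟩) = _
    rw [← Scheme.Hom.comp_apply, Scheme.Hom.resLE_comp_ι]
    rfl
  · exact inf_eq_right.2 inf_le_right
  · refine ⟨g ⟨y, hyV⟩, hxO, ?_⟩
    show W.ι (g ⟨y, hyV⟩) = _
    rw [← Scheme.Hom.comp_apply, Scheme.Hom.resLE_comp_ι]
    rfl
  · have hO : W.ι ⁻¹ᵁ O = O₁ := W.ι.preimage_image_eq O₁
    have hsame : V₀.ι ''ᵁ (g ⁻¹ᵁ O₁) = V₀ ⊓ f ⁻¹ᵁ O := by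
      rw [← hO, ← Scheme.Hom.comp_preimage, Scheme.Hom.resLE_comp_ι, Scheme.Hom.comp_preimage,
        Scheme.Hom.image_preimage_eq_opensRange_inf, Scheme.Opens.opensRange_ι]
    let a := (V₀.ι.isoImage (g ⁻¹ᵁ O₁)).trans (Y.isoOfEq hsame)
    have h2 : IsClosedImmersion ((g ∣_ O₁) ≫ (W.ι.isoImage O₁).hom) := inferInstance
    have h3 : a.hom ≫ f.resLE O (V₀ ⊓ f ⁻¹ᵁ O) h = (g ∣_ O₁) ≫ (W.ι.isoImage O₁).hom := by
      rw [← cancel_mono O.ι]
      simp [a, O, g]
    rw [← MorphismProperty.cancel_left_of_respectsIso @IsClosedImmersion a.hom, h3]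
    exact h2

/-- Local closed immersions onto neighbourhoods make an immersion. -/
theorem isImmersion_of_nhds (h : ∀ y : Y, ∃ O : X.Opens, f y ∈ O ∧ IsClosedImmersion (f ∣_ O)) :
    IsImmersion f := by
  choose O hO hci using h
  have h1 : IsClosedImmersion (f ∣_ iSup O) := by
    refine IsZariskiLocalAtTarget.of_iSup_eq_top (P := @IsClosedImmersion) (fun o => (iSup O).ι ⁻¹ᵁ O o) ?_ fun o => ?_
    · refine top_unique fun z _ => ?_
      obtain ⟨o, ho⟩ := Opens.mem_iSup.mp z.2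
      exact Opens.mem_iSup.mpr ⟨o, ho⟩
    · rw [MorphismProperty.arrow_mk_iso_iff (P := @IsClosedImmersion) (morphismRestrictRestrict _ _ _),
        MorphismProperty.arrow_mk_iso_iff (P := @IsClosedImmersion) (morphismRestrictEq _ (show _ = O o by
          rw [Scheme.Hom.image_preimage_eq_opensRange_inf, Scheme.Opens.opensRange_ι, inf_eq_right]
          exact le_iSup O o))]
      exact hci o
  have htop : f ⁻¹ᵁ iSup O = ⊤ := top_unique fun z _ => Opens.mem_iSup.mpr ⟨z, hO z⟩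
  have h2 : IsImmersion ((f ∣_ iSup O) ≫ (iSup O).ι) := inferInstance
  rw [morphismRestrict_ι, htop] at h2
  exact (MorphismProperty.cancel_left_of_respectsIso @IsImmersion Y.topIso.hom f).1 h2

end Groth.Agent.Approx.ImmCrit

namespace Groth.Agent.Approx.ImmCrit

variable {X Y : Scheme.{u}} (f : Y ⟶ X)

/-- Dense lifts into an irreducible closed subset yield a lift of its generic point. -/
theorem exists_generic_mem [Mono f]
    (hc : ∀ (A : Type u) [CommRing A] [IsDomain A] (s : Spec (CommRingCat.of A) ⟶ X) (D : Set ↥(Spec (CommRingCat.of A))),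
        Dense D →
        (∀ p ∈ D, ∃ l : Spec ((Spec (CommRingCat.of A)).residueField p) ⟶ Y,
            l ≫ f = (Spec (CommRingCat.of A)).fromSpecResidueField p ≫ s) →
          ∃ U : (Spec (CommRingCat.of A)).Opens, (U : Set ↥(Spec (CommRingCat.of A))).Nonempty ∧
            ∃ l : (U : Scheme.{u}) ⟶ Y, l ≫ f = U.ι ≫ s)
    {W : X.Opens} (hW : IsAffineOpen W) {η : X} (hη : η ∈ W) {S : Set X} (hS : S ⊆ Set.range f)
    (hdense : (W : Set X) ∩ closure {η} ⊆ closure (S ∩ W ∩ closure {η})) : η ∈ Set.range f := by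
  let q := (hW.primeIdealOf ⟨η, hη⟩).asIdeal
  let A := Γ(X, W) ⧸ q
  let c : Spec (CommRingCat.of A) ⟶ Spec Γ(X, W) := Spec.map (CommRingCat.ofHom (Ideal.Quotient.mk q))
  let s := c ≫ hW.fromSpec
  have hcind : Topology.IsInducing c :=
    (PrimeSpectrum.isClosedEmbedding_comap_of_surjective _ _ Ideal.Quotient.mk_surjective).isInducing
  have hsind : Topology.IsInducing s := hW.fromSpec.isOpenEmbedding.isInducing.comp hcind
  let g₀ : Spec (CommRingCat.of A) := ⟨⊥, Ideal.isPrime_bot⟩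
  have hsg : s g₀ = η := by
    refine Eq.trans ?_ (hW.fromSpec_primeIdealOf ⟨η, hη⟩)
    show hW.fromSpec (c g₀) = _
    congr 1
    exact PrimeSpectrum.ext (show (⊥ : Ideal A).comap (Ideal.Quotient.mk q) = q from
      Ideal.mk_ker)
  have hgen : ∀ r : Spec (CommRingCat.of A), g₀ ⤳ r := fun r =>
    (PrimeSpectrum.le_iff_specializes g₀ r).1 bot_le
  have hrange : ∀ r, s r ∈ (W : Set X) ∩ closure {η} := fun r =>
    ⟨hW.range_fromSpec.subset ⟨c r, rfl⟩, by
      rw [← specializes_iff_mem_closure, ← hsg]; exact (hgen r).map s.continuous⟩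
  have hsurj : ∀ z ∈ (W : Set X) ∩ closure {η}, z ∈ Set.range s := by
    rintro z ⟨hzW, hzη⟩
    refine ?_
    obtain ⟨r, rfl⟩ : z ∈ Set.range hW.fromSpec := hW.range_fromSpec.symm.subset hzW
    have hsp : hW.primeIdealOf ⟨η, hη⟩ ⤳ r := by
      refine hW.fromSpec.isOpenEmbedding.isInducing.specializes_iff.1 ?_
      rw [hW.fromSpec_primeIdealOf]
      exact specializes_iff_mem_closure.2 hzη
    obtain ⟨r', hr'⟩ : r ∈ Set.range (PrimeSpectrum.comap (Ideal.Quotient.mk q)) := by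
      rw [_root_.range_comap_of_surjective _ _ Ideal.Quotient.mk_surjective, Ideal.mk_ker]
      exact (PrimeSpectrum.le_iff_specializes _ r).2 hsp
    exact ⟨r', congrArg hW.fromSpec hr'⟩
  let D := s ⁻¹' S
  have hD : Dense D := fun r => by
    rw [hsind.closure_eq_preimage_closure_image, Set.mem_preimage]
    refine closure_mono ?_ (hdense (hrange r))
    rintro z ⟨⟨hzS, hzW⟩, hzη⟩
    obtain ⟨r', rfl⟩ := hsurj z ⟨hzW, hzη⟩
    exact ⟨r', hzS, rfl⟩
  obtain ⟨U, ⟨u, hu⟩, l, hl⟩ := hc A s D hD fun p hp => by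
    obtain ⟨v, hv⟩ := hS hp
    exact MorLib.MonoSpec.exists_lift_residue f (K := (Spec (CommRingCat.of A)).residueField p)
      ((Spec (CommRingCat.of A)).fromSpecResidueField p ≫ s) v (by
        rw [hv, Scheme.Hom.comp_apply]
        exact congrArg s (Scheme.fromSpecResidueField_apply _ _))
  refine ⟨l ⟨g₀, (hgen u).mem_open U.isOpen hu⟩, ?_⟩
  rw [← Scheme.Hom.comp_apply, hl]
  exact hsg

/-- The criterion. -/
theorem isImmersion [IsLocallyNoetherian X] [Mono f] [LocallyOfFiniteType f]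
    (hr : ∀ (X' : Scheme.{u}) (g : X' ⟶ X) (y₀ y₁ : ↥(pullback f g)),
      pullback.snd f g y₁ ⤳ pullback.snd f g y₀ → y₁ ⤳ y₀)
    (hc : ∀ (A : Type u) [CommRing A] [IsDomain A] (s : Spec (CommRingCat.of A) ⟶ X) (D : Set ↥(Spec (CommRingCat.of A))),
        Dense D →
        (∀ p ∈ D, ∃ l : Spec ((Spec (CommRingCat.of A)).residueField p) ⟶ Y,
            l ≫ f = (Spec (CommRingCat.of A)).fromSpecResidueField p ≫ s) →
          ∃ U : (Spec (CommRingCat.of A)).Opens, (U : Set ↥(Spec (CommRingCat.of A))).Nonempty ∧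
            ∃ l : (U : Scheme.{u}) ⟶ Y, l ≫ f = U.ι ≫ s) : IsImmersion f := by
  have hrefl : ∀ a b : Y, f a ⤳ f b → a ⤳ b := fun a b hab => by
    have hiso : pullback.fst f (𝟙 X) ≫ f = pullback.snd f (𝟙 X) := by
      rw [pullback.condition, Category.comp_id]
    obtain ⟨a', ha⟩ := (pullback.fst f (𝟙 X)).surjective a
    obtain ⟨b', hb⟩ := (pullback.fst f (𝟙 X)).surjective b
    have := hr X (𝟙 X) b' a' (by
      rw [← hiso, Scheme.Hom.comp_apply, Scheme.Hom.comp_apply, ha, hb]; exact hab)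
    exact ha ▸ hb ▸ this.map (pullback.fst f (𝟙 X)).continuous
  refine isImmersion_of_nhds f fun y => ?_
  obtain ⟨V, O, hxO, hVO', hyV, hci⟩ := exists_nhds f hr y
  have hVO : V ≤ f ⁻¹ᵁ O := inf_eq_right.1 hVO'
  haveI := hci hVO
  let C : Set X := f '' (V : Set Y)
  let S : Set X := {x ∈ (O : Set X) | x ∈ Set.range f ∧ x ∉ C}
  have hCcl : ∀ a b : X, a ∈ C → a ⤳ b → b ∈ O → b ∈ C := by
    rintro _ b ⟨v, hv, rfl⟩ hab hbO
    have hres : ∀ w, (f.resLE O V hVO w).1 = f w.1 := fun w =>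
      congr($(Scheme.Hom.resLE_comp_ι f hVO).base w)
    have h2 : f.resLE O V hVO ⟨v, hv⟩ ⤳ (⟨b, hbO⟩ : O) := by
      refine Topology.IsInducing.subtypeVal.specializes_iff.1 ?_
      rw [hres]; exact hab
    obtain ⟨w, hw⟩ := h2.mem_closed (f.resLE O V hVO).isClosedEmbedding.isClosed_range ⟨_, rfl⟩
    exact ⟨w.1, w.2, (hres w).symm.trans (congrArg Subtype.val hw)⟩
  have hxS : f y ∉ closure S := by
    intro hx
    obtain ⟨_, ⟨W, hW, rfl⟩, hxW, hWO⟩ :=
      X.isBasis_affineOpens.exists_subset_of_mem_open (show f y ∈ O from hxO) O.isOpen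
    haveI hWn : IsNoetherianRing Γ(X, W) := IsLocallyNoetherian.component_noetherian ⟨W, hW⟩
    haveI : NoetherianSpace (W : Set X) := noetherianSpace_of_isAffineOpen _ hW
    have hxS' : (⟨f y, hxW⟩ : (W : Set X)) ∈ closure (Subtype.val ⁻¹' S) := by
      rw [Topology.IsInducing.subtypeVal.closure_eq_preimage_closure_image, Set.mem_preimage,
        Subtype.image_preimage_coe]
      exact W.isOpen.inter_closure ⟨hxW, hx⟩
    obtain ⟨F, hF, hmin⟩ := (wellFounded_lt (α := Closeds (W : Set X))).has_min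
      {F | (⟨f y, hxW⟩ : (W : Set X)) ∈ closure (Subtype.val ⁻¹' S ∩ F)} ⟨⊤, by
        show _ ∈ closure _
        simpa using hxS'⟩
    have hFF : (F : Set (W : Set X)) ⊆ closure (Subtype.val ⁻¹' S ∩ F) := by
      let F' : Closeds (W : Set X) := ⟨closure (Subtype.val ⁻¹' S ∩ F), isClosed_closure⟩
      have hF'F : F' ≤ F := closure_minimal Set.inter_subset_right F.isClosed
      have hmem : F' ∈ {F : Closeds (W : Set X) | (⟨f y, hxW⟩ : (W : Set X)) ∈ closure (Subtype.val ⁻¹' S ∩ F)} := by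
        show _ ∈ closure _
        refine closure_mono ?_ hF
        exact fun z hz => ⟨hz.1, subset_closure hz⟩
      exact (hF'F.lt_or_eq.resolve_left (hmin F' hmem)).ge
    have hirr : IsIrreducible (F : Set (W : Set X)) := by
      refine ⟨?_, isPreirreducible_iff_isClosed_union_isClosed.2 fun a b ha hb hab => ?_⟩
      · obtain ⟨z, hz⟩ : (closure (Subtype.val ⁻¹' S ∩ (F : Set (W : Set X)))).Nonempty := ⟨_, hF⟩
        exact ⟨z, closure_minimal Set.inter_subset_right F.isClosed hz⟩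
      · by_contra hcon
        push Not at hcon
        have key : ∀ t : Set (W : Set X), IsClosed t → ¬ (F : Set (W : Set X)) ⊆ t →
            (⟨f y, hxW⟩ : (W : Set X)) ∉ closure (Subtype.val ⁻¹' S ∩ F ∩ t) := fun t ht hnt hmem => by
          refine hmin ⟨F ∩ t, F.isClosed.inter ht⟩ ?_ (lt_of_le_of_ne (fun z hz => hz.1) ?_)
          · show _ ∈ closure _
            rw [Set.inter_assoc] at hmem
            exact hmem
          · intro he
            exact hnt fun z hz => ((Set.ext_iff.1 (congrArg (fun G : Closeds (W : Set X) => (G : Set (W : Set X))) he) z).2 hz).2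
        have h : (⟨f y, hxW⟩ : (W : Set X)) ∈ closure (Subtype.val ⁻¹' S ∩ (F : Set (W : Set X))) := hF
        rw [← Set.inter_eq_left.2 (show Subtype.val ⁻¹' S ∩ (F : Set (W : Set X)) ⊆ a ∪ b from
          fun z hz => hab hz.2), Set.inter_union_distrib_left, closure_union] at h
        exact h.elim (key a ha hcon.1) (key b hb hcon.2)
    haveI : QuasiSober (W : Set X) := W.isOpen.isOpenEmbedding_subtypeVal.quasiSober
    obtain ⟨η, hη⟩ := QuasiSober.sober hirr F.isClosed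
    have hcl : ∀ z : (W : Set X), z.1 ∈ closure {η.1} → z ∈ F := fun z hz => by
      show z ∈ (F : Set (W : Set X))
      rw [← hη.def, Topology.IsInducing.subtypeVal.closure_eq_preimage_closure_image, Set.mem_preimage,
        Set.image_singleton]
      exact hz
    obtain ⟨y', hy'⟩ := exists_generic_mem f hc hW η.2 (S := S) (fun z hz => hz.2.1) fun z hz => by
      have h1 := hFF (hcl ⟨z, hz.1⟩ hz.2)
      rw [Topology.IsInducing.subtypeVal.closure_eq_preimage_closure_image, Set.mem_preimage] at h1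
      refine closure_mono ?_ h1
      rintro _ ⟨w, ⟨hwS, hwF⟩, rfl⟩
      refine ⟨⟨hwS, w.2⟩, ?_⟩
      rw [← specializes_iff_mem_closure]
      exact (hη.specializes hwF).map continuous_subtype_val
    have hηx : η.1 ⤳ f y :=
      (hη.specializes (closure_minimal Set.inter_subset_right F.isClosed hF)).map continuous_subtype_val
    have hy'V : y' ∈ V := (hrefl y' y (hy' ▸ hηx)).mem_open V.isOpen hyV
    have hηC : η.1 ∈ C := ⟨y', hy'V, hy'⟩
    obtain ⟨w, hwS, hwF⟩ : (Subtype.val ⁻¹' S ∩ (F : Set (W : Set X))).Nonempty :=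
      closure_nonempty_iff.1 ⟨_, hF⟩
    exact hwS.2.2 (hCcl η.1 w.1 hηC ((hη.specializes hwF).map continuous_subtype_val) hwS.1)
  let O' : X.Opens := O ⊓ ⟨(closure S)ᶜ, isClosed_closure.isOpen_compl⟩
  refine ⟨O', ⟨hxO, hxS⟩, ?_⟩
  have hsub : f ⁻¹ᵁ O' ≤ V := fun z hz => by
    have : f z ∈ C := by
      by_contra hc'
      exact hz.2 (subset_closure ⟨hz.1, ⟨z, rfl⟩, hc'⟩)
    obtain ⟨v, hv, hvz⟩ := this
    exact f.injective hvz ▸ hv
  have h1 : IsClosedImmersion ((f.resLE O V hVO) ∣_ O.ι ⁻¹ᵁ O') :=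
    MorphismProperty.IsStableUnderBaseChange.of_isPullback (isPullback_morphismRestrict _ _).flip ‹_›
  have hset : V.ι ''ᵁ ((f.resLE O V hVO) ⁻¹ᵁ (O.ι ⁻¹ᵁ O')) = f ⁻¹ᵁ O' := by
    rw [← Scheme.Hom.comp_preimage, Scheme.Hom.resLE_comp_ι, Scheme.Hom.comp_preimage,
      Scheme.Hom.image_preimage_eq_opensRange_inf, Scheme.Opens.opensRange_ι, inf_eq_right]
    exact hsub
  have himg : O.ι ''ᵁ (O.ι ⁻¹ᵁ O') = O' := by
    rw [Scheme.Hom.image_preimage_eq_opensRange_inf, Scheme.Opens.opensRange_ι, inf_eq_right]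
    exact inf_le_left
  let a := (V.ι.isoImage ((f.resLE O V hVO) ⁻¹ᵁ (O.ι ⁻¹ᵁ O'))).trans (Y.isoOfEq hset)
  let b := (O.ι.isoImage (O.ι ⁻¹ᵁ O')).trans (X.isoOfEq himg)
  have h3 : a.hom ≫ (f ∣_ O') = ((f.resLE O V hVO) ∣_ O.ι ⁻¹ᵁ O') ≫ b.hom := by
    rw [← cancel_mono O'.ι]
    simp [a, b]
  rw [← MorphismProperty.cancel_left_of_respectsIso @IsClosedImmersion a.hom, h3]
  infer_instance

end Groth.Agent.Approx.ImmCrit
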