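import Groth.Agent.Approx.Immersion

/-!
# An immersion of a scheme of finite type into a limit is an immersion at some stage
-/

set_option backward.isDefEq.respectTransparency false
set_option backward.isDefEq.respectTransparency.types false

universe u

open CategoryTheory CategoryTheory.Limits AlgebraicGeometry TopologicalSpace Opposite

namespace Groth.Agent.Approx

theorem app_surjective_of_le_coborderRange {X Y : Scheme.{u}} (g : X ⟶ Y) [IsImmersion g] {V : Y.Opens}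
    (hV : IsAffineOpen V) (hle : V ≤ g.coborderRange) :
    IsAffineOpen (g ⁻¹ᵁ V) ∧ Function.Surjective (g.app V).hom := by
  have hi : g.coborderRange.ι ''ᵁ (g.coborderRange.ι ⁻¹ᵁ V) = V := by
    rw [Scheme.Hom.image_preimage_eq_opensRange_inf, Scheme.Opens.opensRange_ι]
    exact inf_eq_right.2 hle
  have hV' : IsAffineOpen (g.coborderRange.ι ⁻¹ᵁ V) :=
    hV.preimage_of_isOpenImmersion _ (by rw [Scheme.Opens.opensRange_ι]; exact hle)
  refine ⟨?_, ?_⟩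
  · have := hV'.preimage g.liftCoborder
    rwa [← Scheme.Hom.comp_preimage, g.liftCoborder_ι] at this
  · have h := g.liftCoborder.app_surjective _ hV'
    rw [liftCoborder_app] at h
    have e : ∀ V', V' = V → Function.Surjective (g.app V').hom → Function.Surjective (g.app V).hom := by
      rintro _ rfl h; exact h
    exact e _ hi fun y => by
      obtain ⟨r, hr⟩ := h ((X.presheaf.map _).hom y)
      exact ⟨r, (ConcreteCategory.bijective_of_isIso (X.presheaf.map _)).1 hr⟩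

/-- A scheme of finite type immersed in a limit is immersed in a stage. -/
theorem exists_immersion_stage_of_immersion {I : Type u} [SmallCategory I] [IsCofiltered I]
    {D : I ⥤ Scheme.{u}} {c : Cone D} (hc : IsLimit c) [∀ {i j} (f : i ⟶ j), IsAffineHom (D.map f)]
    [∀ i, CompactSpace (D.obj i)] [∀ i, QuasiSeparatedSpace (D.obj i)]
    {X S : Scheme.{u}} [CompactSpace X] (g : X ⟶ c.pt) [IsImmersion g] (f : X ⟶ S) [LocallyOfFiniteType f]
    (p : ∀ i, D.obj i ⟶ S) (hp : ∀ i, g ≫ c.π.app i ≫ p i = f) :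
    ∃ i : I, IsImmersion (g ≫ c.π.app i) := by
  classical
  have hloc : ∀ x : X, ∃ (i : I) (U : (D.obj i).Opens) (W : S.Opens), IsAffineOpen U ∧ IsAffineOpen W ∧
      g x ∈ c.π.app i ⁻¹ᵁ U ∧ c.π.app i ⁻¹ᵁ U ≤ g.coborderRange ∧
      g ⁻¹ᵁ (c.π.app i ⁻¹ᵁ U) ≤ f ⁻¹ᵁ W := by
    intro x
    obtain ⟨_, ⟨W, hW, rfl⟩, hxW, -⟩ := S.isBasis_affineOpens.exists_subset_of_mem_open
      (Set.mem_univ (f x)) isOpen_univ
    obtain ⟨O, hO, hOW⟩ := g.isEmbedding.isOpen_iff.1 (f ⁻¹ᵁ W).2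
    have hxO : g x ∈ O := by
      show x ∈ g ⁻¹' O
      rw [hOW]; exact hxW
    obtain ⟨V, hV, hxV, hVsub⟩ := exists_isAffineOpen_mem_and_subset
      (x := g x) (U := ⟨O, hO⟩ ⊓ g.coborderRange) ⟨hxO, subset_coborder ⟨x, rfl⟩⟩
    obtain ⟨i, U, hU, rfl⟩ := exists_isAffineOpen_preimage_eq D c hc V hV
    refine ⟨i, U, W, hU, hW, hxV, fun y hy => (hVsub hy).2, fun y hy => ?_⟩
    have : y ∈ g ⁻¹' O := (hVsub hy).1
    rwa [hOW] at this
  choose iX UX WX hU hW hx hcob hle using hloc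
  have hst : ∀ x : X, ∃ (j : I) (a : j ⟶ iX x) (G : Set Γ(X, g ⁻¹ᵁ (c.π.app (iX x) ⁻¹ᵁ UX x))),
      Subring.closure (Set.range (f.appLE (WX x) _ (hle x)).hom ∪ G) = ⊤ ∧
      ∀ (q : I) (a' : q ⟶ j)
        (e : g ⁻¹ᵁ (c.π.app (iX x) ⁻¹ᵁ UX x) ≤ (g ≫ c.π.app q) ⁻¹ᵁ (D.map (a' ≫ a) ⁻¹ᵁ UX x)),
        ∀ y ∈ G, y ∈ ((g ≫ c.π.app q).appLE (D.map (a' ≫ a) ⁻¹ᵁ UX x) _ e).hom.range := by
    intro x
    haveI : IsAffineHom (c.π.app (iX x)) := isAffineHom_π_app D c hc (iX x)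
    obtain ⟨haff, hsurj⟩ := app_surjective_of_le_coborderRange g
      ((hU x).preimage (c.π.app (iX x))) (hcob x)
    obtain ⟨G, hG⟩ := exists_closure_of_finiteType _ (f.finiteType_appLE (hW x) haff (hle x))
    choose l hl using hsurj
    obtain ⟨j, a, hj⟩ := exists_finset_stage hc (hU x).isCompact (G.image l)
    refine ⟨j, a, G, hG, fun q a' e y hy => ?_⟩
    have e' : c.π.app (iX x) ⁻¹ᵁ UX x ≤ c.π.app q ⁻¹ᵁ (D.map (a' ≫ a) ⁻¹ᵁ UX x) := by
      rw [← Scheme.Hom.comp_preimage, c.w]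
    obtain ⟨r, hr⟩ := hj q a' e' (l y) (Finset.mem_image_of_mem l hy)
    refine ⟨r, ?_⟩
    rw [← hl y, ← hr, Scheme.Hom.app_eq_appLE]
    exact congrArg (fun φ => φ.hom r) (Scheme.Hom.appLE_comp_appLE g (c.π.app q) _ _ _ e' le_rfl).symm
  choose jX aX GX hGX hjX using hst
  obtain ⟨F, hF⟩ := isCompact_univ.elim_finite_subcover
    (fun x : X => ((g ⁻¹ᵁ (c.π.app (iX x) ⁻¹ᵁ UX x) : X.Opens) : Set X))
    (fun x => (g ⁻¹ᵁ (c.π.app (iX x) ⁻¹ᵁ UX x)).2) fun x _ => Set.mem_iUnion.2 ⟨x, hx x⟩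
  obtain ⟨q, hq⟩ := IsCofiltered.inf_objs_exists (F.image jX)
  refine ⟨q, ?_⟩
  let tD := specULiftZIsTerminal.from (D.obj q)
  let tS := specULiftZIsTerminal.from S
  let l := pullback.lift (f := tD) (g := tS) (g ≫ c.π.app q) f (specULiftZIsTerminal.hom_ext _ _)
  have hl1 : l ≫ pullback.fst tD tS = g ≫ c.π.app q := pullback.lift_fst _ _ _
  have hl2 : l ≫ pullback.snd tD tS = f := pullback.lift_snd _ _ _
  suffices hl : IsImmersion l by
    have h2 : l = (g ≫ c.π.app q) ≫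
        pullback.lift (f := tD) (g := tS) (𝟙 _) (p q) (specULiftZIsTerminal.hom_ext _ _) := by
      apply pullback.hom_ext
      · rw [hl1, Category.assoc, pullback.lift_fst, Category.comp_id]
      · rw [hl2, Category.assoc, pullback.lift_snd, Category.assoc, hp]
    haveI : IsImmersion ((g ≫ c.π.app q) ≫
        pullback.lift (f := tD) (g := tS) (𝟙 _) (p q) (specULiftZIsTerminal.hom_ext _ _)) := h2 ▸ hl
    exact IsImmersion.of_comp (g ≫ c.π.app q)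
      (pullback.lift (f := tD) (g := tS) (𝟙 _) (p q) (specULiftZIsTerminal.hom_ext _ _))
  let a := fun x : F => (hq (Finset.mem_image_of_mem jX x.2)).some
  let O := fun x : F => pullback.fst tD tS ⁻¹ᵁ (D.map (a x ≫ aX x.1) ⁻¹ᵁ UX x.1) ⊓
    pullback.snd tD tS ⁻¹ᵁ WX x.1
  have hpre : ∀ x : F, (g ≫ c.π.app q) ⁻¹ᵁ (D.map (a x ≫ aX x.1) ⁻¹ᵁ UX x.1) =
      g ⁻¹ᵁ (c.π.app (iX x.1) ⁻¹ᵁ UX x.1) := fun x => by
    rw [← Scheme.Hom.comp_preimage, Category.assoc, c.w, Scheme.Hom.comp_preimage]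
  have hmem : ∀ x : F, g ⁻¹ᵁ (c.π.app (iX x.1) ⁻¹ᵁ UX x.1) ≤ l ⁻¹ᵁ O x := fun x => by
    have e1 : ∀ W, l ⁻¹ᵁ (pullback.fst tD tS ⁻¹ᵁ W) = (g ≫ c.π.app q) ⁻¹ᵁ W := fun W => by
      rw [← Scheme.Hom.comp_preimage, hl1]
    have e2 : ∀ W, l ⁻¹ᵁ (pullback.snd tD tS ⁻¹ᵁ W) = f ⁻¹ᵁ W := fun W => by
      rw [← Scheme.Hom.comp_preimage, hl2]
    rw [Scheme.Hom.preimage_inf, e1, e2]
    exact le_inf (hpre x).ge (hle x.1)
  refine isImmersion_of_restrict l O (fun y => ?_) fun x => ?_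
  · obtain ⟨x, hxF, hy⟩ := Set.mem_iUnion₂.1 (hF (Set.mem_univ y))
    exact ⟨⟨x, hxF⟩, hmem ⟨x, hxF⟩ hy⟩
  · haveI : IsAffineHom (c.π.app (iX x.1)) := isAffineHom_π_app D c hc _
    have hUq : IsAffineOpen (D.map (a x ≫ aX x.1) ⁻¹ᵁ UX x.1) := (hU x.1).preimage _
    have hO : IsAffineOpen (O x) := isAffineOpen_fst_inf_snd _ _ hUq (hW x.1) (isAffineOpen_top _) le_top le_top
    have haff := (app_surjective_of_le_coborderRange g
      ((hU x.1).preimage (c.π.app (iX x.1))) (hcob x.1)).1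
    have h0 := isClosedImmersion_restrict_of_generators (V := g ⁻¹ᵁ (c.π.app (iX x.1) ⁻¹ᵁ UX x.1)) l
      (pullback.fst tD tS) (pullback.snd tD tS) (g ≫ c.π.app q) f hl1 hl2 (O x) rfl hO
    have h1 := h0 haff
    have h2 := h1 (hpre x) (hle x.1)
    have h3 := h2 (GX x.1) (hGX x.1)
    exact h3 (hjX x.1 q (a x) (hpre x).ge)

end Groth.Agent.Approx
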