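import Groth.Agent.Approx.Over
import Groth.Agent.Approx.FP

/-!
# A finite type scheme is immersed in the product of a model and the base
-/

set_option autoImplicit false
set_option backward.isDefEq.respectTransparency false
set_option backward.isDefEq.respectTransparency.types false

universe u

open CategoryTheory CategoryTheory.Limits AlgebraicGeometry TopologicalSpace Opposite

namespace Groth.Agent.Approx

/-- A morphism to a product which is a closed immersion over an affine piece. -/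
theorem isClosedImmersion_restrict_of_generators {X Y S P : Scheme.{u}} (j : X ⟶ P) (p : P ⟶ Y) (q : P ⟶ S)
    (π : X ⟶ Y) (f : X ⟶ S) (hp : j ≫ p = π) (hq : j ≫ q = f) {U : Y.Opens} {W : S.Opens} (O : P.Opens)
    (hO : O = p ⁻¹ᵁ U ⊓ q ⁻¹ᵁ W) (hOaff : IsAffineOpen O) {V : X.Opens} (hV : IsAffineOpen V)
    (hVU : π ⁻¹ᵁ U = V) (hVW : V ≤ f ⁻¹ᵁ W) (G : Set Γ(X, V))
    (hG : Subring.closure (Set.range (f.appLE W V hVW).hom ∪ G) = ⊤)
    (hlift : ∀ x ∈ G, x ∈ (π.appLE U V hVU.ge).hom.range) : IsClosedImmersion (j ∣_ O) := by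
  subst hp hq
  have hj : j ⁻¹ᵁ O = V := by
    subst hO
    rw [Scheme.Hom.preimage_inf, ← Scheme.Hom.comp_preimage, ← Scheme.Hom.comp_preimage, hVU]
    exact inf_eq_left.2 hVW
  haveI : IsAffine (O : Scheme.{u}) := hOaff
  rw [HasAffineProperty.iff_of_isAffine (P := @IsClosedImmersion)]
  refine ⟨(hj ▸ hV :), ?_⟩
  have e1 : O ≤ p ⁻¹ᵁ U := hO.le.trans inf_le_left
  have e2 : O ≤ q ⁻¹ᵁ W := hO.le.trans inf_le_right
  have hs : Function.Surjective (j.appLE O V hj.ge).hom := by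
    have htop : (j.appLE O V hj.ge).hom.range = ⊤ := by
      rw [← top_le_iff, ← hG, Subring.closure_le]
      rintro x (⟨r, rfl⟩ | hx)
      · exact ⟨(q.appLE W O e2).hom r, by
          rw [← RingHom.comp_apply, ← CommRingCat.hom_comp, Scheme.Hom.appLE_comp_appLE]⟩
      · obtain ⟨r, hr⟩ := hlift x hx
        refine ⟨(p.appLE U O e1).hom r, ?_⟩
        rw [← RingHom.comp_apply, ← CommRingCat.hom_comp, Scheme.Hom.appLE_comp_appLE]
        exact hr
    exact RingHom.range_eq_top.1 htop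
  have e3 : ∀ O' : P.Opens, O' = O → Function.Surjective (j.app O').hom := by
    rintro O' rfl
    intro y
    obtain ⟨r, hr⟩ := hs ((X.presheaf.map (eqToHom hj.symm).op).hom y)
    refine ⟨r, ?_⟩
    have hi : Function.Injective (X.presheaf.map (eqToHom hj.symm).op).hom :=
      (ConcreteCategory.bijective_of_isIso _).1
    refine hi ?_
    rw [← hr]
    rfl
  show Function.Surjective ((j ∣_ O).app ⊤).hom
  rw [morphismRestrict_app, CommRingCat.hom_comp]
  exact (ConcreteCategory.bijective_of_isIso (X.presheaf.map _)).2.comp (e3 _ O.ι_image_top)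

/-- A product of affine opens over an affine open. -/
theorem isAffineOpen_fst_inf_snd {X Y Z : Scheme.{u}} (f : X ⟶ Z) (g : Y ⟶ Z) {U : X.Opens} {V : Y.Opens}
    {W : Z.Opens} (hU : IsAffineOpen U) (hV : IsAffineOpen V) (hW : IsAffineOpen W) (hUW : U ≤ f ⁻¹ᵁ W)
    (hVW : V ≤ g ⁻¹ᵁ W) : IsAffineOpen (pullback.fst f g ⁻¹ᵁ U ⊓ pullback.snd f g ⁻¹ᵁ V) := by
  haveI : IsAffine (U : Scheme.{u}) := hU
  haveI : IsAffine (V : Scheme.{u}) := hV
  haveI : IsAffine (W : Scheme.{u}) := hW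
  exact IsAffine.of_isIso
    (Scheme.Hom.isPullback_resLE (IsPullback.of_hasPullback f g) hVW hUW rfl).isoPullback.hom

/-- A morphism which is a closed immersion over opens covering its image is an immersion. -/
theorem isImmersion_of_restrict {X P : Scheme.{u}} (j : X ⟶ P) {ι : Type u} (O : ι → P.Opens)
    (hcov : ∀ x : X, ∃ i, j x ∈ O i) (h : ∀ i, IsClosedImmersion (j ∣_ O i)) : IsImmersion j := by
  let T : P.Opens := ⨆ i, O i
  haveI : IsClosedImmersion (j ∣_ T) := by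
    refine IsZariskiLocalAtTarget.of_iSup_eq_top (P := @IsClosedImmersion) (fun i => T.ι ⁻¹ᵁ O i) ?_ fun i => ?_
    · rw [← Scheme.Hom.preimage_iSup]
      exact T.ι_preimage_self
    · rw [MorphismProperty.arrow_mk_iso_iff @IsClosedImmersion (morphismRestrictRestrict j T (T.ι ⁻¹ᵁ O i))]
      have e : T.ι ''ᵁ (T.ι ⁻¹ᵁ O i) = O i := by
        rw [Scheme.Hom.image_preimage_eq_opensRange_inf, Scheme.Opens.opensRange_ι]
        exact inf_eq_right.2 (le_iSup O i)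
      rw [e]
      exact h i
  have hT : j ⁻¹ᵁ T = ⊤ := top_unique fun x _ => by
    obtain ⟨i, hi⟩ := hcov x
    exact Opens.mem_iSup.2 ⟨i, hi⟩
  haveI : IsIso (j ⁻¹ᵁ T).ι := by rw [hT]; exact (inferInstance : IsIso X.topIso.hom)
  have e : inv (j ⁻¹ᵁ T).ι ≫ (j ∣_ T) ≫ T.ι = j := by
    rw [morphismRestrict_ι, IsIso.inv_hom_id_assoc]
  rw [← e]
  infer_instance

/-- A scheme of finite type over `S` is immersed in the product of a stage and `S`. -/
theorem exists_immersion_stage {I : Type u} [SmallCategory I] [IsCofiltered I] {D : I ⥤ Scheme.{u}}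
    {c : Cone D} (hc : IsLimit c) [∀ {i j} (f : i ⟶ j), IsAffineHom (D.map f)] [∀ i, CompactSpace (D.obj i)]
    [∀ i, QuasiSeparatedSpace (D.obj i)] [CompactSpace c.pt] {S : Scheme.{u}} (f : c.pt ⟶ S)
    [LocallyOfFiniteType f] :
    ∃ i : I, IsImmersion (pullback.lift (f := specULiftZIsTerminal.from (D.obj i))
      (g := specULiftZIsTerminal.from S) (c.π.app i) f (specULiftZIsTerminal.hom_ext _ _)) := by
  classical
  have hloc : ∀ x : c.pt, ∃ (i : I) (U : (D.obj i).Opens) (W : S.Opens), IsAffineOpen U ∧ IsAffineOpen W ∧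
      x ∈ c.π.app i ⁻¹ᵁ U ∧ c.π.app i ⁻¹ᵁ U ≤ f ⁻¹ᵁ W := by
    intro x
    obtain ⟨_, ⟨W, hW, rfl⟩, hxW, -⟩ := S.isBasis_affineOpens.exists_subset_of_mem_open
      (Set.mem_univ (f x)) isOpen_univ
    obtain ⟨_, ⟨V, hV, rfl⟩, hxV, hVW⟩ := c.pt.isBasis_affineOpens.exists_subset_of_mem_open
      (show x ∈ ((f ⁻¹ᵁ W : c.pt.Opens) : Set c.pt) from hxW) (f ⁻¹ᵁ W).2
    obtain ⟨i, U, hU, rfl⟩ := exists_isAffineOpen_preimage_eq D c hc V hV
    exact ⟨i, U, W, hU, hW, hxV, hVW⟩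
  choose iX UX WX hU hW hx hle using hloc
  have hst : ∀ x : c.pt, ∃ (j : I) (g : j ⟶ iX x) (G : Set Γ(c.pt, c.π.app (iX x) ⁻¹ᵁ UX x)),
      Subring.closure (Set.range (f.appLE (WX x) _ (hle x)).hom ∪ G) = ⊤ ∧
      ∀ (q : I) (g' : q ⟶ j) (e : c.π.app (iX x) ⁻¹ᵁ UX x ≤ c.π.app q ⁻¹ᵁ (D.map (g' ≫ g) ⁻¹ᵁ UX x)),
        ∀ y ∈ G, y ∈ ((c.π.app q).appLE (D.map (g' ≫ g) ⁻¹ᵁ UX x) _ e).hom.range := by
    intro x
    haveI : IsAffineHom (c.π.app (iX x)) := isAffineHom_π_app D c hc (iX x)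
    obtain ⟨G, hG⟩ := exists_closure_of_finiteType _
      (f.finiteType_appLE (hW x) ((hU x).preimage (c.π.app (iX x))) (hle x))
    obtain ⟨j, g, hj⟩ := exists_finset_stage hc (hU x).isCompact G
    exact ⟨j, g, G, hG, hj⟩
  choose jX gX GX hGX hjX using hst
  obtain ⟨F, hF⟩ := isCompact_univ.elim_finite_subcover
    (fun x : c.pt => ((c.π.app (iX x) ⁻¹ᵁ UX x : c.pt.Opens) : Set c.pt)) (fun x => (c.π.app (iX x) ⁻¹ᵁ UX x).2)
    fun x _ => Set.mem_iUnion.2 ⟨x, hx x⟩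
  obtain ⟨q, hq⟩ := IsCofiltered.inf_objs_exists (F.image jX)
  refine ⟨q, ?_⟩
  let a := fun x : F => (hq (Finset.mem_image_of_mem jX x.2)).some
  let O := fun x : F => pullback.fst (specULiftZIsTerminal.from (D.obj q)) (specULiftZIsTerminal.from S) ⁻¹ᵁ
      (D.map (a x ≫ gX x.1) ⁻¹ᵁ UX x.1) ⊓
    pullback.snd (specULiftZIsTerminal.from (D.obj q)) (specULiftZIsTerminal.from S) ⁻¹ᵁ WX x.1
  have hpre : ∀ x : F, c.π.app q ⁻¹ᵁ (D.map (a x ≫ gX x.1) ⁻¹ᵁ UX x.1) = c.π.app (iX x.1) ⁻¹ᵁ UX x.1 := fun x => by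
    rw [← Scheme.Hom.comp_preimage, c.w]
  let l := pullback.lift (f := specULiftZIsTerminal.from (D.obj q)) (g := specULiftZIsTerminal.from S)
    (c.π.app q) f (specULiftZIsTerminal.hom_ext _ _)
  have hl1 : l ≫ pullback.fst (specULiftZIsTerminal.from (D.obj q)) (specULiftZIsTerminal.from S) = c.π.app q :=
    pullback.lift_fst _ _ _
  have hl2 : l ≫ pullback.snd (specULiftZIsTerminal.from (D.obj q)) (specULiftZIsTerminal.from S) = f :=
    pullback.lift_snd _ _ _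
  have hmem : ∀ x : F, c.π.app (iX x.1) ⁻¹ᵁ UX x.1 ≤ l ⁻¹ᵁ O x := fun x => by
    have e1 : ∀ W, l ⁻¹ᵁ ((pullback.fst (specULiftZIsTerminal.from (D.obj q)) (specULiftZIsTerminal.from S)) ⁻¹ᵁ W) = c.π.app q ⁻¹ᵁ W := fun W => by
      rw [← Scheme.Hom.comp_preimage, hl1]
    have e2 : ∀ W, l ⁻¹ᵁ ((pullback.snd (specULiftZIsTerminal.from (D.obj q)) (specULiftZIsTerminal.from S)) ⁻¹ᵁ W) = f ⁻¹ᵁ W := fun W => by
      rw [← Scheme.Hom.comp_preimage, hl2]
    rw [Scheme.Hom.preimage_inf, e1, e2]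
    exact le_inf (hpre x).ge (hle x.1)
  have key : ∀ x : F, IsClosedImmersion (l ∣_ O x) := fun x => ?_
  · refine isImmersion_of_restrict l O (fun y => ?_) key
    obtain ⟨x, hxF, hy⟩ := Set.mem_iUnion₂.1 (hF (Set.mem_univ y))
    exact ⟨⟨x, hxF⟩, hmem ⟨x, hxF⟩ hy⟩
  · haveI : IsAffineHom (c.π.app (iX x.1)) := isAffineHom_π_app D c hc _
    have hUq : IsAffineOpen (D.map (a x ≫ gX x.1) ⁻¹ᵁ UX x.1) := (hU x.1).preimage _
    have hO : IsAffineOpen (O x) := isAffineOpen_fst_inf_snd _ _ hUq (hW x.1) (isAffineOpen_top _) le_top le_top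
    have h0 := isClosedImmersion_restrict_of_generators (V := c.π.app (iX x.1) ⁻¹ᵁ UX x.1) l
      (pullback.fst (specULiftZIsTerminal.from (D.obj q)) (specULiftZIsTerminal.from S))
      (pullback.snd (specULiftZIsTerminal.from (D.obj q)) (specULiftZIsTerminal.from S)) (c.π.app q) f
      hl1 hl2 (O x) rfl hO
    have h1 := h0 ((hU x.1).preimage (c.π.app (iX x.1)))
    have h2 := h1 (hpre x) (hle x.1)
    have h3 := h2 (GX x.1) (hGX x.1)
    exact h3 (hjX x.1 q (a x) (hpre x).ge)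

end Groth.Agent.Approx
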