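import Groth.Agent.Approx.Sub
import Groth.Agent.Approx.Chart
import Mathlib.AlgebraicGeometry.Morphisms.QuasiSeparated

/-!
# Quasi-compact quasi-separated schemes are affine over schemes of finite type over the integers
-/

set_option autoImplicit false
set_option backward.isDefEq.respectTransparency false
set_option backward.isDefEq.respectTransparency.types false

universe u

open CategoryTheory CategoryTheory.Limits AlgebraicGeometry TopologicalSpace Opposite RelSpec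

namespace Groth.Agent.Approx

/-- Existence of an affine morphism to a quasi-compact scheme of finite type over the integers. -/
def HasModel (S : Scheme.{u}) : Prop :=
  ∃ (P : Scheme.{u}) (g : S ⟶ P), IsAffineHom g ∧ CompactSpace P ∧ FTZ P

section system

variable {X P : Scheme.{u}} (g : X ⟶ P) [IsAffineHom g]

/-- The system as a diagram of schemes. -/
noncomputable def sysSch : (Idx g)ᵒᵖ ⥤ Scheme.{u} where
  obj N := (alg g N.unop).spec
  map {N N'} f := trans g (show N'.unop ≤ N.unop from f.unop.le)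
  map_id N := trans_self g _
  map_comp {N N' N''} f f' := (trans_trans g _ _).symm

/-- The cone as a cone of schemes. -/
noncomputable def coneSch : Cone (sysSch g) where
  pt := X
  π :=
  { app := fun N => proj g N.unop
    naturality := fun N N' f => (Category.id_comp _).trans (proj_trans g _).symm }

theorem nonempty_isLimit_sch [CompactSpace P] [QuasiSeparatedSpace P] : Nonempty (IsLimit (coneSch g)) := by
  obtain ⟨h⟩ := isLimit_left (nonempty_isLimit g).some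
  exact ⟨IsLimit.mk
    (fun s => h.lift ⟨s.pt, ⟨s.π.app, s.π.naturality⟩⟩)
    (fun s N => h.fac ⟨s.pt, ⟨s.π.app, s.π.naturality⟩⟩ N)
    (fun s m hm => h.uniq ⟨s.pt, ⟨s.π.app, s.π.naturality⟩⟩ m hm)⟩

instance isAffineHom_sysSch {N N' : (Idx g)ᵒᵖ} (f : N ⟶ N') : IsAffineHom ((sysSch g).map f) :=
  inferInstanceAs (IsAffineHom (trans g (show N'.unop ≤ N.unop from f.unop.le)))

instance compactSpace_spec [CompactSpace P] (N : Idx g) : CompactSpace (alg g N).spec :=
  QuasiCompact.compactSpace_of_compactSpace (alg g N).π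

instance quasiSeparatedSpace_spec [QuasiSeparatedSpace P] (N : Idx g) : QuasiSeparatedSpace (alg g N).spec :=
  quasiSeparatedSpace_of_quasiSeparated (alg g N).π

theorem ftz_system (hP : FTZ P) (N : Idx g) : FTZ (alg g N).spec := ftz_of_hom (alg g N).π hP

end system

section glue

variable {V S V1 Z : Scheme.{u}} (a : Z ⟶ V) (b : Z ⟶ S) [IsOpenImmersion a] [IsOpenImmersion b]

theorem pushout_range : (Set.range (pushout.inl a b).base ∪ Set.range (pushout.inr a b).base) = Set.univ := by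
  refine Set.eq_univ_of_forall fun w => ?_
  obtain ⟨i, z, rfl⟩ := Scheme.IsLocallyDirected.ι_jointly_surjective (span a b) w
  rcases i with - | (- | -)
  · refine Or.inl ⟨a z, ?_⟩
    show pushout.inl a b (a z) = _
    rw [← Scheme.Hom.comp_apply, ← colimit.w (span a b) WalkingSpan.Hom.fst]
    rfl
  · exact Or.inl ⟨z, rfl⟩
  · exact Or.inr ⟨z, rfl⟩

theorem pushout_inl_eq_inr {x : V} {y : S} (h : pushout.inl a b x = pushout.inr a b y) :
    ∃ z, a z = x ∧ b z = y := by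
  obtain ⟨k, fi, fj, z, hi, hj⟩ := Scheme.IsLocallyDirected.ι_eq_ι_iff (span a b)
    (i := WalkingSpan.left) (j := WalkingSpan.right) |>.1 h
  change WidePushoutShape.Hom k (some WalkingPair.left) at fi
  change WidePushoutShape.Hom k (some WalkingPair.right) at fj
  cases fi with
  | id => cases fj
  | init =>
    cases fj with
    | init => exact ⟨z, hi, hj⟩

instance isOpenImmersion_inl : IsOpenImmersion (pushout.inl a b) :=
  inferInstanceAs (IsOpenImmersion (colimit.ι (span a b) WalkingSpan.left))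

instance isOpenImmersion_inr : IsOpenImmersion (pushout.inr a b) :=
  inferInstanceAs (IsOpenImmersion (colimit.ι (span a b) WalkingSpan.right))

end glue

/-- An open cover by two open immersions. -/
noncomputable def cover2 {A B X : Scheme.{u}} (a : A ⟶ X) (b : B ⟶ X) [IsOpenImmersion a] [IsOpenImmersion b]
    (h : a.opensRange ⊔ b.opensRange = ⊤) : X.OpenCover where
  I₀ := ULift.{u} Bool
  X i := match i with
    | ⟨true⟩ => A
    | ⟨false⟩ => B
  f i := match i with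
    | ⟨true⟩ => a
    | ⟨false⟩ => b
  mem₀ := by
    rw [Scheme.presieve₀_mem_precoverage_iff]
    refine ⟨fun x => ?_, fun i => ?_⟩
    · rcases (h.symm ▸ Set.mem_univ x : x ∈ (a.opensRange ⊔ b.opensRange : X.Opens)) with hx | hx
      · exact ⟨⟨true⟩, hx⟩
      · exact ⟨⟨false⟩, hx⟩
    · rcases i with ⟨_ | _⟩
      exacts [‹IsOpenImmersion b›, ‹IsOpenImmersion a›]

/-- Gluing two morphisms along an open cover by two pieces. -/
theorem exists_glue2 {A B X Y : Scheme.{u}} (a : A ⟶ X) (b : B ⟶ X) [IsOpenImmersion a] [IsOpenImmersion b]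
    (h : a.opensRange ⊔ b.opensRange = ⊤) (u : A ⟶ Y) (v : B ⟶ Y)
    (huv : pullback.fst a b ≫ u = pullback.snd a b ≫ v) :
    ∃ g : X ⟶ Y, a ≫ g = u ∧ b ≫ g = v := by
  let f : ∀ i : ULift.{u} Bool, (cover2 a b h).X i ⟶ Y := fun i => match i with
    | ⟨true⟩ => u
    | ⟨false⟩ => v
  have hf : ∀ i i', pullback.fst ((cover2 a b h).f i) ((cover2 a b h).f i') ≫ f i =
      pullback.snd _ _ ≫ f i' := by
    rintro ⟨_ | _⟩ ⟨_ | _⟩
    · show pullback.fst b b ≫ v = pullback.snd b b ≫ v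
      rw [fst_eq_snd_of_mono_eq]
    · show pullback.fst b a ≫ v = pullback.snd b a ≫ u
      rw [← cancel_epi (pullbackSymmetry a b).hom]
      rw [pullbackSymmetry_hom_comp_fst_assoc, pullbackSymmetry_hom_comp_snd_assoc, huv]
    · exact huv
    · show pullback.fst a a ≫ u = pullback.snd a a ≫ u
      rw [fst_eq_snd_of_mono_eq]
  exact ⟨(cover2 a b h).glueMorphisms f hf, (cover2 a b h).ι_glueMorphisms f hf ⟨true⟩,
    (cover2 a b h).ι_glueMorphisms f hf ⟨false⟩⟩

/-- A stage of a limit at which one function, with its basic open, is defined. -/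
theorem exists_stage_gen {I : Type u} [SmallCategory I] [IsCofiltered I] (D : I ⥤ Scheme.{u}) (c : Cone D)
    (hc : IsLimit c) [∀ {i j : I} (f : i ⟶ j), IsAffineHom (D.map f)] [∀ i, CompactSpace (D.obj i)]
    [∀ i, QuasiSeparatedSpace (D.obj i)] (i0 : I) {W0 O : (D.obj i0).Opens}
    (hW0 : IsCompact (W0 : Set (D.obj i0))) (hO : IsAffineOpen O) {W : c.pt.Opens}
    (hW : c.π.app i0 ⁻¹ᵁ W0 = W) (s : Γ(c.pt, W)) (hs : c.π.app i0 ⁻¹ᵁ O = c.pt.basicOpen s) :
    ∃ (i : I) (f : i ⟶ i0) (e : W ≤ c.π.app i ⁻¹ᵁ (D.map f ⁻¹ᵁ W0)) (t : Γ(D.obj i, D.map f ⁻¹ᵁ W0)),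
      ((c.π.app i).appLE (D.map f ⁻¹ᵁ W0) W e).hom t = s ∧ (D.obj i).basicOpen t = D.map f ⁻¹ᵁ O := by
  subst hW
  obtain ⟨i1, f1, e1, t1, ht1⟩ := exists_appLE_π_eq D c hc hW0 s
  have hpre : c.π.app i1 ⁻¹ᵁ (D.obj i1).basicOpen t1 = c.π.app i1 ⁻¹ᵁ (D.map f1 ⁻¹ᵁ O) := by
    rw [← Scheme.Hom.comp_preimage, c.w, hs, ← ht1]
    erw [Scheme.basicOpen_appLE]
    refine (inf_eq_right.2 ?_).symm
    refine ((c.π.app i1).preimage_mono ((D.obj i1).basicOpen_le t1)).trans ?_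
    rw [← Scheme.Hom.comp_preimage, c.w]
  have hc1 : IsCompact ((D.map f1 ⁻¹ᵁ W0 : (D.obj i1).Opens) : Set (D.obj i1)) :=
    QuasiCompact.isCompact_preimage (f := D.map f1) _ W0.2 hW0
  have hb : IsCompact ((D.obj i1).basicOpen t1 : Set (D.obj i1)) :=
    AlgebraicGeometry.isCompact_basicOpen (D.obj i1) hc1 t1
  obtain ⟨i, f2, hf2⟩ := exists_map_preimage_eq_map_preimage D c hc hb (hO.preimage _).isCompact hpre
  have e2 : D.map (f2 ≫ f1) ⁻¹ᵁ W0 ≤ D.map f2 ⁻¹ᵁ (D.map f1 ⁻¹ᵁ W0) := by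
    rw [← Scheme.Hom.comp_preimage, ← D.map_comp]
  have e : c.π.app i0 ⁻¹ᵁ W0 ≤ c.π.app i ⁻¹ᵁ (D.map (f2 ≫ f1) ⁻¹ᵁ W0) := by
    rw [← Scheme.Hom.comp_preimage (c.π.app i), c.w]
  refine ⟨i, f2 ≫ f1, e, ((D.map f2).appLE (D.map f1 ⁻¹ᵁ W0) _ e2).hom t1, ?_, ?_⟩
  · rw [← ht1, ← CommRingCat.comp_apply, Scheme.Hom.appLE_comp_appLE]
    simp only [c.w]
    rfl
  · rw [Scheme.basicOpen_appLE, hf2, ← Scheme.Hom.comp_preimage (D.map f2), ← D.map_comp]
    refine inf_eq_right.2 ?_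
    refine le_trans (le_of_eq ?_) (((D.map f2).preimage_mono ((D.obj i1).basicOpen_le t1)).trans ?_)
    · rw [hf2, ← Scheme.Hom.comp_preimage (D.map f2), ← D.map_comp]
    · rw [← Scheme.Hom.comp_preimage (D.map f2), ← D.map_comp]

/-- A stage at which one function, with its basic open, is defined. -/
theorem exists_stage {V P : Scheme.{u}} (g : V ⟶ P) [IsAffineHom g] [CompactSpace P] [QuasiSeparatedSpace P]
    (N0 : Idx g) {W0 O : (alg g N0).spec.Opens} (hW0 : IsCompact (W0 : Set (alg g N0).spec))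
    (hO : IsAffineOpen O) {W : V.Opens} (hW : proj g N0 ⁻¹ᵁ W0 = W) (s : Γ(V, W))
    (hs : proj g N0 ⁻¹ᵁ O = V.basicOpen s) :
    ∃ (N : Idx g) (h : N0 ≤ N) (e : W ≤ proj g N ⁻¹ᵁ (trans g h ⁻¹ᵁ W0)) (t : Γ((alg g N).spec, trans g h ⁻¹ᵁ W0)),
      ((proj g N).appLE (trans g h ⁻¹ᵁ W0) W e).hom t = s ∧
      (alg g N).spec.basicOpen t = trans g h ⁻¹ᵁ O := by
  obtain ⟨hc⟩ := nonempty_isLimit_sch g
  haveI : ∀ i, CompactSpace ((sysSch g).obj i) := fun i => compactSpace_spec g i.unop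
  haveI : ∀ i, QuasiSeparatedSpace ((sysSch g).obj i) := fun i => quasiSeparatedSpace_spec g i.unop
  obtain ⟨⟨N⟩, f, e, t, h1, h2⟩ :=
    exists_stage_gen (sysSch g) (coneSch g) hc (op N0) (W0 := W0) (O := O) hW0 hO (W := W) hW s hs
  exact ⟨N, f.unop.le, e, t, h1, h2⟩

/-- An affine open of `V` comes from a stage. -/
theorem exists_affine_stage {V P : Scheme.{u}} (g : V ⟶ P) [IsAffineHom g] [CompactSpace P] [QuasiSeparatedSpace P]
    (U : V.Opens) (hU : IsAffineOpen U) :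
    ∃ (N : Idx g) (O : (alg g N).spec.Opens), IsAffineOpen O ∧ proj g N ⁻¹ᵁ O = U := by
  obtain ⟨hc⟩ := nonempty_isLimit_sch g
  haveI : ∀ i, QuasiSeparatedSpace ((sysSch g).obj i) := fun i => quasiSeparatedSpace_spec g i.unop
  obtain ⟨⟨N⟩, O, hO, hO'⟩ := exists_isAffineOpen_preimage_eq (sysSch g) (coneSch g) hc U hU
  exact ⟨N, O, hO, hO'⟩

/-- Gluing a model with an affine open. -/
theorem step_glue {S V V1 : Scheme.{u}} [QuasiSeparatedSpace V]
    (j : V ⟶ S) [IsOpenImmersion j] (U : S.Opens) (hU : IsAffineOpen U) (hcov : j.opensRange ⊔ U = ⊤)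
    (F : Finset Γ(S, U)) (hF : ∀ f ∈ F, S.basicOpen f ≤ j.opensRange)
    (hW : IsCompact ((j ⁻¹ᵁ U : V.Opens) : Set V))
    (p : V ⟶ V1) [IsSchemeTheoreticallyDominant p] [IsAffineHom p] [CompactSpace V1] (hft : FTZ V1)
    (W1 : V1.Opens) (hW1 : IsCompact (W1 : Set V1)) (heq : p ⁻¹ᵁ W1 = j ⁻¹ᵁ U)
    (t : F → Γ(V1, W1))
    (ht : ∀ f, (p.appLE W1 (j ⁻¹ᵁ U) heq.ge).hom (t f) = (j.app U).hom f.1)
    (hO : ∀ f, IsAffineOpen (V1.basicOpen (t f))) (hcov1 : W1 ≤ ⨆ f, V1.basicOpen (t f)) : HasModel S := by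
  obtain ⟨A, φ, hFA, hA, hφ, hψ, hrange⟩ := exists_chart j U hU F hF hW p hft W1 hW1 heq t ht hO hcov1
  set ψ := W1.toSpecΓ ≫ Spec.map (CommRingCat.ofHom φ) with hψdef
  let S0 := pushout W1.ι ψ
  let uA : (U : Scheme.{u}) ⟶ Spec (CommRingCat.of A) := U.toSpecΓ ≫ Spec.map (CommRingCat.ofHom A.subtype)
  have hagree : pullback.fst j U.ι ≫ p ≫ pushout.inl W1.ι ψ =
      pullback.snd j U.ι ≫ uA ≫ pushout.inr W1.ι ψ := by
    rw [← cancel_epi (isPullback_morphismRestrict j U).flip.isoPullback.hom]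
    rw [IsPullback.isoPullback_hom_fst_assoc, IsPullback.isoPullback_hom_snd_assoc]
    have h1 : (j ⁻¹ᵁ U).ι ≫ p = p.resLE W1 (j ⁻¹ᵁ U) heq.ge ≫ W1.ι := (Scheme.Hom.resLE_comp_ι _ _).symm
    rw [← Category.assoc (j ⁻¹ᵁ U).ι, h1, Category.assoc, pushout.condition]
    simp only [← Category.assoc]
    congr 1
    rw [hψdef]
    simp only [uA, ← Category.assoc, ← Scheme.Opens.toSpecΓ_SpecMap_appLE]
    have h2 : (j ∣_ U) ≫ U.toSpecΓ = (j ⁻¹ᵁ U).toSpecΓ ≫ Spec.map (j.app U) := by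
      rw [Scheme.Hom.app_eq_appLE, Scheme.Opens.toSpecΓ_SpecMap_appLE, Scheme.Hom.resLE_eq_morphismRestrict]
    rw [h2]
    simp only [Category.assoc, ← Spec.map_comp]
    congr 2
    exact CommRingCat.hom_ext (RingHom.ext fun x => hφ x)
  have hcov' : j.opensRange ⊔ U.ι.opensRange = ⊤ := by rw [Scheme.Opens.opensRange_ι]; exact hcov
  obtain ⟨g, hgj, hgU⟩ := exists_glue2 j U.ι hcov' _ _ hagree
  have hrange' : ∀ u : (U : Scheme.{u}), uA u ∈ ψ.opensRange → U.ι u ∈ j.opensRange := by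
    intro u hu
    rw [hrange] at hu
    obtain ⟨f, hf⟩ := Opens.mem_iSup.1 hu
    have h3 : u ∈ U.toSpecΓ ⁻¹ᵁ PrimeSpectrum.basicOpen f.1 := hf
    rw [Scheme.Opens.toSpecΓ_preimage_basicOpen] at h3
    exact hF f.1 f.2 h3
  have hpb1 : IsPullback p j (pushout.inl W1.ι ψ) g := by
    refine IsOpenImmersion.isPullback _ _ _ _ hgj ?_
    refine le_antisymm (fun x hx => ?_) ?_
    · obtain ⟨v1, hv1⟩ := hx
      rcases (show x ∈ j.opensRange ⊔ U from hcov.symm ▸ trivial) with hxj | hxU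
      · exact hxj
      · obtain ⟨u, rfl⟩ : x ∈ Set.range U.ι := by rw [Scheme.Opens.range_ι]; exact hxU
        rw [← Scheme.Hom.comp_apply U.ι g, hgU, Scheme.Hom.comp_apply] at hv1
        obtain ⟨z, -, hz⟩ := pushout_inl_eq_inr W1.ι ψ hv1
        exact hrange' u ⟨z, hz⟩
    · rintro _ ⟨v, rfl⟩
      exact ⟨p v, (Scheme.Hom.comp_apply p (pushout.inl W1.ι ψ) v).symm.trans
        ((congrArg (fun m : V ⟶ S0 => m v) hgj.symm).trans (Scheme.Hom.comp_apply j g v))⟩
  have hpb2 : IsPullback uA U.ι (pushout.inr W1.ι ψ) g := by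
    refine IsOpenImmersion.isPullback _ _ _ _ hgU ?_
    refine le_antisymm (fun x hx => ?_) ?_
    · obtain ⟨w, hw⟩ := hx
      rcases (show x ∈ j.opensRange ⊔ U from hcov.symm ▸ trivial) with hxj | hxU
      · obtain ⟨v, rfl⟩ := hxj
        rw [← Scheme.Hom.comp_apply j g, hgj, Scheme.Hom.comp_apply] at hw
        obtain ⟨z, hz, -⟩ := pushout_inl_eq_inr W1.ι ψ hw.symm
        have hv : v ∈ p ⁻¹ᵁ W1 := by
          show p v ∈ W1
          rw [← hz]
          exact z.2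
        rw [heq] at hv
        exact ⟨⟨j v, hv⟩, rfl⟩
      · rw [Scheme.Opens.opensRange_ι]; exact hxU
    · rintro _ ⟨v, rfl⟩
      exact ⟨uA v, (Scheme.Hom.comp_apply uA (pushout.inr W1.ι ψ) v).symm.trans
        ((congrArg (fun m : (U : Scheme.{u}) ⟶ S0 => m v) hgU.symm).trans (Scheme.Hom.comp_apply U.ι g v))⟩
  let cv := cover2 (pushout.inl W1.ι ψ) (pushout.inr W1.ι ψ)
    (SetLike.coe_injective (by simpa using pushout_range W1.ι ψ))
  haveI : IsAffine (U : Scheme.{u}) := hU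
  haveI : IsAffineHom uA := inferInstance
  refine ⟨S0, g, IsZariskiLocalAtTarget.of_openCover (P := @IsAffineHom) cv ?_, ?_, ?_⟩
  · rintro ⟨_ | _⟩
    · show IsAffineHom (pullback.snd g (pushout.inr W1.ι ψ))
      rw [← hpb2.flip.isoPullback_inv_snd]
      infer_instance
    · show IsAffineHom (pullback.snd g (pushout.inl W1.ι ψ))
      rw [← hpb1.flip.isoPullback_inv_snd]
      infer_instance
  · refine ⟨?_⟩
    rw [← pushout_range W1.ι ψ]
    exact (isCompact_range (pushout.inl W1.ι ψ).continuous).union (isCompact_range (pushout.inr W1.ι ψ).continuous)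
  · show LocallyOfFiniteType _
    refine IsZariskiLocalAtSource.of_openCover (P := @LocallyOfFiniteType) cv ?_
    rintro ⟨_ | _⟩
    · have h : FTZ (Spec (CommRingCat.of A)) := hA
      show LocallyOfFiniteType (pushout.inr W1.ι ψ ≫ _)
      rw [specULiftZIsTerminal.hom_ext (pushout.inr W1.ι ψ ≫ _) (IsTerminal.from specULiftZIsTerminal _)]
      exact h
    · show LocallyOfFiniteType (pushout.inl W1.ι ψ ≫ _)
      rw [specULiftZIsTerminal.hom_ext (pushout.inl W1.ι ψ ≫ _) (IsTerminal.from specULiftZIsTerminal _)]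
      exact hft

/-- Sections pulled back along a composite. -/
theorem appLE_appLE_of_comp {A B C : Scheme.{u}} (p : A ⟶ B) (q : B ⟶ C) (r : A ⟶ C) (h : p ≫ q = r)
    {U : C.Opens} {W : B.Opens} {T : A.Opens} (e : W ≤ q ⁻¹ᵁ U) (e' : T ≤ p ⁻¹ᵁ W) (e'' : T ≤ r ⁻¹ᵁ U)
    (x : Γ(C, U)) : (p.appLE W T e').hom ((q.appLE U W e).hom x) = (r.appLE U T e'').hom x := by
  subst h
  rw [← Scheme.Hom.appLE_comp_appLE p q U W T e e']
  rfl

/-- Adding an affine open. -/
theorem step {S V : Scheme.{u}} [QuasiSeparatedSpace S] (j : V ⟶ S) [IsOpenImmersion j] [CompactSpace V]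
    (U : S.Opens) (hU : IsAffineOpen U) (hcov : j.opensRange ⊔ U = ⊤) (h : HasModel V) : HasModel S := by
  classical
  obtain ⟨P, g, hg, hP, hft⟩ := h
  haveI := quasiSeparatedSpace_of_ftz hft
  haveI : QuasiSeparatedSpace V := .of_isOpenEmbedding j.isOpenEmbedding
  have hUO : IsCompact ((U : Set S) ∩ j.opensRange) :=
    QuasiSeparatedSpace.inter_isCompact _ _ U.2 hU.isCompact j.opensRange.2
      (by simpa using isCompact_range j.continuous)
  have hx : ∀ x : ((U : Set S) ∩ j.opensRange : Set S), ∃ f : Γ(S, U), S.basicOpen f ≤ j.opensRange ∧ x.1 ∈ S.basicOpen f :=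
    fun x => hU.exists_basicOpen_le (⟨x.1, x.2.2⟩ : j.opensRange) x.2.1
  choose f0 hf0 hxf0 using hx
  obtain ⟨Fx, hFx⟩ := hUO.elim_finite_subcover (fun x => (S.basicOpen (f0 x) : Set S))
    (fun x => (S.basicOpen (f0 x)).2) fun x hx => Set.mem_iUnion.2 ⟨⟨x, hx⟩, hxf0 ⟨x, hx⟩⟩
  let F : Finset Γ(S, U) := Fx.image f0
  have hF : ∀ f ∈ F, S.basicOpen f ≤ j.opensRange := by
    intro f hf
    obtain ⟨x, -, rfl⟩ := Finset.mem_image.1 hf
    exact hf0 x
  have hW : IsCompact ((j ⁻¹ᵁ U : V.Opens) : Set V) := by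
    refine j.isOpenEmbedding.isInducing.isCompact_iff.2 ?_
    rw [show ((j ⁻¹ᵁ U : V.Opens) : Set V) = j ⁻¹' U from rfl, Set.image_preimage_eq_inter_range]
    simpa using hUO
  -- a stage where the basic opens are defined
  have h1 : ∀ f : F, ∃ (N : Idx g) (O : (alg g N).spec.Opens), IsAffineOpen O ∧
      proj g N ⁻¹ᵁ O = j ⁻¹ᵁ S.basicOpen f.1 := fun f => by
    exact exists_affine_stage g _ ((hU.basicOpen f.1).preimage_of_isOpenImmersion j (hF f.1 f.2))
  choose Nf Of hOf hOf' using h1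
  obtain ⟨N0, hN0⟩ := Finset.exists_le (Finset.univ.image Nf)
  replace hN0 : ∀ f, Nf f ≤ N0 := fun f => hN0 _ (Finset.mem_image_of_mem _ (Finset.mem_univ f))
  let O0 : F → (alg g N0).spec.Opens := fun f => trans g (hN0 f) ⁻¹ᵁ Of f
  let W0 : (alg g N0).spec.Opens := ⨆ f, O0 f
  have hO0 : ∀ f, proj g N0 ⁻¹ᵁ O0 f = j ⁻¹ᵁ S.basicOpen f.1 := fun f => by
    rw [← Scheme.Hom.comp_preimage, proj_trans, hOf']
  have hW0 : proj g N0 ⁻¹ᵁ W0 = j ⁻¹ᵁ U := by
    rw [Scheme.Hom.preimage_iSup]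
    refine le_antisymm (iSup_le fun f => (hO0 f).trans_le (j.preimage_mono (S.basicOpen_le f.1))) fun v hv => ?_
    obtain ⟨x, hx, hvx⟩ := Set.mem_iUnion₂.1 (hFx ⟨hv, ⟨v, rfl⟩⟩)
    refine Opens.mem_iSup.2 ⟨⟨f0 x, Finset.mem_image_of_mem _ hx⟩, ?_⟩
    rw [hO0]
    exact hvx
  have hW0c : IsCompact (W0 : Set (alg g N0).spec) := by
    rw [Opens.coe_iSup]
    exact isCompact_iUnion fun f => ((hOf f).preimage _).isCompact
  have h2 : ∀ f : F, ∃ (N : Idx g) (h : N0 ≤ N) (e : j ⁻¹ᵁ U ≤ proj g N ⁻¹ᵁ (trans g h ⁻¹ᵁ W0))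
      (t : Γ((alg g N).spec, trans g h ⁻¹ᵁ W0)),
      ((proj g N).appLE (trans g h ⁻¹ᵁ W0) (j ⁻¹ᵁ U) e).hom t = (j.app U).hom f.1 ∧
      (alg g N).spec.basicOpen t = trans g h ⁻¹ᵁ O0 f := fun f =>
    exists_stage g N0 hW0c ((hOf f).preimage _) hW0 _
      ((hO0 f).trans (Scheme.preimage_basicOpen j f.1))
  choose Ng hNg eg tg htg hbg using h2
  obtain ⟨M, hM⟩ := Finset.exists_le (insert N0 (Finset.univ.image Ng))
  have hM0 : N0 ≤ M := hM _ (Finset.mem_insert_self _ _)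
  replace hM : ∀ f, Ng f ≤ M := fun f =>
    hM _ (Finset.mem_insert_of_mem (Finset.mem_image_of_mem _ (Finset.mem_univ f)))
  let W1 : (alg g M).spec.Opens := trans g hM0 ⁻¹ᵁ W0
  have eM : ∀ f, W1 ≤ trans g (hM f) ⁻¹ᵁ (trans g (hNg f) ⁻¹ᵁ W0) := fun f => by
    rw [← Scheme.Hom.comp_preimage, trans_trans]
  have heq : proj g M ⁻¹ᵁ W1 = j ⁻¹ᵁ U := by
    rw [← Scheme.Hom.comp_preimage, proj_trans, hW0]
  let t : F → Γ((alg g M).spec, W1) := fun f => ((trans g (hM f)).appLE _ W1 (eM f)).hom (tg f)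
  have hbt : ∀ f, (alg g M).spec.basicOpen (t f) = trans g hM0 ⁻¹ᵁ O0 f := fun f => by
    rw [Scheme.basicOpen_appLE, hbg f, ← Scheme.Hom.comp_preimage (trans g (hM f)), trans_trans]
    exact inf_eq_right.2 ((trans g hM0).preimage_mono (le_iSup O0 f))
  refine step_glue j U hU hcov F hF hW (proj g M) (ftz_system g hft M) W1
    (QuasiCompact.isCompact_preimage (f := trans g hM0) _ W0.2 hW0c) heq t (fun f => ?_) (fun f => ?_) ?_
  · exact (appLE_appLE_of_comp (proj g M) (trans g (hM f)) (proj g (Ng f)) (proj_trans g (hM f))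
      (eM f) heq.ge (eg f) (tg f)).trans (htg f)
  · rw [hbt f]
    exact ((hOf f).preimage _).preimage _
  · exact (Scheme.Hom.preimage_iSup (trans g hM0) O0).le.trans (iSup_mono fun f => (hbt f).ge)

/-- **Every qcqs scheme is affine over a scheme of finite type over the integers.** -/
theorem hasModel (S : Scheme.{u}) [CompactSpace S] [QuasiSeparatedSpace S] : HasModel S := by
  suffices H : ∀ O : S.Opens, IsCompact (O : Set S) → HasModel O by
    obtain ⟨P, g, hg, hP, hft⟩ := H ⊤ isCompact_univ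
    exact ⟨P, S.topIso.inv ≫ g, inferInstance, hP, hft⟩
  intro O hO
  refine compact_open_induction_on (P := fun O : S.Opens => HasModel O) O hO ?_ fun O hO U h => ?_
  · have : IsEmpty ((⊥ : S.Opens) : Scheme.{u}) := ⟨fun x => x.2⟩
    haveI : IsAffine ((⊥ : S.Opens) : Scheme.{u}) := isAffine_of_isEmpty
    exact ⟨_, IsTerminal.from specULiftZIsTerminal _, inferInstance, inferInstance,
      (show LocallyOfFiniteType _ by
        rw [specULiftZIsTerminal.hom_ext (IsTerminal.from _ _) (𝟙 _)]; infer_instance)⟩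
  · haveI : CompactSpace (O : Scheme.{u}) := isCompact_iff_compactSpace.1 hO
    haveI : QuasiSeparatedSpace ((O ⊔ U.1 : S.Opens) : Scheme.{u}) :=
      .of_isOpenEmbedding (O ⊔ U.1 : S.Opens).ι.isOpenEmbedding
    refine step (S.homOfLE (le_sup_left : O ≤ O ⊔ U.1)) ((O ⊔ U.1).ι ⁻¹ᵁ U.1)
      (U.2.preimage_of_isOpenImmersion _ (by rw [Scheme.Opens.opensRange_ι]; exact le_sup_right)) ?_ h
    rw [Scheme.opensRange_homOfLE, ← Scheme.Hom.preimage_sup]
    exact (O ⊔ U.1).ι_preimage_self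

end Groth.Agent.Approx
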