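import Mathlib
import Groth.Agent.NagataLib.IntClosure
import Groth.Agent.MorLib.LimMax
import Groth.Agent.VarDim.IrredFibres

/-!
# Finiteness of the normalization in a scheme with finitely generated generic residue fields
-/

set_option backward.isDefEq.respectTransparency false
set_option backward.isDefEq.respectTransparency.types false

universe u

open CategoryTheory CategoryTheory.Limits AlgebraicGeometry TopologicalSpace Opposite

namespace Groth.Agent.Approx.NagataNorm

/-- The integral closure of a Nagata ring in a finitely generated field extension of a residue field. -/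
theorem finite_integralClosure_field {A : Type u} [CommRing A] (hA : CAlg.IsNagata A) (L : Type u)
    [Field L] [Algebra A L] [Algebra.EssFiniteType A L] :
    Module.Finite A (integralClosure A L) := by
  haveI := hA.1
  let p := RingHom.ker (algebraMap A L)
  haveI : p.IsPrime := RingHom.ker_isPrime _
  let A' := A ⧸ p
  letI : Algebra A' L := (Ideal.Quotient.lift p (algebraMap A L) fun a ha => ha).toAlgebra
  haveI : IsScalarTower A A' L := IsScalarTower.of_algebraMap_eq fun _ => rfl
  haveI : FaithfulSMul A' L :=
    (faithfulSMul_iff_algebraMap_injective A' L).mpr (RingHom.kerLift_injective (algebraMap A L))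
  letI : Algebra (FractionRing A') L := FractionRing.liftAlgebra A' L
  haveI : IsScalarTower A' (FractionRing A') L := FractionRing.isScalarTower_liftAlgebra A' L
  haveI : Algebra.EssFiniteType A' L := Algebra.EssFiniteType.of_comp A A' L
  haveI : Algebra.EssFiniteType (FractionRing A') L := Algebra.EssFiniteType.of_comp A' _ L
  let E := algebraicClosure (FractionRing A') L
  haveI : Algebra.IsAlgebraic (FractionRing A') E := algebraicClosure.isAlgebraic _ _
  haveI : FiniteDimensional (FractionRing A') E := NagataLib.finiteDimensional_of_isAlgebraic E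
  letI : Algebra A' E := ((algebraMap (FractionRing A') E).comp (algebraMap A' _)).toAlgebra
  haveI : IsScalarTower A' (FractionRing A') E := IsScalarTower.of_algebraMap_eq fun _ => rfl
  haveI hE : Module.Finite A' (integralClosure A' E) := hA.2 p E ‹_›
  haveI : Module.Finite A A' :=
    Module.Finite.of_surjective (Algebra.linearMap A A') Ideal.Quotient.mk_surjective
  letI : Algebra A E := ((algebraMap A' E).comp (algebraMap A A')).toAlgebra
  haveI : IsScalarTower A A' E := IsScalarTower.of_algebraMap_eq fun _ => rfl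
  haveI : Module.Finite A (integralClosure A' E) := Module.Finite.trans A' _
  have hmem : ∀ z : integralClosure A L, IsIntegral A' z.1 := fun z => z.2.tower_top (A := A')
  let z' : integralClosure A L → integralClosure A' E := fun z =>
    ⟨⟨z.1, mem_algebraicClosure_iff.mpr ((hmem z).tower_top (A := FractionRing A')).isAlgebraic⟩,
      (isIntegral_algHom_iff (E.val.restrictScalars A') Subtype.val_injective).mp (hmem z)⟩
  let i : integralClosure A L →ₗ[A] integralClosure A' E :=
    { toFun := z'
      map_add' := fun a b => Subtype.ext (Subtype.ext rfl)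
      map_smul' := fun c a => Subtype.ext (Subtype.ext (by
        show c • a.1 = _
        rw [Algebra.smul_def]
        show _ = ((c • (z' a).1 : E) : L)
        rw [Algebra.smul_def]
        show _ = ((algebraMap A E c : E) : L) * _
        congr 1
        show _ = algebraMap (FractionRing A') L (algebraMap A' _ (algebraMap A A' c))
        rw [← IsScalarTower.algebraMap_apply A' (FractionRing A') L]
        rfl)) }
  exact Module.Finite.of_injective i fun a b h =>
    Subtype.ext (congrArg (fun w : integralClosure A' E => (w.1 : L)) h)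

variable {X S : Scheme.{u}}

theorem essFiniteType_evaluation {O : S.Opens} (hO : IsAffineOpen O) (s : S) (hs : s ∈ O) :
    (S.evaluation O s hs).hom.EssFiniteType := by
  haveI := hO.isLocalization_stalk ⟨s, hs⟩
  letI : Algebra Γ(S, O) (S.presheaf.stalk s) := (S.presheaf.germ O s hs).hom.toAlgebra
  have h1 : (S.presheaf.germ O s hs).hom.EssFiniteType := by
    show Algebra.EssFiniteType Γ(S, O) (S.presheaf.stalk s)
    exact Algebra.EssFiniteType.of_isLocalization (R := Γ(S, O)) _ (hO.primeIdealOf ⟨s, hs⟩).asIdeal.primeCompl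
  have h2 : (S.residue s).hom.FiniteType :=
    RingHom.FiniteType.of_surjective _ (S.residue_surjective s)
  exact h1.comp h2.essFiniteType

theorem eq_zero_of_generic [IsReduced X] {W : X.Opens} (s : Γ(X, W))
    (h : ∀ (η : X) (hη : η ∈ W), MorLib.LimMax.IsMax η → X.evaluation W η hη s = 0) : s = 0 := by
  rw [← AlgebraicGeometry.basicOpen_eq_bot_iff]
  refine eq_bot_iff.2 fun x hx => ?_
  obtain ⟨η, hmax, hηx⟩ := MorLib.LimMax.exists_isMax_specializes x
  have hη : η ∈ X.basicOpen s := hηx.mem_open (X.basicOpen s).2 hx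
  exact absurd (h η (X.basicOpen_le s hη) hmax) ((X.evaluation_ne_zero_iff_mem_basicOpen η _ s).2 hη)

theorem finite_generic_of_compact
    (hfin : LocallyFinite (fun Z : ↥(irreducibleComponents ↥X) => (Z : Set ↥X)))
    {W : Set X} (hW : IsCompact W) : {η : X | η ∈ W ∧ MorLib.LimMax.IsMax η}.Finite := by
  let T := {Z : ↥(irreducibleComponents ↥X) | ((Z : Set ↥X) ∩ W).Nonempty}
  have hT : T.Finite := hfin.finite_nonempty_inter_compact hW
  let c : {η : X | η ∈ W ∧ MorLib.LimMax.IsMax η} → T := fun η =>
    ⟨⟨closure {η.1}, VarDim.closure_mem_irreducibleComponents η.2.2⟩, ⟨η.1, subset_closure rfl, η.2.1⟩⟩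
  haveI := hT.to_subtype
  have hc : Function.Injective c := fun a b h => Subtype.ext
    (IsGenericPoint.eq (S := closure {a.1}) rfl
      (congrArg (fun t : T => (t.1.1 : Set X)) h).symm)
  exact @Set.toFinite _ _ (Finite.of_injective c hc)

theorem isFinite_of_generic {U A T : Scheme.{u}} (a : A ⟶ U) [IsIntegralHom a] [IsReduced T] (m : T ⟶ A)
    (hm : m.ker = ⊥) [QuasiCompact m] (hU : ∀ V : U.Opens, IsAffineOpen V → CAlg.IsNagata Γ(U, V))
    (hfin : LocallyFinite (fun Z : ↥(irreducibleComponents ↥T) => (Z : Set ↥T)))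
    (hres : ∀ η : T, MorLib.LimMax.IsMax η → ((m ≫ a).residueFieldMap η).hom.EssFiniteType) :
    IsFinite a := by
  constructor
  intro O hO
  have hV : IsAffineOpen (a ⁻¹ᵁ O) := hO.preimage a
  have hint : (a.app O).hom.IsIntegral := IsIntegralHom.isIntegral_app a O hO
  let G := {η : T | η ∈ (((m ≫ a) ⁻¹ᵁ O : T.Opens) : Set T) ∧ MorLib.LimMax.IsMax η}
  haveI : Finite G := (finite_generic_of_compact hfin ((m ≫ a).isCompact_preimage hO.isCompact)).to_subtype
  letI : Algebra Γ(U, O) Γ(A, a ⁻¹ᵁ O) := (a.app O).hom.toAlgebra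
  let e : ∀ η : G, Γ(U, O) ⟶ T.residueField η.1 := fun η =>
    U.evaluation O ((m ≫ a) η.1) η.2.1 ≫ (m ≫ a).residueFieldMap η.1
  letI : ∀ η : G, Algebra Γ(U, O) (T.residueField η.1) := fun η => (e η).hom.toAlgebra
  haveI : ∀ η : G, Algebra.EssFiniteType Γ(U, O) (T.residueField η.1) := fun η =>
    (essFiniteType_evaluation hO _ η.2.1).comp (hres η.1 η.2.2)
  haveI : IsNoetherianRing Γ(U, O) := (hU O hO).1
  haveI : ∀ η : G, Module.Finite Γ(U, O) (integralClosure Γ(U, O) (T.residueField η.1)) := fun η =>
    finite_integralClosure_field (hU O hO) _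
  let φ : ∀ η : G, Γ(A, a ⁻¹ᵁ O) →ₐ[Γ(U, O)] T.residueField η.1 := fun η =>
    { (m.app (a ⁻¹ᵁ O) ≫ T.evaluation _ η.1 η.2.1).hom with
      commutes' := fun r => by
        show (m.app (a ⁻¹ᵁ O) ≫ T.evaluation _ η.1 η.2.1) ((a.app O) r) = (e η) r
        simp only [e]
        rw [Scheme.evaluation_naturality, Scheme.Hom.comp_app]
        rfl }
  haveI : Algebra.IsIntegral Γ(U, O) Γ(A, a ⁻¹ᵁ O) := ⟨hint⟩
  let ψ : Γ(A, a ⁻¹ᵁ O) →ₗ[Γ(U, O)] ∀ η : G, integralClosure Γ(U, O) (T.residueField η.1) :=
    LinearMap.pi fun η => ((φ η).codRestrict (integralClosure Γ(U, O) (T.residueField η.1))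
      fun x => (Algebra.IsIntegral.isIntegral x).map (φ η)).toLinearMap
  have hψ : Function.Injective ψ := by
    intro x y hxy
    have hinj : Function.Injective (m.app (a ⁻¹ᵁ O)).hom := (RingHom.injective_iff_ker_eq_bot _).2 (by
      have := congr($(hm).ideal ⟨_, hV⟩)
      rwa [Scheme.Hom.ker_apply, Scheme.IdealSheafData.ideal_bot, Pi.bot_apply] at this)
    refine hinj (sub_eq_zero.1 (eq_zero_of_generic _ fun η hη hmax => ?_))
    have h := congrArg Subtype.val (congrFun hxy ⟨η, hη, hmax⟩)
    rw [map_sub, sub_eq_zero]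
    exact h
  exact Module.Finite.of_injective ψ hψ

end Groth.Agent.Approx.NagataNorm
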