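import Mathlib
import Groth.Agent.AffineNhd.Glue
import Groth.Agent.H23.SpreadFP
import Groth.Agent.GrpdLib.LocQuot

/-!
# Gluing morphisms near a closed point
-/

set_option backward.isDefEq.respectTransparency false
set_option backward.isDefEq.respectTransparency.types false

universe u

open CategoryTheory CategoryTheory.Limits AlgebraicGeometry TopologicalSpace IsLocalRing

namespace Groth.Agent.Approx.NearClosed

variable {X Y S : Scheme.{u}}

/-- Morphisms which agree on all local schemes are equal. -/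
theorem hom_ext_fromSpecStalk (f g : X ⟶ Y)
    (h : ∀ z : X, X.fromSpecStalk z ≫ f = X.fromSpecStalk z ≫ g) : f = g := by
  have hbase : ∀ z : X, f z = g z := fun z => by
    have := congr($(h z) (closedPoint _))
    rw [Scheme.Hom.comp_apply, Scheme.Hom.comp_apply, Scheme.fromSpecStalk_closedPoint] at this
    exact this
  refine Scheme.Hom.ext (by ext z; exact hbase z) fun U => ?_
  ext s
  refine TopCat.Presheaf.section_ext X.sheaf _ _ _ fun z hz => ?_
  have hfz : f z ∈ U := by rw [hbase z]; exact hz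
  have H : f.stalkMap z =
      Y.presheaf.stalkSpecializes (Inseparable.of_eq (hbase z).symm).specializes ≫ g.stalkMap z := by
    apply Spec.map_injective
    rw [← cancel_mono (Y.fromSpecStalk _)]
    simpa [Scheme.SpecMap_stalkSpecializes_fromSpecStalk] using h z
  change X.presheaf.germ _ z hz (X.presheaf.map _ (f.app U s)) = X.presheaf.germ _ z hz (g.app U s)
  rw [TopCat.Presheaf.germ_res_apply, ← Scheme.Hom.germ_stalkMap_apply f U z hfz, H,
    CommRingCat.comp_apply, TopCat.Presheaf.germ_stalkSpecializes_apply,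
    Scheme.Hom.germ_stalkMap_apply g U z hz]

/-- Two morphisms on an open which agree near each of its points are equal. -/
theorem eq_of_locally {O : X.Opens} (a b : (O : Scheme.{u}) ⟶ Y)
    (h : ∀ z ∈ O, ∃ (V : X.Opens) (hV : V ≤ O), z ∈ V ∧ X.homOfLE hV ≫ a = X.homOfLE hV ≫ b) :
    a = b := by
  refine hom_ext_fromSpecStalk a b fun z => ?_
  obtain ⟨V, hV, hzV, hab⟩ := h z.1 z.2
  obtain ⟨l, hl⟩ : ∃ l : Spec ((O : Scheme.{u}).presheaf.stalk z) ⟶ V,
      l ≫ X.homOfLE hV = (O : Scheme.{u}).fromSpecStalk z := by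
    refine ⟨IsOpenImmersion.lift V.ι ((O : Scheme.{u}).fromSpecStalk z ≫ O.ι) ?_, ?_⟩
    · rw [Scheme.Opens.range_ι]
      rintro _ ⟨y, rfl⟩
      rw [Scheme.Hom.comp_apply]
      have hsp : (O : Scheme.{u}).fromSpecStalk z y ⤳ z := by
        have := Scheme.range_fromSpecStalk (X := (O : Scheme.{u})) (x := z)
        exact (this.le ⟨y, rfl⟩ : _)
      exact (hsp.map O.ι.continuous).mem_open V.2 hzV
    · rw [← cancel_mono O.ι, Category.assoc, Scheme.homOfLE_ι, IsOpenImmersion.lift_fac]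
  rw [← hl, Category.assoc, Category.assoc, hab]

theorem specializes_mem_opens {U : X.Opens} {x z : X} (h : z ⤳ x) (hx : x ∈ U) : z ∈ U :=
  h.mem_open U.2 hx

theorem specMap_fromSpecStalkOfMem {U : X.Opens} {x z : X} (h : z ⤳ x) (hx : x ∈ U) :
    Spec.map (X.presheaf.stalkSpecializes h) ≫ U.fromSpecStalkOfMem x hx =
      U.fromSpecStalkOfMem z (specializes_mem_opens h hx) := by
  rw [← cancel_mono U.ι, Category.assoc, Scheme.Opens.fromSpecStalkOfMem_ι,
    Scheme.Opens.fromSpecStalkOfMem_ι, Scheme.SpecMap_stalkSpecializes_fromSpecStalk]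

/-- A morphism from the local scheme at a point to a scheme locally of finite presentation
extends to an affine neighbourhood. -/
theorem exists_extension (p : X ⟶ S) (q : Y ⟶ S) [LocallyOfFinitePresentation q] (x : X)
    (b : Spec (X.presheaf.stalk x) ⟶ Y) (hb : b ≫ q = X.fromSpecStalk x ≫ p) :
    ∃ (W : X.Opens) (hxW : x ∈ W), IsAffineOpen W ∧ ∃ b' : (W : Scheme.{u}) ⟶ Y,
      b' ≫ q = W.ι ≫ p ∧ W.fromSpecStalkOfMem x hxW ≫ b' = b := by
  have e : p x = q (b (closedPoint _)) := by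
    have := congr($hb (closedPoint _))
    rw [Scheme.Hom.comp_apply, Scheme.Hom.comp_apply, Scheme.fromSpecStalk_closedPoint] at this
    exact this.symm
  have hφ := Scheme.Spec_stalkClosedPointTo_fromSpecStalk b
  obtain ⟨U, hxU, f, hf, hfq⟩ := H23.SpreadFP.spread_out p q e (Scheme.stalkClosedPointTo b) (by
    apply Spec.map_injective
    rw [← cancel_mono (S.fromSpecStalk _), Spec.map_comp, Spec.map_comp, Category.assoc,
      Category.assoc, Scheme.SpecMap_stalkMap_fromSpecStalk, ← Category.assoc, hφ, hb,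
      Scheme.SpecMap_stalkSpecializes_fromSpecStalk, Scheme.SpecMap_stalkMap_fromSpecStalk])
  rw [hφ] at hf
  obtain ⟨W, hW, hxW, hWU'⟩ := exists_isAffineOpen_mem_and_subset hxU
  have hWU : W ≤ U := hWU'
  refine ⟨W, hxW, hW, X.homOfLE hWU ≫ f, ?_, ?_⟩
  · rw [Category.assoc, hfq, Scheme.homOfLE_ι_assoc]
  · rw [← Category.assoc, H23.SpreadFP.fromSpecStalkOfMem_homOfLE, ← hf]

theorem exists_glue_near (p : X ⟶ S) (q : Y ⟶ S) [LocallyOfFinitePresentation q]
    (x : X) (U : X.Opens) (hU : (U : Set X) = {x}ᶜ) [QuasiCompact U.ι]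
    (a : (U : Scheme.{u}) ⟶ Y) (b : Spec (X.presheaf.stalk x) ⟶ Y) (ha : a ≫ q = U.ι ≫ p)
    (hb : b ≫ q = X.fromSpecStalk x ≫ p)
    (hab : ((X.fromSpecStalk x) ⁻¹ᵁ U).ι ≫ b = ((X.fromSpecStalk x) ∣_ U) ≫ a) :
    ∃ g : X ⟶ Y, g ≫ q = p ∧ U.ι ≫ g = a ∧ X.fromSpecStalk x ≫ g = b := by
  obtain ⟨W, hxW, hW, b', hb'q, hb'⟩ := exists_extension p q x b hb
  let O : X.Opens := U ⊓ W
  let a₁ : (O : Scheme.{u}) ⟶ Y := X.homOfLE (inf_le_left : O ≤ U) ≫ a
  let b₁ : (O : Scheme.{u}) ⟶ Y := X.homOfLE (inf_le_right : O ≤ W) ≫ b'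
  have hq : a₁ ≫ q = b₁ ≫ q := by
    simp only [a₁, b₁, Category.assoc, ha, hb'q, Scheme.homOfLE_ι_assoc]
  let E : X.Opens := sSup {V | ∃ hV : V ≤ O, X.homOfLE hV ≫ a₁ = X.homOfLE hV ≫ b₁}
  have hkey : ∀ z ∈ O, z ⤳ x → z ∈ E := by
    intro z hz hzx
    obtain ⟨l, hl⟩ : ∃ l : Spec (X.presheaf.stalk z) ⟶ ((X.fromSpecStalk x) ⁻¹ᵁ U),
        l ≫ ((X.fromSpecStalk x) ⁻¹ᵁ U).ι = Spec.map (X.presheaf.stalkSpecializes hzx) := by
      refine ⟨IsOpenImmersion.lift _ (Spec.map (X.presheaf.stalkSpecializes hzx)) ?_,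
        IsOpenImmersion.lift_fac _ _ _⟩
      rw [Scheme.Opens.range_ι]
      rintro _ ⟨y, rfl⟩
      show (Spec.map (X.presheaf.stalkSpecializes hzx) ≫ X.fromSpecStalk x) y ∈ U
      rw [Scheme.SpecMap_stalkSpecializes_fromSpecStalk]
      exact (Scheme.range_fromSpecStalk.le ⟨y, rfl⟩ : _).mem_open U.2 hz.1
    have h1 : l ≫ (X.fromSpecStalk x ∣_ U) = U.fromSpecStalkOfMem z hz.1 := by
      rw [← cancel_mono U.ι, Category.assoc, morphismRestrict_ι, ← Category.assoc, hl,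
        Scheme.SpecMap_stalkSpecializes_fromSpecStalk, Scheme.Opens.fromSpecStalkOfMem_ι]
    obtain ⟨V, hVO, hzV, hV⟩ := H23.SpreadFP.eq_on_nhd q hz a₁ b₁ hq (by
      simp only [a₁, b₁, ← Category.assoc, H23.SpreadFP.fromSpecStalkOfMem_homOfLE]
      rw [← specMap_fromSpecStalkOfMem hzx hxW, Category.assoc, hb', ← h1, Category.assoc, ← hab,
        ← Category.assoc, hl])
    exact (le_sSup ⟨hVO, hV⟩ : V ≤ E) hzV
  -- the closure of the bad locus avoids `x`
  haveI : QuasiSeparatedSpace (W : Scheme.{u}) := by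
    haveI : IsAffine (W : Scheme.{u}) := hW
    infer_instance
  have hOc : IsCompact ((W.ι ⁻¹ᵁ U : W.toScheme.Opens) : Set W.toScheme) := by
    have h1 : IsCompact ((U.ι ⁻¹ᵁ W : U.toScheme.Opens) : Set U.toScheme) :=
      U.ι.isCompact_preimage hW.isCompact
    rw [W.ι.isEmbedding.isCompact_iff]
    have h2 := h1.image U.ι.continuous
    rw [Scheme.Hom.coe_preimage, Set.image_preimage_eq_inter_range, Scheme.Opens.range_ι] at h2 ⊢
    rwa [Set.inter_comm] at h2
  have hx : (⟨x, hxW⟩ : W.toScheme) ∉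
      closure (((W.ι ⁻¹ᵁ U : W.toScheme.Opens) : Set W.toScheme) \ (W.ι ⁻¹ᵁ E : W.toScheme.Opens)) := by
    intro hmem
    obtain ⟨z, hz, hzE, hzx⟩ := AffineNhd.exists_specializes_of_mem_closure_diff hOc hmem
    exact hzE (hkey _ ⟨hz, z.2⟩ (hzx.map W.ι.continuous))
  let N : X.Opens := W.ι ''ᵁ ⟨_, (isClosed_closure (s :=
    ((W.ι ⁻¹ᵁ U : W.toScheme.Opens) : Set W.toScheme) \ (W.ι ⁻¹ᵁ E : W.toScheme.Opens))).isOpen_compl⟩
  have hxN : x ∈ N := ⟨⟨x, hxW⟩, hx, rfl⟩
  have hNW : N ≤ W := W.ι_image_le _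
  have hNE : U ⊓ N ≤ E := by
    rintro z ⟨hzU, ⟨w, hw, rfl⟩⟩
    by_contra hne
    exact hw (subset_closure ⟨hzU, hne⟩)
  have hagree : X.homOfLE (inf_le_left : U ⊓ N ≤ U) ≫ a =
      X.homOfLE (inf_le_right : U ⊓ N ≤ N) ≫ X.homOfLE hNW ≫ b' := by
    refine eq_of_locally _ _ fun z hz => ?_
    obtain ⟨V, ⟨hVO, hV⟩, hzV⟩ := Opens.mem_sSup.1 (hNE hz)
    refine ⟨V ⊓ (U ⊓ N), inf_le_right, ⟨hzV, hz⟩, ?_⟩
    have := congrArg (X.homOfLE (inf_le_left : V ⊓ (U ⊓ N) ≤ V) ≫ ·) hV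
    simp only [a₁, b₁, ← Category.assoc, Scheme.homOfLE_homOfLE] at this ⊢
    exact this
  let V : ULift.{u} Bool → X.Opens := fun i => bif i.down then U else N
  obtain ⟨g, hg⟩ := GrpdLib.exists_glue V (top_le_iff.1 fun z _ => by
      by_cases hz : z = x
      · exact Opens.mem_iSup.2 ⟨⟨false⟩, hz ▸ hxN⟩
      · exact Opens.mem_iSup.2 ⟨⟨true⟩, show z ∈ (U : Set X) by rw [hU]; exact hz⟩)
    (fun i => match i with
      | ⟨true⟩ => a
      | ⟨false⟩ => X.homOfLE hNW ≫ b')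
    (fun i j => by
      rcases i with ⟨_ | _⟩ <;> rcases j with ⟨_ | _⟩
      · rfl
      · have := congrArg (X.homOfLE (le_inf inf_le_right inf_le_left : N ⊓ U ≤ U ⊓ N) ≫ ·) hagree
        simp only [← Category.assoc, Scheme.homOfLE_homOfLE] at this ⊢
        exact this.symm
      · exact hagree
      · rfl)
  have hgU : U.ι ≫ g = a := hg ⟨true⟩
  have hgN : N.ι ≫ g = X.homOfLE hNW ≫ b' := hg ⟨false⟩
  have hgb : X.fromSpecStalk x ≫ g = b := by
    rw [← Scheme.Opens.fromSpecStalkOfMem_ι N x hxN, Category.assoc, hgN, ← Category.assoc,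
      H23.SpreadFP.fromSpecStalkOfMem_homOfLE, hb']
  refine ⟨g, hom_ext_fromSpecStalk _ _ fun z => ?_, hgU, hgb⟩
  by_cases hz : z = x
  · subst hz
    rw [← Category.assoc, hgb, hb]
  · have hzU : z ∈ U := show z ∈ (U : Set X) by rw [hU]; exact hz
    rw [← Scheme.Opens.fromSpecStalkOfMem_ι U z hzU, Category.assoc, Category.assoc,
      reassoc_of% hgU, ha]

end Groth.Agent.Approx.NearClosed
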