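import Groth.Prelude.Def_FlatCA
import Mathlib.AlgebraicGeometry.ZariskisMainTheorem

/-!
# Monomorphisms with sections over a limit of nilpotent thickenings
-/

universe u

open CategoryTheory CategoryTheory.Limits AlgebraicGeometry TopologicalSpace

set_option backward.isDefEq.respectTransparency false
set_option backward.isDefEq.respectTransparency.types false

namespace Groth.Agent.Approx.NilLimSect

variable {A : Type u} [CommRing A] (A' : ℕ → Type u) [∀ n, CommRing (A' n)]
  (φ : ∀ n, A' (n + 1) →+* A' n) (π : ∀ n, A →+* A' n) (hlim : FlatCA.IsRingLimit A A' φ π)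
  (hsurj : ∀ n, Function.Surjective (φ n)) (hnil : ∀ n, ∀ x ∈ RingHom.ker (φ n), IsNilpotent x)

include hlim hsurj in
theorem surjective_π_zero : Function.Surjective (π 0) := fun x => by
  choose s hs using hsurj
  let y : ∀ n, A' n := fun n => Nat.rec x (fun k z => s k z) n
  obtain ⟨a, ha⟩ := hlim.2.2 y fun n => hs n _
  exact ⟨a, ha 0⟩

include hlim hsurj hnil in
theorem isUnit_of_π_zero {a : A} (h : IsUnit (π 0 a)) : IsUnit a := by
  have hu : ∀ n, IsUnit (π n a) := fun n => by
    induction n with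
    | zero => exact h
    | succ k ih =>
      obtain ⟨b, hb⟩ := hsurj k ↑ih.unit⁻¹
      have hn : IsNilpotent (1 - π (k + 1) a * b) := hnil k _ (RingHom.mem_ker.2 (by
        rw [map_sub, map_one, map_mul, hb, ← RingHom.comp_apply, hlim.1 k, IsUnit.mul_val_inv, sub_self]))
      have := hn.isUnit_one_sub
      rw [sub_sub_cancel] at this
      exact isUnit_of_mul_isUnit_left this
  have hc : ∀ n, φ n (↑(hu (n + 1)).unit⁻¹ : A' (n + 1)) = ↑(hu n).unit⁻¹ := fun n => by
    refine (hu n).mul_left_cancel ?_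
    rw [IsUnit.mul_val_inv, ← hlim.1 n, RingHom.comp_apply, ← map_mul, IsUnit.mul_val_inv, map_one]
  obtain ⟨b, hb⟩ := hlim.2.2 (fun n => (↑(hu n).unit⁻¹ : A' n)) hc
  exact IsUnit.of_mul_eq_one b (hlim.2.1 _ _ fun n => by
    rw [map_mul, hb, IsUnit.mul_val_inv, map_one])

include hlim hsurj hnil in
theorem mem_range_of_isMaximal (m : PrimeSpectrum A) (hm : m.asIdeal.IsMaximal) :
    m ∈ Set.range (PrimeSpectrum.comap (π 0)) := by
  rw [range_comap_of_surjective _ _ (surjective_π_zero A' φ π hlim hsurj)]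
  intro a ha
  by_contra hc
  obtain ⟨b, i, hi, hb⟩ := hm.exists_inv hc
  refine hm.ne_top (Ideal.eq_top_of_isUnit_mem _ hi (isUnit_of_π_zero A' φ π hlim hsurj hnil ?_))
  have : π 0 i = 1 := by
    rw [← map_one (π 0), ← hb, map_add, map_mul, RingHom.mem_ker.1 ha, mul_zero, zero_add]
  rw [this]
  exact isUnit_one

include hlim hsurj hnil in
theorem isIso_of_sections {T : Scheme.{u}} (h : T ⟶ Spec (CommRingCat.of A)) [Mono h]
    [LocallyOfFiniteType h]
    (hsec : ∀ n, ∃ g : Spec (CommRingCat.of (A' n)) ⟶ T, g ≫ h = Spec.map (CommRingCat.ofHom (π n))) :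
    IsIso h := by
  choose g hg using hsec
  have hgc : ∀ n, Spec.map (CommRingCat.ofHom (φ n)) ≫ g (n + 1) = g n := fun n => by
    rw [← cancel_mono h, Category.assoc, hg, hg, ← Spec.map_comp, ← CommRingCat.ofHom_comp, hlim.1]
  have hrange : ∀ n, Set.range (g n) ⊆ Set.range (g 0) := fun n => by
    induction n with
    | zero => exact le_rfl
    | succ k ih =>
      rintro _ ⟨x, rfl⟩
      obtain ⟨x', rfl⟩ : x ∈ Set.range (Spec.map (CommRingCat.ofHom (φ k))) := by
        have h1 : Set.range (PrimeSpectrum.comap (φ k)) = Set.univ := by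
          rw [range_comap_of_surjective _ _ (hsurj k), PrimeSpectrum.zeroLocus_eq_univ_iff]
          exact fun y hy => mem_nilradical.2 (hnil k y hy)
        exact h1.ge (Set.mem_univ x)
      rw [← Scheme.Hom.comp_apply, hgc]
      exact ih ⟨x', rfl⟩
  -- a quasi-compact open containing the image
  obtain ⟨T', hT', hsub⟩ : ∃ T' : T.Opens, IsCompact (T' : Set T) ∧ Set.range (g 0) ⊆ T' := by
    have hb : ∀ t : T, ∃ U : T.Opens, IsAffineOpen U ∧ t ∈ U := fun t => by
      obtain ⟨_, ⟨U, hU, rfl⟩, htU, -⟩ :=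
        T.isBasis_affineOpens.exists_subset_of_mem_open (Set.mem_univ t) isOpen_univ
      exact ⟨U, hU, htU⟩
    choose U hU htU using hb
    obtain ⟨S, hS⟩ := (isCompact_range (g 0).continuous).elim_finite_subcover (fun t => (U t : Set T))
      (fun t => (U t).isOpen) (fun t _ => Set.mem_iUnion.2 ⟨t, htU t⟩)
    refine ⟨⨆ t ∈ S, U t, ?_, ?_⟩
    · simp only [Opens.coe_iSup]
      exact S.isCompact_biUnion fun t _ => (hU t).isCompact
    · simpa only [Opens.coe_iSup] using hS
  haveI : CompactSpace T'.toScheme := isCompact_iff_compactSpace.mp hT'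
  let h' := T'.ι ≫ h
  haveI : QuasiCompact h' := inferInstance
  haveI : LocallyQuasiFinite h' := inferInstance
  let ι := h'.toNormalization
  let N := h'.normalization
  haveI : IsAffine N := isAffine_of_isAffineHom h'.fromNormalization
  have hmem : ∀ n, Set.range (g n) ⊆ Set.range T'.ι := fun n => by
    rw [Scheme.Opens.range_ι]; exact (hrange n).trans hsub
  let g' := fun n => IsOpenImmersion.lift T'.ι (g n) (hmem n)
  let k := fun n => g' n ≫ ι
  let ρ : ∀ n, Γ(N, ⊤) ⟶ CommRingCat.of (A' n) := fun n => Spec.preimage (k n ≫ N.isoSpec.hom)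
  have hρ : ∀ n, ρ (n + 1) ≫ CommRingCat.ofHom (φ n) = ρ n := fun n => by
    apply Spec.map_injective
    rw [Spec.map_comp, Spec.map_preimage, Spec.map_preimage, ← Category.assoc]
    congr 1
    show Spec.map (CommRingCat.ofHom (φ n)) ≫ g' (n + 1) ≫ ι = g' n ≫ ι
    rw [← Category.assoc]
    congr 1
    rw [← cancel_mono T'.ι, Category.assoc, IsOpenImmersion.lift_fac, IsOpenImmersion.lift_fac, hgc]
  have hex : ∀ b : Γ(N, ⊤), ∃ a : A, ∀ n, π n a = ρ n b := fun b =>
    hlim.2.2 (fun n => ρ n b) fun n => congr($(hρ n).hom b)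
  choose r hr using hex
  let rh : Γ(N, ⊤) →+* A :=
    { toFun := r
      map_one' := hlim.2.1 _ _ fun n => by rw [hr, map_one, map_one]
      map_mul' := fun x y => hlim.2.1 _ _ fun n => by rw [hr, map_mul, map_mul, hr, hr]
      map_zero' := hlim.2.1 _ _ fun n => by rw [hr, map_zero, map_zero]
      map_add' := fun x y => hlim.2.1 _ _ fun n => by rw [hr, map_add, map_add, hr, hr] }
  let σ : Spec (CommRingCat.of A) ⟶ N := Spec.map (CommRingCat.ofHom rh) ≫ N.isoSpec.inv
  have hσ : ∀ n, Spec.map (CommRingCat.ofHom (π n)) ≫ σ = k n := fun n => by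
    rw [← cancel_mono N.isoSpec.hom, Category.assoc, Category.assoc, Iso.inv_hom_id, Category.comp_id,
      ← Spec.map_comp, ← Spec.map_preimage (k n ≫ N.isoSpec.hom)]
    congr 1
    ext b
    exact hr b n
  have hσp : σ ≫ h'.fromNormalization = 𝟙 _ := by
    obtain ⟨χ, hχ⟩ : ∃ χ, Spec.map χ = σ ≫ h'.fromNormalization := ⟨_, Spec.map_preimage _⟩
    rw [← hχ, ← Spec.map_id]
    congr 1
    ext a
    refine hlim.2.1 _ _ fun n => ?_
    have h1 : Spec.map (χ ≫ CommRingCat.ofHom (π n)) = Spec.map (CommRingCat.ofHom (π n)) := by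
      rw [Spec.map_comp, hχ, ← Category.assoc, hσ]
      show ((g' n) ≫ ι) ≫ _ = _
      rw [Category.assoc, Scheme.Hom.toNormalization_fromNormalization, ← Category.assoc,
        IsOpenImmersion.lift_fac, hg]
    exact congr($(Spec.map_injective h1).hom a)
  have hclosed : ∀ x : Spec (CommRingCat.of A), σ x ∈ Set.range ι := fun x => by
    obtain ⟨m, hm, hle⟩ := Ideal.exists_le_maximal _ (PrimeSpectrum.isPrime x).ne_top
    have hxm : x ⤳ (⟨m, hm.isPrime⟩ : PrimeSpectrum A) := (PrimeSpectrum.le_iff_specializes _ _).1 hle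
    refine (hxm.map σ.continuous).mem_open ι.isOpenEmbedding.isOpen_range ?_
    obtain ⟨m', hm'⟩ := mem_range_of_isMaximal A' φ π hlim hsurj hnil ⟨m, hm.isPrime⟩ hm
    rw [← hm']
    show (Spec.map (CommRingCat.ofHom (π 0)) ≫ σ) m' ∈ _
    rw [hσ]
    exact ⟨g' 0 m', rfl⟩
  let s := IsOpenImmersion.lift ι σ (by rintro _ ⟨x, rfl⟩; exact hclosed x) ≫ T'.ι
  have hs : s ≫ h = 𝟙 _ := by
    show (IsOpenImmersion.lift ι σ _ ≫ T'.ι) ≫ h = _
    rw [Category.assoc, show T'.ι ≫ h = ι ≫ h'.fromNormalization from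
      (Scheme.Hom.toNormalization_fromNormalization h').symm, IsOpenImmersion.lift_fac_assoc, hσp]
  exact ⟨s, by rw [← cancel_mono h, Category.assoc, hs, Category.id_comp, Category.comp_id], hs⟩

end Groth.Agent.Approx.NilLimSect
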