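import Mathlib
import Groth.Agent.CDiv6.Normal

/-!
# One-dimensional local rings of relative normalizations
-/

set_option backward.isDefEq.respectTransparency false
set_option backward.isDefEq.respectTransparency.types false

universe u

open IsLocalRing Polynomial

namespace Groth.Agent.Approx.NormDVR

variable {R : Type u} [CommRing R] [IsLocalRing R] [IsNoetherianRing R] [_root_.IsReduced R]

theorem maximalIdeal_not_minimal (hdim : ringKrullDim R = 1) :
    maximalIdeal R ∉ minimalPrimes R := by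
  intro hm
  have : (maximalIdeal R).height = 0 := Ideal.height_eq_zero_iff.2 hm
  have h := IsLocalRing.maximalIdeal_height_eq_ringKrullDim (R := R)
  rw [this, hdim] at h
  exact zero_ne_one h

theorem eq_zero_of_forall_minimal {c : R} (h : ∀ Q ∈ minimalPrimes R, c ∈ Q) : c = 0 := by
  have h0 : c ∈ sInf (minimalPrimes R) := Submodule.mem_sInf.mpr h
  have h1 : c ∈ (⊥ : Ideal R).radical := by rwa [← Ideal.sInf_minimalPrimes]
  exact IsReduced.eq_zero _ h1

theorem exists_good (hdim : ringKrullDim R = 1) :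
    ∃ t ∈ maximalIdeal R, ∀ Q ∈ minimalPrimes R, t ∉ Q := by
  by_contra hcon
  push Not at hcon
  have hfin := minimalPrimes.finite_of_isNoetherianRing R
  obtain ⟨Q, hQ, hle⟩ := (Ideal.subset_union_prime_finite hfin (f := id) ⊥ ⊥
    (fun Q hQ _ _ => (hQ.1.1 : Q.IsPrime))).1 (fun x hx => by
      obtain ⟨Q, hQ, hxQ⟩ := hcon x hx
      exact Set.mem_biUnion hQ hxQ : (maximalIdeal R : Set R) ⊆ ⋃ Q ∈ minimalPrimes R, (Q : Set R))
  haveI := hQ.1.1
  exact maximalIdeal_not_minimal hdim ((le_antisymm (le_maximalIdeal hQ.1.1.ne_top) hle) ▸ hQ)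

theorem eq_maximalIdeal_of_mem (hdim : ringKrullDim R = 1) {t : R}
    (ht : ∀ Q ∈ minimalPrimes R, t ∉ Q) (Q : Ideal R) [Q.IsPrime] (htQ : t ∈ Q) :
    Q = maximalIdeal R := by
  haveI : Ring.KrullDimLE 1 R := Ring.krullDimLE_iff.mpr hdim.le
  rcases Ring.krullDimLE_one_iff.1 ‹Ring.KrullDimLE 1 R› Q ‹_› with h | h
  · exact absurd htQ (ht Q h)
  · exact eq_maximalIdeal h

variable {B : Type u} [CommRing B] [Algebra R B]

theorem eq_zero_or_one_of_mul_eq_self {r : R} (h : r * r = r) : r = 0 ∨ r = 1 := by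
  rcases isUnit_or_isUnit_one_sub_self r with hu | hu
  · exact Or.inr (hu.mul_left_cancel (by rw [h, mul_one]))
  · refine Or.inl (hu.mul_left_cancel ?_)
    rw [sub_mul, one_mul, h, sub_self, mul_zero]

theorem isDomain_of_integrallyClosedIn (hdim : ringKrullDim R = 1)
    (hinj : Function.Injective (algebraMap R B))
    (hint : ∀ x : B, IsIntegral R x → x ∈ (algebraMap R B).range)
    (hunit : ∀ t ∈ maximalIdeal R, (∀ Q ∈ minimalPrimes R, t ∉ Q) → IsUnit (algebraMap R B t)) :
    IsDomain R := by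
  suffices h : (minimalPrimes R).Subsingleton by
    obtain ⟨Q, hQ, -⟩ := Ideal.exists_minimalPrimes_le (bot_le : (⊥ : Ideal R) ≤ maximalIdeal R)
    haveI : Q.IsPrime := hQ.1.1
    have hQ0 : Q = ⊥ := eq_bot_iff.2 fun c hc =>
      (eq_zero_of_forall_minimal fun Q' hQ' => (h hQ' hQ) ▸ hc : c = 0)
    have : (⊥ : Ideal R).IsPrime := hQ0 ▸ ‹Q.IsPrime›
    exact IsDomain.of_bot_isPrime R
  intro Q₁ h1 Q₂ h2
  by_contra hne
  obtain ⟨t₀, ht₀m, ht₀⟩ := exists_good hdim
  have hfin := minimalPrimes.finite_of_isNoetherianRing R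
  -- `a` vanishes exactly on `Q₁`, `b` exactly off it
  obtain ⟨a, haQ, ha⟩ : ∃ a ∈ Q₁, ∀ Q ∈ minimalPrimes R, Q ≠ Q₁ → a ∉ Q := by
    by_contra hcon
    push Not at hcon
    obtain ⟨Q, hQ, hle⟩ := (Ideal.subset_union_prime_finite (hfin.sdiff (t := {Q₁})) (f := id) ⊥ ⊥
      (fun Q hQ _ _ => (hQ.1.1.1 : Q.IsPrime))).1 (fun x hx => by
        obtain ⟨Q, hQ, hne, hxQ⟩ := hcon x hx
        exact Set.mem_biUnion (show Q ∈ minimalPrimes R \ {Q₁} from ⟨hQ, hne⟩) hxQ :
          (Q₁ : Set R) ⊆ ⋃ Q ∈ minimalPrimes R \ {Q₁}, (Q : Set R))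
    exact hQ.2 (le_antisymm (hQ.1.2 h1.1 hle) hle)
  obtain ⟨b, hb, hbQ⟩ : ∃ b, (∀ Q ∈ minimalPrimes R, Q ≠ Q₁ → b ∈ Q) ∧ b ∉ Q₁ := by
    by_contra hcon
    push Not at hcon
    haveI : Q₁.IsPrime := h1.1.1
    have hle : (hfin.sdiff (t := {Q₁})).toFinset.inf id ≤ Q₁ := fun x hx => hcon x fun Q hQ hne =>
      (Finset.inf_le (f := id) (by rw [Set.Finite.mem_toFinset]; exact ⟨hQ, hne⟩) : _ ≤ Q) hx
    obtain ⟨Q, hQ, hQle⟩ := (Ideal.IsPrime.inf_le' h1.1.1).1 hle
    rw [Set.Finite.mem_toFinset] at hQ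
    exact hQ.2 (le_antisymm hQle (h1.2 hQ.1.1 hQle))
  have hab : a * b = 0 := eq_zero_of_forall_minimal fun Q hQ => by
    by_cases he : Q = Q₁
    · exact he ▸ Q₁.mul_mem_right b haQ
    · exact Q.mul_mem_left a (hb Q hQ he)
  have hgood : ∀ Q ∈ minimalPrimes R, (a + b) * t₀ ∉ Q := fun Q hQ h => by
    rcases hQ.1.1.mem_or_mem h with h | h
    · by_cases he : Q = Q₁
      · subst he
        exact hbQ ((Ideal.add_mem_iff_right _ haQ).1 h)
      · exact ha Q hQ he ((Ideal.add_mem_iff_left _ (hb Q hQ he)).1 h)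
    · exact ht₀ Q hQ h
  obtain ⟨u, hu⟩ := hunit _ ((maximalIdeal R).mul_mem_left _ ht₀m) hgood
  let e : B := algebraMap R B (a * t₀) * ↑u⁻¹
  have he : e * e = e := by
    show algebraMap R B (a * t₀) * ↑u⁻¹ * (algebraMap R B (a * t₀) * ↑u⁻¹) = _
    have : algebraMap R B (a * t₀) * algebraMap R B (a * t₀) = algebraMap R B (a * t₀) * ↑u := by
      rw [hu, ← map_mul, ← map_mul]
      congr 1
      linear_combination (-(t₀ * t₀)) * hab
    calc _ = algebraMap R B (a * t₀) * algebraMap R B (a * t₀) * (↑u⁻¹ * ↑u⁻¹) := by ring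
      _ = algebraMap R B (a * t₀) * ↑u⁻¹ * (↑u * ↑u⁻¹) := by rw [this]; ring
      _ = _ := by rw [Units.mul_inv, mul_one]
  obtain ⟨r, hr⟩ := hint e ⟨X ^ 2 - X, monic_X_pow_sub (by simp), by
    rw [eval₂_sub, eval₂_X_pow, eval₂_X, sq, he, sub_self]⟩
  rcases eq_zero_or_one_of_mul_eq_self (hinj (by rw [map_mul, hr, he]) : r * r = r) with rfl | rfl
  · rw [map_zero] at hr
    have : algebraMap R B (a * t₀) = 0 := by
      have := congrArg (· * (↑u : B)) hr
      simpa [e, mul_assoc] using this.symm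
    rw [← map_zero (algebraMap R B)] at this
    have h0 : a * t₀ ∈ Q₂ := by rw [hinj this]; exact Q₂.zero_mem
    rcases h2.1.1.mem_or_mem h0 with h | h
    · exact ha Q₂ h2 (Ne.symm hne) h
    · exact ht₀ Q₂ h2 h
  · rw [map_one] at hr
    have : algebraMap R B (b * t₀) = 0 := by
      have := congrArg (· * (↑u : B)) hr
      simp only [one_mul, e, mul_assoc, Units.inv_mul, mul_one] at this
      rw [hu] at this
      have h3 : algebraMap R B ((a + b) * t₀) = algebraMap R B (a * t₀) + algebraMap R B (b * t₀) := by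
        rw [← map_add]; congr 1; ring
      rw [h3] at this
      exact left_eq_add.mp this.symm |> id
    rw [← map_zero (algebraMap R B)] at this
    have h0 : b * t₀ ∈ Q₁ := by rw [hinj this]; exact Q₁.zero_mem
    rcases h1.1.1.mem_or_mem h0 with h | h
    · exact hbQ h
    · exact ht₀ Q₁ h1 h

theorem isDVR_of_integrallyClosedIn (hdim : ringKrullDim R = 1)
    (hinj : Function.Injective (algebraMap R B))
    (hint : ∀ x : B, IsIntegral R x → x ∈ (algebraMap R B).range)
    (hunit : ∀ t ∈ maximalIdeal R, (∀ Q ∈ minimalPrimes R, t ∉ Q) → IsUnit (algebraMap R B t)) :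
    ∃ _ : IsDomain R, IsDiscreteValuationRing R := by
  haveI hd := isDomain_of_integrallyClosedIn hdim hinj hint hunit
  refine ⟨hd, ?_⟩
  haveI : Nontrivial B := by
    refine ⟨algebraMap R B 0, algebraMap R B 1, fun h => zero_ne_one (hinj h)⟩
  have hu : ∀ c : nonZeroDivisors R, IsUnit (algebraMap R B c) := fun c => by
    by_cases hc : IsUnit (c : R)
    · exact hc.map _
    · refine hunit c ((mem_maximalIdeal _).2 hc) fun Q hQ h => ?_
      have : Q = ⊥ := by
        haveI := hQ.1.1
        exact le_bot_iff.1 (hQ.2 ⟨Ideal.isPrime_bot, le_rfl⟩ bot_le)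
      rw [this, Ideal.mem_bot] at h
      exact nonZeroDivisors.ne_zero c.2 h
  let ψ : FractionRing R →ₐ[R] B :=
    { IsLocalization.lift hu with commutes' := fun r => IsLocalization.lift_eq hu r }
  haveI : IsIntegrallyClosed R := (isIntegrallyClosed_iff (FractionRing R)).2 fun {x} hx => by
    obtain ⟨r, hr⟩ := hint (ψ x) (hx.map ψ)
    exact ⟨r, ψ.toRingHom.injective ((ψ.commutes r).trans hr)⟩
  exact CDiv6.isDVR_of_dim_eq_one (A := R) hdim

/-- The integral closedness passes to the local rings. -/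
theorem isDVR_atPrime {A C : Type u} [CommRing A] [IsNoetherianRing A] [_root_.IsReduced A] [CommRing C]
    [Algebra A C] (hinj : Function.Injective (algebraMap A C))
    (hint : ∀ x : C, IsIntegral A x → x ∈ (algebraMap A C).range) (p : Ideal A) [p.IsPrime]
    (hdim : ringKrullDim (Localization.AtPrime p) = 1)
    (hfib : ∀ t ∈ p, (∀ q : Ideal A, q.IsPrime → q ≤ p → t ∈ q → q = p) →
      ∃ s ∉ p, ∃ (c : C) (n : ℕ), algebraMap A C t * c = algebraMap A C s ^ n) :
    ∃ _ : IsDomain (Localization.AtPrime p), IsDiscreteValuationRing (Localization.AtPrime p) := by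
  let R := Localization.AtPrime p
  let C' := Localization (Algebra.algebraMapSubmonoid C p.primeCompl)
  haveI : _root_.IsReduced R := isReduced_localizationPreserves p.primeCompl _ ‹_›
  haveI : IsNoetherianRing R := IsLocalization.isNoetherianRing p.primeCompl _ ‹_›
  letI : Algebra R C' := (IsLocalization.map C' (algebraMap A C)
    (show p.primeCompl ≤ (Algebra.algebraMapSubmonoid C p.primeCompl).comap (algebraMap A C) from
      fun x hx => ⟨x, hx, rfl⟩)).toAlgebra
  haveI : IsScalarTower A R C' := IsScalarTower.of_algebraMap_eq fun a => by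
    rw [RingHom.algebraMap_toAlgebra, IsLocalization.map_eq, ← IsScalarTower.algebraMap_apply]
  refine isDVR_of_integrallyClosedIn (B := C') hdim ?_ ?_ ?_
  · rw [RingHom.algebraMap_toAlgebra]
    haveI : IsLocalization (p.primeCompl.map (algebraMap A C)) C' :=
      inferInstanceAs (IsLocalization (Algebra.algebraMapSubmonoid C p.primeCompl) C')
    exact IsLocalization.map_injective_of_injective p.primeCompl R C' hinj
  · intro y hy
    obtain ⟨⟨m, hm⟩, hmy⟩ := IsIntegral.exists_multiple_integral_of_isLocalization p.primeCompl y hy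
    obtain ⟨⟨b, ⟨_, s, hs, rfl⟩⟩, hbs⟩ := IsLocalization.surj (Algebra.algebraMapSubmonoid C p.primeCompl) y
    have h1 : IsIntegral A (algebraMap C C' (algebraMap A C m * b)) := by
      have h2 := hmy.mul (isIntegral_algebraMap (A := C') (x := s))
      rw [map_mul, ← hbs, ← IsScalarTower.algebraMap_apply]
      rw [Submonoid.smul_def, Algebra.smul_def] at h2
      simpa [← IsScalarTower.algebraMap_apply, mul_assoc] using h2
    obtain ⟨u, hu, hint'⟩ := IsLocalization.exists_isIntegral_smul_of_isIntegral_map p.primeCompl h1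
    obtain ⟨a, ha⟩ := hint _ hint'
    refine ⟨IsLocalization.mk' R a ⟨u * m * s, p.primeCompl.mul_mem (p.primeCompl.mul_mem hu hm) hs⟩, ?_⟩
    have hunit : IsUnit (algebraMap R C' (algebraMap A R (u * m * s))) :=
      (IsLocalization.map_units R (⟨u * m * s,
        p.primeCompl.mul_mem (p.primeCompl.mul_mem hu hm) hs⟩ : p.primeCompl)).map _
    refine hunit.mul_left_cancel ?_
    rw [← map_mul, IsLocalization.mk'_spec'_mk, ← IsScalarTower.algebraMap_apply,
      ← IsScalarTower.algebraMap_apply, IsScalarTower.algebraMap_apply A C C', ha, Algebra.smul_def,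
      IsScalarTower.algebraMap_apply A C C' (u * m * s)]
    simp only [map_mul]
    rw [← hbs]
    ring
  · intro t ht hgood
    obtain ⟨⟨a, s⟩, has⟩ := IsLocalization.surj p.primeCompl t
    have ha : algebraMap A R a ∈ maximalIdeal R := has ▸ (maximalIdeal R).mul_mem_right _ ht
    have hap : a ∈ p := (IsLocalization.AtPrime.to_map_mem_maximal_iff R p a).1 ha
    obtain ⟨s', hs', c, n, hc⟩ := hfib a hap fun q hq hle haq => by
      haveI := hq
      have hdisj : Disjoint (p.primeCompl : Set A) (q : Set A) :=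
        Set.disjoint_left.2 fun x hx hxq => hx (hle hxq)
      haveI : (q.map (algebraMap A R)).IsPrime :=
        IsLocalization.isPrime_of_isPrime_disjoint p.primeCompl R q hq hdisj
      have h1 : t ∈ q.map (algebraMap A R) := by
        have h2 : algebraMap A R a ∈ q.map (algebraMap A R) := Ideal.mem_map_of_mem _ haq
        rw [← has] at h2
        exact (Ideal.IsPrime.mem_or_mem inferInstance h2).resolve_right fun h => (Ideal.IsPrime.ne_top inferInstance)
          (Ideal.eq_top_of_isUnit_mem _ h (IsLocalization.map_units R s))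
      have h3 := eq_maximalIdeal_of_mem hdim hgood _ h1
      have h4 := congrArg (Ideal.comap (algebraMap A R)) h3
      exact ((IsLocalization.comap_map_of_isPrime_disjoint p.primeCompl R hq hdisj).symm.trans h4).trans
        (IsLocalization.AtPrime.comap_maximalIdeal R p)
    have hu : IsUnit (algebraMap C C' (algebraMap A C a * c)) := by
      rw [hc, map_pow]
      exact (IsLocalization.map_units C' (⟨_, s', hs', rfl⟩ :
        Algebra.algebraMapSubmonoid C p.primeCompl)).pow n
    rw [map_mul, ← IsScalarTower.algebraMap_apply, IsScalarTower.algebraMap_apply A R C', ← has,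
      map_mul] at hu
    exact isUnit_of_mul_isUnit_left (isUnit_of_mul_isUnit_left hu)

end Groth.Agent.Approx.NormDVR
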