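import Groth.Agent.Approx.Rel
import Groth.Agent.QCoh.ExtendFT
import Groth.Agent.S9199
import Groth.Agent.S9200

/-!
# Finitely presented approximation over a quasi-separated base
-/

set_option autoImplicit false
set_option backward.isDefEq.respectTransparency false
set_option backward.isDefEq.respectTransparency.types false

universe u

open CategoryTheory CategoryTheory.Limits AlgebraicGeometry TopologicalSpace Opposite

namespace Groth.Agent.Approx

/-- The image of a quasi-compact scheme lies in a quasi-compact open. -/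
theorem exists_qc_open {X S : Scheme.{u}} (f : X ⟶ S) [CompactSpace X] :
    ∃ (W : S.Opens), IsCompact (W : Set S) ∧ ∀ x, f x ∈ W := by
  obtain ⟨F, hF⟩ := (isCompact_range f.continuous).elim_finite_subcover (fun V : S.affineOpens => (V.1 : Set S))
    (fun V => V.1.2) fun x _ => by
      obtain ⟨_, ⟨V, hV, rfl⟩, hxV, -⟩ := S.isBasis_affineOpens.exists_subset_of_mem_open
        (Set.mem_univ x) isOpen_univ
      exact Set.mem_iUnion.2 ⟨⟨V, hV⟩, hxV⟩
  refine ⟨⨆ V : F, V.1.1, ?_, fun x => ?_⟩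
  · rw [Opens.coe_iSup]
    exact isCompact_iUnion fun V => V.1.2.isCompact
  · obtain ⟨V, hV, hx⟩ := Set.mem_iUnion₂.1 (hF ⟨x, rfl⟩)
    exact Opens.mem_iSup.2 ⟨⟨V, hV⟩, hx⟩

section mapMono

variable {I : Type u} [SmallCategory I] [IsConnected I] {S S' : Scheme.{u}} (ι : S' ⟶ S) [Mono ι]
  {D : I ⥤ Over S'} {c : Cone D}

/-- Composing with a monomorphism preserves limits of connected diagrams over a base. -/
theorem nonempty_isLimit_map (hc : IsLimit c) : Nonempty (IsLimit ((Over.map ι).mapCone c)) := by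
  obtain ⟨i0⟩ : Nonempty I := IsConnected.is_nonempty
  let tS (s : Cone (D ⋙ Over.map ι)) : s.pt.left ⟶ S' := (s.π.app i0).left ≫ (D.obj i0).hom
  have htι : ∀ s, tS s ≫ ι = s.pt.hom := fun s => (Category.assoc _ _ _).trans (Over.w (s.π.app i0))
  have ht : ∀ (s : Cone (D ⋙ Over.map ι)) (i : I), (s.π.app i).left ≫ (D.obj i).hom = tS s := fun s i => by
    rw [← cancel_mono ι, htι, Category.assoc]
    exact Over.w (s.π.app i)
  let sc (s : Cone (D ⋙ Over.map ι)) : Cone D :=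
  { pt := Over.mk (tS s)
    π :=
    { app := fun i => Over.homMk (s.π.app i).left (ht s i)
      naturality := fun i j f => Over.OverMorphism.ext (by
        show 𝟙 _ ≫ (s.π.app j).left = (s.π.app i).left ≫ (D.map f).left
        rw [Category.id_comp]
        exact (congrArg CommaMorphism.left (s.w f)).symm) } }
  refine ⟨IsLimit.mk (fun s => Over.homMk (hc.lift (sc s)).left ?_)
    (fun s i => Over.OverMorphism.ext ?_) fun s m hm => ?_⟩
  · show (hc.lift (sc s)).left ≫ c.pt.hom ≫ ι = s.pt.hom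
    rw [← Category.assoc, Over.w (hc.lift (sc s))]
    exact htι s
  · have h := congrArg CommaMorphism.left (hc.fac (sc s) i)
    exact h
  · refine Over.OverMorphism.ext ?_
    have hw : m.left ≫ c.pt.hom = tS s := by
      rw [← cancel_mono ι, htι, Category.assoc]
      exact Over.w m
    have := hc.uniq (sc s) (Over.homMk m.left hw) fun i => Over.OverMorphism.ext (by
      have h := congrArg CommaMorphism.left (hm i)
      exact h)
    have h := congrArg CommaMorphism.left this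
    exact h

end mapMono

/-- Generators of a finite type ring map. -/
theorem exists_closure_of_finiteType {A B : Type u} [CommRing A] [CommRing B] (φ : A →+* B) (h : φ.FiniteType) :
    ∃ s : Finset B, Subring.closure (Set.range φ ∪ (s : Set B)) = ⊤ := by
  letI := φ.toAlgebra
  obtain ⟨s, hs⟩ := (h : Algebra.FiniteType A B).out
  refine ⟨s, ?_⟩
  have := congrArg Subalgebra.toSubring hs
  rwa [Algebra.adjoin_eq_ring_closure, Algebra.top_toSubring] at this

section stage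

variable {I : Type u} [SmallCategory I] [IsCofiltered I] {D : I ⥤ Scheme.{u}} {c : Cone D}
  [∀ {i j : I} (f : i ⟶ j), IsAffineHom (D.map f)] [∀ i, CompactSpace (D.obj i)]
  [∀ i, QuasiSeparatedSpace (D.obj i)]

/-- Finitely many sections lift to a common stage. -/
theorem exists_finset_stage (hc : IsLimit c) {i0 : I} {U : (D.obj i0).Opens} (hU : IsCompact (U : Set (D.obj i0)))
    (s : Finset Γ(c.pt, c.π.app i0 ⁻¹ᵁ U)) :
    ∃ (j : I) (g : j ⟶ i0), ∀ (j' : I) (g' : j' ⟶ j) (e : c.π.app i0 ⁻¹ᵁ U ≤ c.π.app j' ⁻¹ᵁ (D.map (g' ≫ g) ⁻¹ᵁ U)),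
      ∀ x ∈ s, x ∈ ((c.π.app j').appLE (D.map (g' ≫ g) ⁻¹ᵁ U) _ e).hom.range := by
  classical
  induction s using Finset.induction_on with
  | empty => exact ⟨i0, 𝟙 _, fun _ _ _ x hx => absurd hx (Finset.notMem_empty x)⟩
  | insert x s _ ih =>
    obtain ⟨j, g, hj⟩ := ih
    obtain ⟨k, f, e, t, ht⟩ := exists_appLE_π_eq D c hc hU x
    obtain ⟨l, p, q, -⟩ := IsCofilteredOrEmpty.cone_objs j k
    obtain ⟨m, r, hr⟩ := IsCofilteredOrEmpty.cone_maps (p ≫ g) (q ≫ f)
    refine ⟨m, r ≫ p ≫ g, fun j' g' e' y hy => ?_⟩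
    rcases Finset.mem_insert.1 hy with rfl | hy
    · have e1 : D.map (g' ≫ r ≫ p ≫ g) ⁻¹ᵁ U ≤ D.map (g' ≫ r ≫ q) ⁻¹ᵁ (D.map f ⁻¹ᵁ U) := by
        rw [← Scheme.Hom.comp_preimage, ← D.map_comp, hr]
        simp only [Category.assoc]
        exact le_rfl
      exact ⟨_, (appLE_appLE_of_comp (c.π.app j') (D.map (g' ≫ r ≫ q)) (c.π.app k) (c.w _) e1 e' e t).trans ht⟩
    · have e1 : c.π.app i0 ⁻¹ᵁ U ≤ c.π.app j' ⁻¹ᵁ (D.map ((g' ≫ r ≫ p) ≫ g) ⁻¹ᵁ U) := by
        simpa only [Category.assoc] using e'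
      obtain ⟨z, hz⟩ := hj j' (g' ≫ r ≫ p) e1 y hy
      have e2 : D.map (g' ≫ r ≫ p ≫ g) ⁻¹ᵁ U ≤ D.map ((g' ≫ r ≫ p) ≫ g) ⁻¹ᵁ U := by
        simp only [Category.assoc]
        exact le_rfl
      exact ⟨((D.obj j').presheaf.map (homOfLE e2).op).hom z, by
        rw [← CommRingCat.comp_apply, Scheme.Hom.map_appLE]
        exact hz⟩

/-- A morphism of finite type to a stage becomes a closed immersion further along. -/
theorem exists_closedImmersion_stage (hc : IsLimit c) (i0 : I) [LocallyOfFiniteType (c.π.app i0)] :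
    ∃ (i : I) (_ : i ⟶ i0), ∀ (i' : I) (_ : i' ⟶ i), IsClosedImmersion (c.π.app i') := by
  classical
  haveI : ∀ i, IsAffineHom (c.π.app i) := fun i => isAffineHom_π_app D c hc i
  obtain ⟨F, hF⟩ := isCompact_univ.elim_finite_subcover (fun V : (D.obj i0).affineOpens => (V.1 : Set (D.obj i0)))
    (fun V => V.1.2) fun x _ => by
      obtain ⟨_, ⟨V, hV, rfl⟩, hxV, -⟩ := (D.obj i0).isBasis_affineOpens.exists_subset_of_mem_open
        (Set.mem_univ x) isOpen_univ
      exact Set.mem_iUnion.2 ⟨⟨V, hV⟩, hxV⟩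
  have hV : ∀ V : F, IsAffineOpen (c.π.app i0 ⁻¹ᵁ V.1.1) := fun V => V.1.2.preimage _
  have hgen : ∀ V : F, ∃ s : Finset Γ(c.pt, c.π.app i0 ⁻¹ᵁ V.1.1),
      Subring.closure (Set.range ((c.π.app i0).app V.1.1).hom ∪ (s : Set Γ(c.pt, c.π.app i0 ⁻¹ᵁ V.1.1))) = ⊤ := by
    intro V
    have hft := (c.π.app i0).finiteType_appLE V.1.2 (hV V) le_rfl
    rw [Scheme.Hom.appLE_eq_app] at hft
    exact exists_closure_of_finiteType _ hft
  choose s hs using hgen
  choose jV gV hjV using fun V : F => exists_finset_stage hc V.1.2.isCompact (s V)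
  obtain ⟨i, a, b, hb⟩ := IsCofiltered.wideCospan (fun V : F => gV V)
  refine ⟨i, a, fun i' h => ?_⟩
  refine IsZariskiLocalAtTarget.of_iSup_eq_top (P := @IsClosedImmersion)
    (fun V : F => D.map (h ≫ a) ⁻¹ᵁ V.1.1) ?_ fun V => ?_
  · refine top_unique fun x _ => ?_
    obtain ⟨V, hV, hx⟩ := Set.mem_iUnion₂.1 (hF (Set.mem_univ (D.map (h ≫ a) x)))
    exact Opens.mem_iSup.2 ⟨⟨V, hV⟩, hx⟩
  set O := D.map (h ≫ a) ⁻¹ᵁ V.1.1 with hO
  have hpre : c.π.app i' ⁻¹ᵁ O = c.π.app i0 ⁻¹ᵁ V.1.1 := by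
    rw [hO, ← Scheme.Hom.comp_preimage, c.w]
  haveI : IsAffine (O : Scheme.{u}) := V.1.2.preimage (D.map (h ≫ a))
  haveI : IsAffine ((c.π.app i' ⁻¹ᵁ O) : Scheme.{u}) := (V.1.2.preimage (D.map (h ≫ a))).preimage _
  refine IsClosedImmersion.of_surjective_of_isAffine _ ?_
  have hsurj : Function.Surjective ((c.π.app i').appLE O (c.π.app i0 ⁻¹ᵁ V.1.1) hpre.ge).hom := by
    intro y
    suffices y ∈ ((c.π.app i').appLE O (c.π.app i0 ⁻¹ᵁ V.1.1) hpre.ge).hom.range from this
    refine (Subring.closure_le.2 ?_) ((hs V).symm ▸ Subring.mem_top y)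
    rintro z (⟨r, rfl⟩ | hz)
    · refine ⟨((D.map (h ≫ a)).appLE V.1.1 O le_rfl).hom r, ?_⟩
      have := appLE_appLE_of_comp (c.π.app i') (D.map (h ≫ a)) (c.π.app i0) (c.w _) (U := V.1.1)
        (W := O) (T := c.π.app i0 ⁻¹ᵁ V.1.1) le_rfl hpre.ge le_rfl r
      simp only [Scheme.Hom.appLE_eq_app] at this
      exact this
    · have e1 : O ≤ D.map ((h ≫ b V) ≫ gV V) ⁻¹ᵁ V.1.1 := by
        rw [hO, Category.assoc, hb]
      have e2 : c.π.app i0 ⁻¹ᵁ V.1.1 ≤ c.π.app i' ⁻¹ᵁ (D.map ((h ≫ b V) ≫ gV V) ⁻¹ᵁ V.1.1) := by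
        rw [← Scheme.Hom.comp_preimage, c.w]
      obtain ⟨w, hw⟩ := hjV V i' (h ≫ b V) e2 z hz
      have e3 : O = D.map ((h ≫ b V) ≫ gV V) ⁻¹ᵁ V.1.1 := by
        rw [hO, Category.assoc, hb]
      exact ⟨((D.obj i').presheaf.map (eqToHom e3).op).hom w, by
        rw [← CommRingCat.comp_apply, Scheme.Hom.map_appLE]
        exact hw⟩
  rw [morphismRestrict_appTop]
  have key : ∀ (W : (D.obj i').Opens), O = W → Function.Surjective ((c.π.app i').app W).hom := by
    rintro W rfl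
    have : ∀ (T : c.pt.Opens) (e : T ≤ c.π.app i' ⁻¹ᵁ O), T = c.π.app i' ⁻¹ᵁ O →
        Function.Surjective ((c.π.app i').appLE O T e).hom → Function.Surjective ((c.π.app i').app O).hom := by
      rintro T e rfl h
      rwa [Scheme.Hom.appLE_eq_app] at h
    exact this _ hpre.ge hpre.symm hsurj
  exact (ConcreteCategory.bijective_of_isIso
    (c.pt.presheaf.map (eqToHom (image_morphismRestrict_preimage (c.π.app i') O ⊤)).op)).2.comp
      (key _ O.ι_image_top.symm)

end stage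

end Groth.Agent.Approx
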