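import Groth.Agent.Approx.ProperModel
import Groth.Agent.Approx.FP

/-!
# A proper morphism is a limit of proper morphisms over schemes of finite type over the integers
-/

set_option autoImplicit false
set_option backward.isDefEq.respectTransparency false
set_option backward.isDefEq.respectTransparency.types false
universe u

namespace Groth.Agent.Approx

open AlgebraicGeometry CategoryTheory Limits TopologicalSpace Opposite
open Groth.Agent.MorLib

/-- A proper morphism is a limit of proper morphisms between stages. -/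
theorem exists_proper_system {X S : Scheme.{u}} (f : X ⟶ S) [IsProper f] [CompactSpace S]
    [QuasiSeparatedSpace S] :
    ∃ (I : Type u) (_ : SmallCategory I) (_ : IsCofiltered I) (DX DS : I ⥤ Scheme.{u}) (φ : DX ⟶ DS)
      (cX : Cone DX) (cS : Cone DS) (_ : IsLimit cX) (_ : IsLimit cS) (eX : cX.pt ≅ X) (eS : cS.pt ≅ S),
      (∀ (i j : I) (a : i ⟶ j), IsAffineHom (DX.map a) ∧ IsAffineHom (DS.map a)) ∧
      (∀ i, IsProper (φ.app i) ∧ CompactSpace (DS.obj i) ∧ FTZ (DS.obj i)) ∧
      (∀ i, cX.π.app i ≫ φ.app i = eX.hom ≫ f ≫ eS.inv ≫ cS.π.app i) := by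
  haveI : CompactSpace X := QuasiCompact.compactSpace_of_compactSpace f
  haveI : QuasiSeparatedSpace X := quasiSeparatedSpace_of_quasiSeparated f
  obtain ⟨σ⟩ := nonempty_setup f
  obtain ⟨p0, hp0⟩ := σ.eventually_closedImmersion
  obtain ⟨p1, hp1⟩ := σ.eventually_separated
  obtain ⟨p, h0, h1⟩ := exists_ge_ge p0 p1
  haveI := hp0 p h0
  haveI := hp1 p h1
  haveI : IsProper (σ.yProj p ≫ σ.yS p) := by rw [σ.yProj_snd]; infer_instance
  obtain ⟨hS⟩ := nonempty_isLimit_sch σ.gS
  let D := sysSch σ.gS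
  let i : (Idx σ.gS)ᵒᵖ := op p.1.1
  haveI : ∀ k, CompactSpace (D.obj k) := fun k => compactSpace_spec σ.gS k.unop
  haveI : ∀ k, QuasiSeparatedSpace (D.obj k) := fun k => quasiSeparatedSpace_spec σ.gS k.unop
  haveI : ∀ {k l : (Idx σ.gS)ᵒᵖ} (a : k ⟶ l), IsAffineHom (D.map a) := fun a => isAffineHom_trans σ.gS _
  let xi : (alg σ.gX p.1.2).spec ⟶ D.obj i := σ.hom p
  haveI : LocallyOfFiniteType xi := by
    haveI := σ.lfp_hom p
    exact (inferInstance : LocallyOfFiniteType (σ.hom p))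
  haveI : CompactSpace (alg σ.gX p.1.2).spec := compactSpace_spec σ.gX p.1.2
  haveI : QuasiSeparatedSpace (alg σ.gX p.1.2).spec := quasiSeparatedSpace_spec σ.gX p.1.2
  have hY : IsPullback (pullback.fst (σ.hom p) (proj σ.gS p.1.1)) (σ.yS p) xi ((coneSch σ.gS).π.app i) :=
    IsPullback.of_hasPullback _ _
  haveI : IsSeparated (σ.yS p) := hp1 p h1
  haveI : CompactSpace (coneSch σ.gS).pt := ‹CompactSpace S›
  haveI : QuasiSeparatedSpace (coneSch σ.gS).pt := ‹QuasiSeparatedSpace S›
  haveI : CompactSpace (σ.Y p) := σ.compactSpace_Y p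
  haveI : QuasiSeparatedSpace (σ.Y p) := σ.quasiSeparatedSpace_Y p
  let bc := BC.cone (c := coneSch σ.gS) D xi hY
  let j : X ⟶ bc.pt := σ.yProj p
  haveI : IsClosedImmersion j := hp0 p h0
  haveI : IsProper (j ≫ σ.yS p) := ‹IsProper (σ.yProj p ≫ σ.yS p)›
  obtain ⟨k1, hk1⟩ := exists_proper_stage D hS xi hY j
  haveI : ∀ {k l : Over i} (a : k ⟶ l), IsAffineHom ((BC.diag D xi).map a) := fun a => BC.isAffineHom_map D xi a
  haveI : ∀ k : Over i, CompactSpace ((BC.diag D xi).obj k) := fun k => BC.compactSpace_obj D xi k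
  haveI : ∀ k : Over i, QuasiSeparatedSpace ((BC.diag D xi).obj k) := fun k => BC.quasiSeparatedSpace_obj D xi k
  haveI : CompactSpace bc.pt := ‹CompactSpace (σ.Y p)›
  haveI : QuasiSeparatedSpace bc.pt := ‹QuasiSeparatedSpace (σ.Y p)›
  obtain ⟨hX⟩ := nonempty_isLimit_imCone (c := bc) j (BC.isLimitCone (c := coneSch σ.gS) D xi hY hS)
  let φ : Over.forget k1 ⋙ imSys (c := bc) j ⟶ Over.forget k1 ⋙ Over.forget i ⋙ D :=
    { app := fun k => (imI (c := bc) j k.left).subschemeι ≫ pullback.snd xi (D.map k.left.hom)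
      naturality := fun k l a => by
        show (imSys (c := bc) j).map a.left ≫ _ ≫ _ = (_ ≫ _) ≫ D.map a.left.left
        rw [← Category.assoc, imSys_map_ι, Category.assoc, Category.assoc, BC.map_snd] }
  refine ⟨Over k1, inferInstance, inferInstance, _, _, φ, (imCone (c := bc) j).whisker (Over.forget k1),
    (coneSch σ.gS).whisker (Over.forget k1 ⋙ Over.forget i),
    (Functor.Initial.isLimitWhiskerEquiv (Over.forget k1) _).symm hX,
    (Functor.Initial.isLimitWhiskerEquiv (Over.forget k1 ⋙ Over.forget i) _).symm hS,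
    Iso.refl _, Iso.refl _, fun k l a => ⟨isAffineHom_imSys (c := bc) j a.left, ?_⟩,
    fun k => ⟨hk1 k.left k.hom, ?_, ?_⟩, fun k => ?_⟩
  · exact isAffineHom_trans σ.gS _
  · exact compactSpace_spec σ.gS k.left.left.unop
  · exact ftz_system σ.gS σ.ftS _
  · show (j ≫ bc.π.app k.left).toImage ≫ (imI (c := bc) j k.left).subschemeι ≫ pullback.snd xi (D.map k.left.hom) =
      𝟙 _ ≫ f ≫ 𝟙 _ ≫ (coneSch σ.gS).π.app k.left.left
    rw [← Category.assoc, toImage_ι, Category.assoc]
    simp only [Category.id_comp]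
    show j ≫ BC.proj (c := coneSch σ.gS) D xi hY k.left ≫ _ = _
    rw [BC.proj_snd, ← Category.assoc]
    exact congrArg (· ≫ (coneSch σ.gS).π.app k.left.left) (σ.yProj_snd p)

end Groth.Agent.Approx
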