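import Groth.Agent.Approx.ProperSub
import Groth.Agent.MorLib.ProperFT
import Groth.Agent.MorLib.BaseChangeLim
import Groth.Agent.MorLib.Descend

/-!
# Proper morphisms as limits of proper morphisms between stages
-/

set_option autoImplicit false
set_option linter.style.haveILetI false
set_option backward.isDefEq.respectTransparency false
set_option backward.isDefEq.respectTransparency.types false
universe u

namespace Groth.Agent.Approx

open AlgebraicGeometry CategoryTheory Limits TopologicalSpace Opposite
open Groth.Agent.MorLib Groth.Agent.MorLib.IdealFG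

/-- The closed subscheme pulled back along a morphism as a fibre product. -/
theorem isPullback_comap {A B : Scheme.{u}} (f : A ⟶ B) (K : B.IdealSheafData) :
    IsPullback ((K.comapIso f).hom ≫ pullback.snd f K.subschemeι) (K.comap f).subschemeι K.subschemeι f :=
  (IsPullback.of_iso_pullback (fst := (K.comap f).subschemeι)
    (snd := (K.comapIso f).hom ≫ pullback.snd f K.subschemeι) ⟨by
      rw [← Scheme.IdealSheafData.comapIso_hom_fst K f, Category.assoc, Category.assoc, pullback.condition]⟩
    (K.comapIso f) (Scheme.IdealSheafData.comapIso_hom_fst K f) rfl).flip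

section image

variable {I : Type u} [SmallCategory I] {D : I ⥤ Scheme.{u}} {c : Cone D} {X : Scheme.{u}} (j : X ⟶ c.pt)

/-- The images at the stages. -/
noncomputable abbrev imI (k : I) : (D.obj k).IdealSheafData := (j ≫ c.π.app k).ker

theorem imI_le {k l : I} (f : k ⟶ l) : imI j l ≤ (imI j k).map (D.map f) := by
  rw [Scheme.IdealSheafData.map_ker, Category.assoc, c.w]

/-- The system of images. -/
noncomputable def imSys : I ⥤ Scheme.{u} where
  obj k := (imI j k).subscheme
  map {k l} f := Scheme.IdealSheafData.subschemeMap _ _ (D.map f) (imI_le j f)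
  map_id k := by
    rw [← cancel_mono (imI j k).subschemeι, Scheme.IdealSheafData.subschemeMap_subschemeι, D.map_id]
    simp
  map_comp {k l m} f g := by
    rw [← cancel_mono (imI j m).subschemeι, Category.assoc, Scheme.IdealSheafData.subschemeMap_subschemeι,
      Scheme.IdealSheafData.subschemeMap_subschemeι, Scheme.IdealSheafData.subschemeMap_subschemeι_assoc,
      D.map_comp]

theorem imSys_map_ι {k l : I} (f : k ⟶ l) :
    (imSys j).map f ≫ (imI j l).subschemeι = (imI j k).subschemeι ≫ D.map f :=
  Scheme.IdealSheafData.subschemeMap_subschemeι _ _ _ (imI_le j f)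

theorem toImage_ι (k : I) : (j ≫ c.π.app k).toImage ≫ (imI j k).subschemeι = j ≫ c.π.app k :=
  Scheme.Hom.toImage_imageι _

/-- The cone of images. -/
noncomputable def imCone : Cone (imSys j) where
  pt := X
  π :=
  { app := fun k => (j ≫ c.π.app k).toImage
    naturality := fun k l f => by
      show 𝟙 X ≫ (j ≫ c.π.app l).toImage = (j ≫ c.π.app k).toImage ≫ (imSys j).map f
      rw [← cancel_mono (imI j l).subschemeι, Category.id_comp, toImage_ι, Category.assoc, imSys_map_ι,
        ← Category.assoc, toImage_ι, Category.assoc, c.w] }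

theorem isAffineHom_imSys [∀ {i j} (f : i ⟶ j), IsAffineHom (D.map f)] {k l : I} (f : k ⟶ l) :
    IsAffineHom ((imSys j).map f) := by
  haveI : IsAffineHom ((imSys j).map f ≫ (imI j l).subschemeι) := by rw [imSys_map_ι]; infer_instance
  exact IsAffineHom.of_comp _ (imI j l).subschemeι

theorem nonempty_isLimit_imCone [IsCofiltered I] (hc : IsLimit c) [∀ {i j} (f : i ⟶ j), IsAffineHom (D.map f)]
    [∀ i, CompactSpace (D.obj i)] [∀ i, QuasiSeparatedSpace (D.obj i)] [CompactSpace c.pt]
    [QuasiSeparatedSpace c.pt] [IsClosedImmersion j] : Nonempty (IsLimit (imCone j)) := by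
  obtain ⟨k0⟩ := IsCofiltered.nonempty (C := I)
  have hex : ∀ s : Cone (imSys j), ∃ m : s.pt ⟶ X,
      ∀ k, m ≫ j ≫ c.π.app k = s.π.app k ≫ (imI j k).subschemeι := by
    intro s
    let s' : Cone D :=
    { pt := s.pt
      π :=
      { app := fun k => s.π.app k ≫ (imI j k).subschemeι
        naturality := fun k l f => by
          simp only [Functor.const_obj_obj, Functor.const_obj_map, Category.id_comp, Category.assoc]
          rw [← imSys_map_ι, ← Category.assoc, s.w] } }
    have ht : ∀ k, hc.lift s' ≫ c.π.app k = s.π.app k ≫ (imI j k).subschemeι := hc.fac s'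
    have hle : j.ker ≤ (hc.lift s').ker := le_of_forall_sub fun K => by
      obtain ⟨m, -, Km, -, hKm⟩ := exists_comap_eq hc k0 K.1 K.2.2
      have h1 : Km ≤ imI j m := by
        rw [imI, ← Scheme.IdealSheafData.map_ker, Scheme.IdealSheafData.le_map_iff_comap_le, hKm]
        exact K.2.1
      rw [← hKm, ← Scheme.IdealSheafData.le_map_iff_comap_le, Scheme.IdealSheafData.map_ker, ht]
      exact (h1.trans (imI j m).ker_subschemeι.ge).trans (Scheme.Hom.le_ker_comp _ _)
    refine ⟨IsClosedImmersion.lift j (hc.lift s') hle, fun k => ?_⟩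
    rw [← Category.assoc, IsClosedImmersion.lift_fac, ht]
  refine ⟨IsLimit.mk (fun s => (hex s).choose) (fun s k => ?_) fun s m hm => ?_⟩
  · show (hex s).choose ≫ (j ≫ c.π.app k).toImage = s.π.app k
    rw [← cancel_mono (imI j k).subschemeι, Category.assoc, toImage_ι]
    exact (hex s).choose_spec k
  · refine (cancel_mono j).1 (hc.hom_ext fun k => ?_)
    rw [Category.assoc, Category.assoc, (hex s).choose_spec k, ← toImage_ι j k, ← Category.assoc]
    exact congrArg (· ≫ _) (hm k)

end image

/-- The images of a proper closed subscheme are eventually proper over the stages. -/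
theorem exists_proper_stage {I : Type u} [SmallCategory I] [IsCofiltered I] (D : I ⥤ Scheme.{u}) {c : Cone D}
    (hc : IsLimit c) [∀ {i j} (f : i ⟶ j), IsAffineHom (D.map f)] [∀ i, CompactSpace (D.obj i)]
    [∀ i, QuasiSeparatedSpace (D.obj i)] {i : I} {Xi : Scheme.{u}} (xi : Xi ⟶ D.obj i) [LocallyOfFiniteType xi]
    [CompactSpace Xi] [QuasiSeparatedSpace Xi] {Y : Scheme.{u}} {qY : Y ⟶ Xi} {pY : Y ⟶ c.pt}
    (hY : IsPullback qY pY xi (c.π.app i)) [IsSeparated pY] [CompactSpace c.pt] [QuasiSeparatedSpace c.pt]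
    [CompactSpace Y] [QuasiSeparatedSpace Y] {X : Scheme.{u}} (j : X ⟶ (BC.cone D xi hY).pt)
    [IsClosedImmersion j] [IsProper (j ≫ pY)] :
    ∃ k1 : Over i, ∀ k : Over i, (k ⟶ k1) →
      IsProper ((imI (c := BC.cone D xi hY) j k).subschemeι ≫ pullback.snd xi (D.map k.hom)) := by
  haveI : LocallyOfFiniteType pY := MorphismProperty.of_isPullback hY inferInstance
  haveI : CompactSpace (BC.cone D xi hY).pt := ‹CompactSpace Y›
  haveI : QuasiSeparatedSpace (BC.cone D xi hY).pt := ‹QuasiSeparatedSpace Y›
  haveI : IsClosedImmersion (j : X ⟶ Y) := ‹IsClosedImmersion j›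
  obtain ⟨K0, hK0⟩ := exists_sub_isProper (j : X ⟶ Y) pY
  haveI := hK0 K0 le_rfl
  haveI : ∀ k : Over i, CompactSpace ((BC.diag D xi).obj k) := fun k => BC.compactSpace_obj D xi k
  haveI : ∀ k : Over i, QuasiSeparatedSpace ((BC.diag D xi).obj k) := fun k => BC.quasiSeparatedSpace_obj D xi k
  haveI : ∀ {k l : Over i} (f : k ⟶ l), IsAffineHom ((BC.diag D xi).map f) := fun f => BC.isAffineHom_map D xi f
  obtain ⟨k0, -, K, hK, hKc⟩ := exists_comap_eq (BC.isLimitCone D xi hY hc) (Over.mk (𝟙 i))
    (K0.1 : (BC.cone D xi hY).pt.IdealSheafData) K0.2.2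
  let f₀ : K.subscheme ⟶ D.obj k0.left := K.subschemeι ≫ pullback.snd xi (D.map k0.hom)
  haveI : LocallyOfFiniteType (pullback.snd xi (D.map k0.hom)) := MorphismProperty.pullback_snd _ _ inferInstance
  haveI : LocallyOfFiniteType f₀ := inferInstanceAs (LocallyOfFiniteType (_ ≫ _))
  haveI : CompactSpace (pullback xi (D.map k0.hom) : Scheme.{u}) := BC.compactSpace_obj D xi k0
  haveI : QuasiSeparatedSpace (pullback xi (D.map k0.hom) : Scheme.{u}) := BC.quasiSeparatedSpace_obj D xi k0
  haveI : CompactSpace K.subscheme := QuasiCompact.compactSpace_of_compactSpace K.subschemeι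
  haveI : QuasiSeparatedSpace K.subscheme := quasiSeparatedSpace_of_quasiSeparated K.subschemeι
  haveI : QuasiCompact f₀ := quasiCompact_of_compactSpace f₀
  haveI : QuasiSeparated f₀ := QuasiSeparated.of_quasiSeparatedSpace f₀
  have hp0 : IsProper (pullback.snd f₀ (c.π.app k0.left)) := by
    have h1 := (isPullback_comap ((BC.cone D xi hY).π.app k0) K).paste_vert (BC.isPullback_proj D xi hY k0)
    refine Desc.of_two @IsProper h1 (IsPullback.of_hasPullback f₀ (c.π.app k0.left)) ?_
    have key : ∀ L : Y.IdealSheafData, L = K0.1 → IsProper (L.subschemeι ≫ pY) := by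
      rintro L rfl; infer_instance
    exact key _ hKc
  obtain ⟨l, φ, hl⟩ := Desc.descend D c hc k0.left (P := @IsProper) (Q := @LocallyOfFiniteType)
    Ultra.core_isProper f₀ inferInstance hp0
  let k1 : Over i := Over.mk (φ ≫ k0.hom)
  let a : k1 ⟶ k0 := Over.homMk φ rfl
  refine ⟨k1, fun k g => ?_⟩
  let h : k ⟶ k0 := g ≫ a
  have hp : IsProper ((K.comap ((BC.diag D xi).map h)).subschemeι ≫ pullback.snd xi (D.map k.hom)) :=
    Desc.of_factor @IsProper hl (a := D.map g.left) (g' := D.map h.left)
      (by rw [← D.map_comp]; rfl)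
      ((isPullback_comap ((BC.diag D xi).map h) K).paste_vert (BC.isPullback_map D xi h))
  have hle : K.comap ((BC.diag D xi).map h) ≤ imI (c := BC.cone D xi hY) j k := by
    rw [← Scheme.IdealSheafData.le_map_iff_comap_le]
    refine le_trans ?_ (imI_le (c := BC.cone D xi hY) j h)
    rw [imI, ← Scheme.IdealSheafData.map_ker, Scheme.IdealSheafData.le_map_iff_comap_le, hKc]
    exact K0.2.1
  rw [← Scheme.IdealSheafData.inclusion_subschemeι hle, Category.assoc]
  infer_instance

end Groth.Agent.Approx
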