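import Groth.Agent.Approx.UltraClosed
import Groth.Agent.MorLib.IdealFG3
import Mathlib.CategoryTheory.Limits.Connected

/-!
# A proper closed subscheme lies in a finitely presented proper one
-/

set_option autoImplicit false
set_option linter.style.haveILetI false
set_option backward.isDefEq.respectTransparency false
set_option backward.isDefEq.respectTransparency.types false
universe u

namespace Groth.Agent.Approx

open AlgebraicGeometry CategoryTheory Limits TopologicalSpace Opposite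
open Groth.Agent.MorLib.Ultra Groth.Agent.MorLib.IdealFG

theorem ker_gen {R K : Type u} [CommRing R] [Field K] [Algebra R K] (h : Function.Injective (algebraMap R K)) :
    (gen R K).ker = ⊥ := by
  refine le_bot_iff.1 (Scheme.IdealSheafData.le_of_isAffine fun x hx => ?_)
  have hk : (gen R K).ker.ideal ⟨⊤, isAffineOpen_top _⟩ = RingHom.ker (gen R K).appTop.hom := Scheme.Hom.ker_apply _ _
  have h1 : (gen R K).appTop.hom x = 0 := RingHom.mem_ker.1 (hk.le hx)
  have h2 := congrArg (Scheme.ΓSpecIso (.of K)).hom.hom h1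
  rw [map_zero, ← RingHom.comp_apply, ← CommRingCat.hom_comp, Scheme.ΓSpecIso_naturality] at h2
  have h3 : (Scheme.ΓSpecIso (.of R)).hom.hom x = 0 := h (h2.trans (map_zero _).symm)
  have h4 : x = 0 := (ConcreteCategory.bijective_of_isIso (Scheme.ΓSpecIso (.of R)).hom).1 (h3.trans (map_zero _).symm)
  simp [h4]

variable {X Y S : Scheme.{u}} (j : X ⟶ Y) [IsClosedImmersion j] (g : Y ⟶ S) [LocallyOfFiniteType g]
  [CompactSpace Y] [QuasiSeparatedSpace Y] [QuasiSeparatedSpace S]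

theorem exists_universallyClosed_restrict [UniversallyClosed (j ≫ g)] (U : S.affineOpens) :
    ∃ K0 : Sub j.ker, ∀ K : Sub j.ker, K0.1 ≤ K.1 → UniversallyClosed ((K.1.subschemeι ≫ g) ∣_ U.1) := by
  haveI : IsAffine (U.1 : Scheme.{u}) := U.2
  haveI : QuasiCompact g := quasiCompact_of_compactSpace g
  let W : Y.Opens := g ⁻¹ᵁ U.1
  haveI : CompactSpace (W : Scheme.{u}) := isCompact_iff_compactSpace.mp (g.isCompact_preimage U.2.isCompact)
  let f₀ : (W : Scheme.{u}) ⟶ U.1 := g ∣_ U.1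
  haveI : LocallyOfFiniteType f₀ := IsZariskiLocalAtTarget.restrict (P := @LocallyOfFiniteType) inferInstance _
  let D : (Sub j.ker)ᵒᵖ ⥤ Scheme.{u} := (Functor.const _).obj (U.1 : Scheme.{u})
  haveI : ∀ k, IsAffine (D.obj k) := fun _ => U.2
  haveI : IsConnected (Sub j.ker)ᵒᵖ := IsCofiltered.isConnected _
  let b0 : (Sub j.ker)ᵒᵖ := op ⟨⊥, bot_le, isFG_bot⟩
  obtain ⟨⟨K0⟩, φ, hK0⟩ := exists_existence_stage_closed (D := D) (c := constCone _ (U.1 : Scheme.{u}))
    (isLimitConstCone _ (U.1 : Scheme.{u})) (i := b0) (W := (W : Scheme.{u})) f₀ (fun k => k.unop.1.comap W.ι) ∅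
    (fun k hk => absurd hk (Set.notMem_empty k))
    (by
      intro R K _ _ _ _ _ _ a b hab _ hZ
      have hab' : a ≫ f₀ = gen R K ≫ b := hab.trans (by exact congrArg (gen R K ≫ ·) (Category.comp_id b))
      have hle : j.ker ≤ (a ≫ W.ι).ker := le_of_forall_sub fun k => by
        rw [← Scheme.IdealSheafData.map_ker, Scheme.IdealSheafData.le_map_iff_comap_le]
        exact hZ (op k)
      let x := IsClosedImmersion.lift j (a ≫ W.ι) hle
      have sq : CommSq x (gen R K) (j ≫ g) (b ≫ U.1.ι) := ⟨by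
        rw [← Category.assoc x, IsClosedImmersion.lift_fac, Category.assoc,
          show W.ι ≫ g = f₀ ≫ U.1.ι from (morphismRestrict_ι g U.1).symm, ← Category.assoc, hab', Category.assoc]⟩
      obtain ⟨l, hl₁, hl₂⟩ := (existence_of_universallyClosed (j ≫ g)
        { R := R, K := K, i₁ := _, i₂ := b ≫ U.1.ι, commSq := sq }).exists_lift
      dsimp only at hl₁ hl₂
      have hr : Set.range (l ≫ j) ⊆ Set.range W.ι := by
        rw [Scheme.Opens.range_ι]
        rintro _ ⟨z, rfl⟩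
        show g ((l ≫ j) z) ∈ U.1
        rw [← Scheme.Hom.comp_apply, Category.assoc, hl₂, Scheme.Hom.comp_apply]
        exact (b z).2
      refine ⟨IsOpenImmersion.lift W.ι (l ≫ j) hr, ?_, ?_⟩
      · rw [← cancel_mono W.ι, Category.assoc, IsOpenImmersion.lift_fac, ← Category.assoc, hl₁,
          IsClosedImmersion.lift_fac]
      · show _ = b ≫ 𝟙 _
        rw [Category.comp_id, ← cancel_mono U.1.ι, Category.assoc, morphismRestrict_ι, ← Category.assoc,
          IsOpenImmersion.lift_fac, Category.assoc, hl₂])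
  refine ⟨K0, fun K hK => ?_⟩
  haveI : QuasiCompact (K.1.subschemeι ≫ g) := inferInstance
  let h := K.1.subschemeι ≫ g
  haveI : QuasiCompact (h ∣_ U.1) := IsZariskiLocalAtTarget.restrict (P := @QuasiCompact) inferInstance _
  let m : (h ⁻¹ᵁ U.1 : Scheme.{u}) ⟶ W :=
    IsOpenImmersion.lift W.ι ((h ⁻¹ᵁ U.1).ι ≫ K.1.subschemeι) (by
      rw [Scheme.Opens.range_ι]
      rintro _ ⟨z, rfl⟩
      exact z.2)
  have hm : m ≫ W.ι = (h ⁻¹ᵁ U.1).ι ≫ K.1.subschemeι := IsOpenImmersion.lift_fac _ _ _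
  have hmf : m ≫ f₀ = h ∣_ U.1 := by
    rw [← cancel_mono U.1.ι, Category.assoc, morphismRestrict_ι, morphismRestrict_ι, ← Category.assoc, hm,
      Category.assoc]
  refine UniversallyClosed.of_valuativeCriterion _ fun Sq => ?_
  have hsq := Sq.commSq.w
  obtain ⟨l, hl₁, hl₂⟩ := hK0 Sq.R Sq.K (Sq.i₁ ≫ m) Sq.i₂
    (by
      show (Sq.i₁ ≫ m) ≫ f₀ = gen Sq.R Sq.K ≫ Sq.i₂ ≫ 𝟙 _
      rw [Category.comp_id, Category.assoc, hmf]
      exact hsq)
    (fun k hk => absurd hk (Set.notMem_empty k))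
    (fun k ρ => by
      rw [← Scheme.IdealSheafData.le_map_iff_comap_le, Scheme.IdealSheafData.map_ker, Category.assoc, hm,
        ← Category.assoc]
      refine le_trans ?_ (Scheme.Hom.le_ker_comp _ _)
      rw [Scheme.IdealSheafData.ker_subschemeι]
      exact le_trans (show k.unop.1 ≤ K0.1 from ρ.unop.le) hK)
  have hl₂' : l ≫ f₀ = Sq.i₂ := hl₂.trans (Category.comp_id _)
  have hgen : gen Sq.R Sq.K ≫ l ≫ W.ι = Sq.i₁ ≫ (h ⁻¹ᵁ U.1).ι ≫ K.1.subschemeι := by
    rw [← Category.assoc, hl₁, Category.assoc, hm]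
  have hker : (K.1.subschemeι).ker ≤ (l ≫ W.ι).ker := by
    refine le_trans (Scheme.Hom.le_ker_comp (Sq.i₁ ≫ (h ⁻¹ᵁ U.1).ι) _) (le_of_eq ?_)
    rw [Category.assoc, ← hgen, ← Scheme.IdealSheafData.map_ker (gen Sq.R Sq.K),
      ker_gen (IsFractionRing.injective _ _), Scheme.IdealSheafData.map_bot]
  let lK := IsClosedImmersion.lift K.1.subschemeι (l ≫ W.ι) hker
  have hlK : lK ≫ K.1.subschemeι = l ≫ W.ι := IsClosedImmersion.lift_fac _ _ _
  have hr : Set.range lK ⊆ Set.range (h ⁻¹ᵁ U.1).ι := by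
    rw [Scheme.Opens.range_ι]
    rintro _ ⟨z, rfl⟩
    show g (K.1.subschemeι (lK z)) ∈ U.1
    rw [← Scheme.Hom.comp_apply lK, hlK, Scheme.Hom.comp_apply]
    exact (l z).2
  refine ⟨⟨{ l := IsOpenImmersion.lift (h ⁻¹ᵁ U.1).ι lK hr, fac_left := ?_, fac_right := ?_ }⟩⟩
  · rw [← cancel_mono (h ⁻¹ᵁ U.1).ι, ← cancel_mono K.1.subschemeι]
    simp only [Category.assoc, IsOpenImmersion.lift_fac_assoc, hlK]
    exact hgen
  · rw [← cancel_mono U.1.ι, Category.assoc, morphismRestrict_ι, ← Category.assoc, IsOpenImmersion.lift_fac]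
    show lK ≫ K.1.subschemeι ≫ g = _
    rw [← Category.assoc, hlK, Category.assoc, ← morphismRestrict_ι, ← Category.assoc, hl₂']

/-- A closed subscheme proper over the base lies in a finitely presented one proper over it. -/
theorem exists_sub_isProper [CompactSpace S] [IsSeparated g] [IsProper (j ≫ g)] :
    ∃ K0 : Sub j.ker, ∀ K : Sub j.ker, K0.1 ≤ K.1 → IsProper (K.1.subschemeι ≫ g) := by
  classical
  choose KU hKU using exists_universallyClosed_restrict j g
  obtain ⟨F, hF⟩ := isCompact_univ.elim_finite_subcover (fun V : S.affineOpens => (V.1 : Set S))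
    (fun V => V.1.2) fun x _ => by
      obtain ⟨_, ⟨V, hV, rfl⟩, hxV, -⟩ := S.isBasis_affineOpens.exists_subset_of_mem_open
        (Set.mem_univ x) isOpen_univ
      exact Set.mem_iUnion.2 ⟨⟨V, hV⟩, hxV⟩
  obtain ⟨K0, hK0⟩ := Finset.exists_le (F.image KU)
  refine ⟨K0, fun K hK => ?_⟩
  haveI : UniversallyClosed (K.1.subschemeι ≫ g) := by
    refine IsZariskiLocalAtTarget.of_iSup_eq_top (P := @UniversallyClosed) (fun V : F => V.1.1) ?_ fun V =>
      hKU V.1 K (le_trans (hK0 _ (Finset.mem_image_of_mem _ V.2)) hK)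
    refine top_unique fun x _ => ?_
    obtain ⟨V, hV, hx⟩ := Set.mem_iUnion₂.1 (hF (Set.mem_univ x))
    exact Opens.mem_iSup.2 ⟨⟨V, hV⟩, hx⟩
  exact ⟨⟩

end Groth.Agent.Approx
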