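import Groth.Agent.Approx.Model
import Mathlib.CategoryTheory.Filtered.Final
import Mathlib.AlgebraicGeometry.Morphisms.FinitePresentation

/-!
# Approximation of a morphism

For `f : X ⟶ S` between qcqs schemes: a directed system of morphisms `φ_p : X_p ⟶ S_p` of schemes of
finite type over the integers with limit `f`, and the base changes `X_p ×_{S_p} S`, of finite
presentation over `S` with limit `X`.
-/

set_option autoImplicit false
set_option backward.isDefEq.respectTransparency false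
set_option backward.isDefEq.respectTransparency.types false

universe u

open CategoryTheory CategoryTheory.Limits AlgebraicGeometry TopologicalSpace Opposite RelSpec

namespace Groth.Agent.Approx

/-- Models of source and target of a morphism, compatible with it. -/
structure Setup {X S : Scheme.{u}} (f : X ⟶ S) where
  /-- model of the source -/
  P : Scheme.{u}
  /-- model of the target -/
  PS : Scheme.{u}
  /-- the affine morphism of the source -/
  gX : X ⟶ P
  /-- the affine morphism of the target -/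
  gS : S ⟶ PS
  /-- the model of the morphism -/
  ψ : P ⟶ PS
  comm : gX ≫ ψ = f ≫ gS
  affX : IsAffineHom gX
  affS : IsAffineHom gS
  compX : CompactSpace P
  compS : CompactSpace PS
  ftX : FTZ P
  ftS : FTZ PS

attribute [instance] Setup.affX Setup.affS Setup.compX Setup.compS

/-- The factorization of a morphism to a finite type scheme through a stage. -/
theorem exists_factor {X Q T B : Scheme.{u}} (g : X ⟶ Q) [IsAffineHom g] [CompactSpace Q] [QuasiSeparatedSpace Q]
    (q : T ⟶ B) [LocallyOfFinitePresentation q] (b : Q ⟶ B) (a : X ⟶ T) (ha : a ≫ q = g ≫ b) (N0 : Idx g) :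
    ∃ (N : Idx g) (_ : N0 ≤ N) (φ : (alg g N).spec ⟶ T),
      φ ≫ q = (alg g N).π ≫ b ∧ proj g N ≫ φ = a := by
  obtain ⟨hc⟩ := nonempty_isLimit_sch g
  haveI : ∀ i, CompactSpace ((sysSch g).obj i) := fun i => compactSpace_spec g i.unop
  haveI : ∀ i, QuasiSeparatedSpace ((sysSch g).obj i) := fun i => quasiSeparatedSpace_spec g i.unop
  let t : sysSch g ⟶ (Functor.const (Idx g)ᵒᵖ).obj B :=
  { app := fun N => (alg g N.unop).π ≫ b
    naturality := fun N N' f => by
      show trans g _ ≫ (alg g N'.unop).π ≫ b = ((alg g N.unop).π ≫ b) ≫ 𝟙 B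
      rw [← Category.assoc, trans_π, Category.comp_id] }
  obtain ⟨⟨N1⟩, φ, h1, h2⟩ := Scheme.exists_π_app_comp_eq_of_locallyOfFinitePresentation
    (sysSch g) t q (coneSch g) hc a (by
      ext N
      show proj g N.unop ≫ (alg g N.unop).π ≫ b = a ≫ q
      rw [← Category.assoc, proj_π, ha])
  obtain ⟨N, hN0, hN1⟩ := exists_ge_ge N0 N1
  have h1' : proj g N1 ≫ φ = a := h1
  have h2' : φ ≫ q = (alg g N1).π ≫ b := h2
  refine ⟨N, hN0, trans g hN1 ≫ φ, ?_, ?_⟩
  · rw [Category.assoc, h2', ← Category.assoc, trans_π]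
  · rw [← Category.assoc, proj_trans, h1']

theorem nonempty_setup {X S : Scheme.{u}} (f : X ⟶ S) [CompactSpace X] [QuasiSeparatedSpace X]
    [CompactSpace S] [QuasiSeparatedSpace S] : Nonempty (Setup f) := by
  obtain ⟨PS, gS, hgS, hPS, hftS⟩ := hasModel S
  obtain ⟨PX, gX, hgX, hPX, hftX⟩ := hasModel X
  haveI := quasiSeparatedSpace_of_ftz hftX
  haveI := isLocallyNoetherian_of_ftz hftS
  haveI : LocallyOfFiniteType (IsTerminal.from specULiftZIsTerminal PS) := hftS
  haveI : IsLocallyNoetherian (Spec (CommRingCat.of (ULift.{u} ℤ))) := by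
    haveI : IsNoetherianRing (CommRingCat.of (ULift.{u} ℤ)) := isNoetherianRing_ulift_int
    infer_instance
  obtain ⟨N0⟩ : Nonempty (Idx gX) := inferInstance
  obtain ⟨N, -, φ, -, hφ⟩ := exists_factor gX (IsTerminal.from specULiftZIsTerminal PS)
    (IsTerminal.from specULiftZIsTerminal PX) (f ≫ gS) (specULiftZIsTerminal.hom_ext _ _) N0
  exact ⟨⟨(alg gX N).spec, PS, proj gX N, gS, φ, hφ, inferInstance, hgS,
    compactSpace_spec gX N, hPS, ftz_system gX hftX N, hftS⟩⟩

variable {X S : Scheme.{u}} {f : X ⟶ S} (σ : Setup f)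

namespace Setup

instance qsP : QuasiSeparatedSpace σ.P := quasiSeparatedSpace_of_ftz σ.ftX

instance qsPS : QuasiSeparatedSpace σ.PS := quasiSeparatedSpace_of_ftz σ.ftS

/-- The pairs of stages over which the morphism is defined. -/
def Pair : Type u :=
  {p : Idx σ.gS × Idx σ.gX // ∃ φ : (alg σ.gX p.2).spec ⟶ (alg σ.gS p.1).spec,
    φ ≫ (alg σ.gS p.1).π = (alg σ.gX p.2).π ≫ σ.ψ ∧ proj σ.gX p.2 ≫ φ = f ≫ proj σ.gS p.1}

instance : Preorder σ.Pair := inferInstanceAs (Preorder (Subtype _))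

/-- The morphism at a pair of stages. -/
noncomputable def hom (p : σ.Pair) : (alg σ.gX p.1.2).spec ⟶ (alg σ.gS p.1.1).spec := p.2.choose

theorem hom_π (p : σ.Pair) : σ.hom p ≫ (alg σ.gS p.1.1).π = (alg σ.gX p.1.2).π ≫ σ.ψ := p.2.choose_spec.1

theorem proj_hom (p : σ.Pair) : proj σ.gX p.1.2 ≫ σ.hom p = f ≫ proj σ.gS p.1.1 := p.2.choose_spec.2

/-- Pairs exist above any given stages. -/
theorem exists_pair (b : Idx σ.gS) (N0 : Idx σ.gX) : ∃ p : σ.Pair, p.1.1 = b ∧ N0 ≤ p.1.2 := by
  haveI : LocallyOfFinitePresentation (alg σ.gS b).π := by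
    haveI := isLocallyNoetherian_of_ftz σ.ftS
    infer_instance
  obtain ⟨N, hN, φ, h1, h2⟩ := exists_factor σ.gX (alg σ.gS b).π σ.ψ (f ≫ proj σ.gS b)
    (by rw [Category.assoc, proj_π, σ.comm]) N0
  exact ⟨⟨(b, N), φ, h1, h2⟩, rfl, hN⟩

instance : IsDirected σ.Pair (fun a b => a ≤ b) := ⟨fun p q => by
  obtain ⟨b, hb, hb'⟩ := exists_ge_ge p.1.1 q.1.1
  obtain ⟨N, hN, hN'⟩ := exists_ge_ge p.1.2 q.1.2
  obtain ⟨r, rfl, hr⟩ := σ.exists_pair b N
  exact ⟨r, ⟨hb, hN.trans hr⟩, ⟨hb', hN'.trans hr⟩⟩⟩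

instance : Nonempty σ.Pair := by
  obtain ⟨b⟩ : Nonempty (Idx σ.gS) := inferInstance
  obtain ⟨N⟩ : Nonempty (Idx σ.gX) := inferInstance
  exact ⟨(σ.exists_pair b N).choose⟩

/-- Naturality of the morphisms. -/
theorem hom_trans {p q : σ.Pair} (hb : p.1.1 ≤ q.1.1) (hN : p.1.2 ≤ q.1.2) :
    σ.hom q ≫ trans σ.gS hb = trans σ.gX hN ≫ σ.hom p := by
  refine ext_of_schDom (proj σ.gX q.1.2) (alg σ.gS p.1.1).π _ _ ?_ ?_
  · rw [Category.assoc, trans_π, hom_π, Category.assoc, hom_π, ← Category.assoc, trans_π]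
  · rw [← Category.assoc, proj_hom, Category.assoc, proj_trans, ← Category.assoc, proj_trans, proj_hom]

/-- The stages of the target. -/
def fstFun : σ.Pair → Idx σ.gS := fun p => p.1.1

/-- The stages of the source. -/
def sndFun : σ.Pair → Idx σ.gX := fun p => p.1.2

theorem fst_mono : Monotone σ.fstFun := fun _ _ h => h.1

theorem snd_mono : Monotone σ.sndFun := fun _ _ h => h.2

theorem fst_final : σ.fst_mono.functor.Final := by
  rw [Monotone.final_functor_iff]
  intro b
  obtain ⟨N⟩ : Nonempty (Idx σ.gX) := inferInstance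
  obtain ⟨p, hp, -⟩ := σ.exists_pair b N
  exact ⟨p, hp.ge⟩

theorem snd_final : σ.snd_mono.functor.Final := by
  rw [Monotone.final_functor_iff]
  intro N
  obtain ⟨b⟩ : Nonempty (Idx σ.gS) := inferInstance
  obtain ⟨p, -, hp⟩ := σ.exists_pair b N
  exact ⟨p, hp⟩

/-- The system of sources. -/
noncomputable def DX : σ.Pairᵒᵖ ⥤ Scheme.{u} := σ.snd_mono.functor.op ⋙ sysSch σ.gX

/-- The system of targets. -/
noncomputable def DS : σ.Pairᵒᵖ ⥤ Scheme.{u} := σ.fst_mono.functor.op ⋙ sysSch σ.gS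

/-- The cone of sources. -/
noncomputable def cX : Cone σ.DX := (coneSch σ.gX).whisker σ.snd_mono.functor.op

/-- The cone of targets. -/
noncomputable def cS : Cone σ.DS := (coneSch σ.gS).whisker σ.fst_mono.functor.op

/-- The system of morphisms. -/
noncomputable def nat : σ.DX ⟶ σ.DS where
  app p := σ.hom p.unop
  naturality p q h := (σ.hom_trans (p := q.unop) (q := p.unop) h.unop.le.1 h.unop.le.2).symm

theorem cX_w (p : σ.Pairᵒᵖ) : σ.cX.π.app p ≫ σ.nat.app p = f ≫ σ.cS.π.app p := σ.proj_hom p.unop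

theorem nonempty_isLimit_cX : Nonempty (IsLimit σ.cX) := by
  haveI := σ.snd_final
  obtain ⟨h⟩ := nonempty_isLimit_sch σ.gX
  exact ⟨(Functor.Initial.isLimitWhiskerEquiv σ.snd_mono.functor.op _).symm h⟩

theorem nonempty_isLimit_cS : Nonempty (IsLimit σ.cS) := by
  haveI := σ.fst_final
  obtain ⟨h⟩ := nonempty_isLimit_sch σ.gS
  exact ⟨(Functor.Initial.isLimitWhiskerEquiv σ.fst_mono.functor.op _).symm h⟩

theorem ftz_src (p : σ.Pair) : FTZ (alg σ.gX p.1.2).spec := ftz_system σ.gX σ.ftX _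

theorem ftz_tgt (p : σ.Pair) : FTZ (alg σ.gS p.1.1).spec := ftz_system σ.gS σ.ftS _

instance lfp_hom (p : σ.Pair) : LocallyOfFinitePresentation (σ.hom p) := by
  haveI := isLocallyNoetherian_of_ftz (σ.ftz_tgt p)
  haveI : LocallyOfFiniteType (σ.hom p ≫ IsTerminal.from specULiftZIsTerminal _) := by
    rw [specULiftZIsTerminal.hom_ext (σ.hom p ≫ _) (IsTerminal.from specULiftZIsTerminal _)]
    exact σ.ftz_src p
  haveI := locallyOfFiniteType_of_comp (σ.hom p) (IsTerminal.from specULiftZIsTerminal _)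
  infer_instance

instance qc_hom (p : σ.Pair) : QuasiCompact (σ.hom p) := by
  haveI := quasiSeparatedSpace_of_ftz (σ.ftz_tgt p)
  haveI := compactSpace_spec σ.gX p.1.2
  exact quasiCompact_of_compactSpace _

instance qs_hom (p : σ.Pair) : QuasiSeparated (σ.hom p) := by
  haveI := quasiSeparatedSpace_of_ftz (σ.ftz_src p)
  exact QuasiSeparated.of_quasiSeparatedSpace _

/-- The finitely presented approximation at a pair of stages. -/
noncomputable abbrev Y (p : σ.Pair) : Scheme.{u} := pullback (σ.hom p) (proj σ.gS p.1.1)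

/-- Its structure morphism. -/
noncomputable abbrev yS (p : σ.Pair) : σ.Y p ⟶ S := pullback.snd (σ.hom p) (proj σ.gS p.1.1)

/-- Transition morphisms. -/
noncomputable def yTrans {p q : σ.Pair} (h : p ≤ q) : σ.Y q ⟶ σ.Y p :=
  pullback.map _ _ _ _ (trans σ.gX h.2) (𝟙 S) (trans σ.gS h.1) (σ.hom_trans h.1 h.2)
    (by rw [Category.id_comp]; exact proj_trans σ.gS h.1)

theorem yTrans_fst {p q : σ.Pair} (h : p ≤ q) :
    σ.yTrans h ≫ pullback.fst (σ.hom p) (proj σ.gS p.1.1) = pullback.fst _ _ ≫ trans σ.gX h.2 :=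
  pullback.lift_fst _ _ _

theorem yTrans_snd {p q : σ.Pair} (h : p ≤ q) : σ.yTrans h ≫ σ.yS p = σ.yS q :=
  (pullback.lift_snd _ _ _).trans (Category.comp_id _)

/-- The projection to the approximation. -/
noncomputable def yProj (p : σ.Pair) : X ⟶ σ.Y p := pullback.lift (proj σ.gX p.1.2) f (σ.proj_hom p)

theorem yProj_fst (p : σ.Pair) : σ.yProj p ≫ pullback.fst _ _ = proj σ.gX p.1.2 := pullback.lift_fst _ _ _

theorem yProj_snd (p : σ.Pair) : σ.yProj p ≫ σ.yS p = f := pullback.lift_snd _ _ _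

/-- The system of approximations over `S`. -/
noncomputable def sysY : σ.Pairᵒᵖ ⥤ Over S where
  obj p := Over.mk (σ.yS p.unop)
  map {p q} h := Over.homMk (σ.yTrans (show q.unop ≤ p.unop from h.unop.le)) (σ.yTrans_snd _)
  map_id p := Over.OverMorphism.ext (by
    show σ.yTrans (le_refl p.unop) = 𝟙 (σ.Y p.unop)
    apply pullback.hom_ext
    · rw [yTrans_fst, Category.id_comp, trans_self, Category.comp_id]
    · rw [Category.id_comp]; exact σ.yTrans_snd _)
  map_comp {p q r} h h' := Over.OverMorphism.ext (by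
    show σ.yTrans ((show r.unop ≤ q.unop from h'.unop.le).trans (show q.unop ≤ p.unop from h.unop.le)) =
      σ.yTrans (show q.unop ≤ p.unop from h.unop.le) ≫ σ.yTrans (show r.unop ≤ q.unop from h'.unop.le)
    apply pullback.hom_ext
    · rw [yTrans_fst, Category.assoc, yTrans_fst, ← Category.assoc, yTrans_fst, Category.assoc, trans_trans]
    · rw [Category.assoc, yTrans_snd, yTrans_snd, yTrans_snd])

/-- The cone with point `X`. -/
noncomputable def coneY : Cone σ.sysY where
  pt := Over.mk f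
  π :=
  { app := fun p => Over.homMk (σ.yProj p.unop) (σ.yProj_snd _)
    naturality := fun p q h => Over.OverMorphism.ext (by
      show 𝟙 X ≫ σ.yProj q.unop = σ.yProj p.unop ≫ σ.yTrans (show q.unop ≤ p.unop from h.unop.le)
      rw [Category.id_comp]
      apply pullback.hom_ext
      · rw [Category.assoc, yTrans_fst, yProj_fst, ← Category.assoc, yProj_fst, proj_trans]
      · rw [Category.assoc, yTrans_snd, yProj_snd, yProj_snd]) }

theorem nonempty_isLimit_coneY : Nonempty (IsLimit σ.coneY) := by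
  obtain ⟨hX⟩ := σ.nonempty_isLimit_cX
  obtain ⟨hS⟩ := σ.nonempty_isLimit_cS
  let sX (s : Cone σ.sysY) : Cone σ.DX :=
  { pt := s.pt.left
    π :=
    { app := fun p => (s.π.app p).left ≫ pullback.fst (σ.hom p.unop) (proj σ.gS p.unop.1.1)
      naturality := fun p q h => by
        show 𝟙 _ ≫ (s.π.app q).left ≫ pullback.fst _ _ =
          ((s.π.app p).left ≫ pullback.fst _ _) ≫ trans σ.gX h.unop.le.2
        rw [Category.id_comp, Category.assoc, ← yTrans_fst σ h.unop.le, ← Category.assoc,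
          show (s.π.app q).left = (s.π.app p).left ≫ σ.yTrans h.unop.le from
            (congrArg CommaMorphism.left (s.w h)).symm] } }
  have key : ∀ (s : Cone σ.sysY), hX.lift (sX s) ≫ f = s.pt.hom := fun s => by
    refine hS.hom_ext fun p => ?_
    show (hX.lift (sX s) ≫ f) ≫ proj σ.gS p.unop.1.1 = s.pt.hom ≫ proj σ.gS p.unop.1.1
    have h1 : hX.lift (sX s) ≫ proj σ.gX p.unop.1.2 = (s.π.app p).left ≫ pullback.fst _ _ := hX.fac (sX s) p
    have h2 : (s.π.app p).left ≫ σ.yS p.unop = s.pt.hom := Over.w (s.π.app p)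
    rw [Category.assoc, ← σ.proj_hom, ← Category.assoc, h1, Category.assoc, pullback.condition,
      ← Category.assoc, h2]
  refine ⟨IsLimit.mk (fun s => Over.homMk (hX.lift (sX s)) (key s))
    (fun s p => Over.OverMorphism.ext ?_) fun s m hm => Over.OverMorphism.ext ?_⟩
  · show hX.lift (sX s) ≫ σ.yProj p.unop = (s.π.app p).left
    apply pullback.hom_ext
    · rw [Category.assoc, yProj_fst]
      exact hX.fac (sX s) p
    · rw [Category.assoc, yProj_snd, key]
      exact (Over.w (s.π.app p)).symm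
  · refine hX.uniq (sX s) m.left fun p => ?_
    show m.left ≫ proj σ.gX p.unop.1.2 = (s.π.app p).left ≫ pullback.fst _ _
    rw [← yProj_fst, ← Category.assoc]
    exact congrArg (· ≫ pullback.fst _ _) (congrArg CommaMorphism.left (hm p))

instance isAffineHom_fst (p : σ.Pair) : IsAffineHom (pullback.fst (σ.hom p) (proj σ.gS p.1.1)) :=
  MorphismProperty.pullback_fst _ _ inferInstance

instance isAffineHom_yTrans {p q : σ.Pair} (h : p ≤ q) : IsAffineHom (σ.yTrans h) := by
  haveI : IsAffineHom (σ.yTrans h ≫ pullback.fst (σ.hom p) (proj σ.gS p.1.1)) := by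
    rw [yTrans_fst]; infer_instance
  exact IsAffineHom.of_comp _ (pullback.fst (σ.hom p) (proj σ.gS p.1.1))

instance isAffineHom_yProj (p : σ.Pair) : IsAffineHom (σ.yProj p) := by
  haveI : IsAffineHom (σ.yProj p ≫ pullback.fst (σ.hom p) (proj σ.gS p.1.1)) := by
    rw [yProj_fst]; infer_instance
  exact IsAffineHom.of_comp _ (pullback.fst (σ.hom p) (proj σ.gS p.1.1))

instance isAffineHom_sysY {p q : σ.Pairᵒᵖ} (h : p ⟶ q) : IsAffineHom (σ.sysY.map h).left :=
  inferInstanceAs (IsAffineHom (σ.yTrans (show q.unop ≤ p.unop from h.unop.le)))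

instance lfp_yS (p : σ.Pair) : LocallyOfFinitePresentation (σ.yS p) :=
  MorphismProperty.pullback_snd _ _ inferInstance

instance qc_yS (p : σ.Pair) : QuasiCompact (σ.yS p) := inferInstance

instance qs_yS (p : σ.Pair) : QuasiSeparated (σ.yS p) := inferInstance

end Setup

end Groth.Agent.Approx
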