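import Mathlib
import Groth.Prelude.Def_RelSpec
import Groth.Agent.RelSpecX.Spec
import Groth.Agent.MorLib.LimExists

/-!
# The relative spectrum of a filtered colimit of algebras is the limit of the relative spectra
-/

set_option backward.isDefEq.respectTransparency false
set_option backward.isDefEq.respectTransparency.types false

universe u

open CategoryTheory CategoryTheory.Limits AlgebraicGeometry TopologicalSpace Opposite RelSpec

namespace Groth.Agent.Approx.SpecLim

variable {S : Scheme.{u}}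

theorem specMap_id (A : QCAlg S) : QCAlg.specMap (𝟙 A) = 𝟙 A.spec :=
  RelSpecX.spec_hom_ext fun y => by
    obtain ⟨_, ⟨U, hU, rfl⟩, hyU, -⟩ := S.isBasis_affineOpens.exists_subset_of_mem_open
      (Set.mem_univ y) isOpen_univ
    refine ⟨U, hU, hyU, ?_⟩
    rw [A.ι_specMap]
    show Spec.map (𝟙 (A.presheaf.obj (op U))) ≫ A.ι U hU = A.ι U hU ≫ 𝟙 _
    rw [Spec.map_id, Category.id_comp, Category.comp_id]

theorem specMap_comp {A B C : QCAlg S} (φ : A ⟶ B) (ψ : B ⟶ C) :
    QCAlg.specMap (φ ≫ ψ) = QCAlg.specMap ψ ≫ QCAlg.specMap φ :=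
  RelSpecX.spec_hom_ext fun y => by
    obtain ⟨_, ⟨U, hU, rfl⟩, hyU, -⟩ := S.isBasis_affineOpens.exists_subset_of_mem_open
      (Set.mem_univ y) isOpen_univ
    refine ⟨U, hU, hyU, ?_⟩
    rw [QCAlg.ι_specMap, ← Category.assoc, QCAlg.ι_specMap, Category.assoc, QCAlg.ι_specMap,
      QCAlg.comp_hom, NatTrans.comp_app, Spec.map_comp, Category.assoc]

theorem isAffineHom_specMap {A B : QCAlg S} (φ : A ⟶ B) : IsAffineHom (QCAlg.specMap φ) := by
  haveI : IsAffineHom (QCAlg.specMap φ ≫ A.π) := by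
    rw [QCAlg.specMap_π]; infer_instance
  exact IsAffineHom.of_comp _ A.π

/-- The algebra map of the morphism of relative spectra attached to a homomorphism. -/
theorem algHom_specMap {A B : QCAlg S} (φ : A ⟶ B) :
    AffAlg.algHom A.π B.π (QCAlg.specMap φ) (QCAlg.specMap_π φ) ≫ B.gammaMap =
      A.gammaMap ≫ φ.hom := by
  rw [← cancel_mono (inv B.gammaMap), Category.assoc, Category.assoc, IsIso.hom_inv_id,
    Category.comp_id]
  refine RelSpecX.hom_ext_affine B.π fun U hU => ?_
  haveI : IsIso (B.gammaMap.app (op U)) := by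
    rw [B.gammaMap_app U hU]; exact RelSpecX.isIso_gammaAff B U hU
  rw [← cancel_mono (B.gammaMap.app (op U)), NatTrans.comp_app, NatTrans.comp_app, Category.assoc,
    Category.assoc]
  have h1 : (inv B.gammaMap).app (op U) ≫ B.gammaMap.app (op U) = 𝟙 _ := by
    rw [← NatTrans.comp_app, IsIso.inv_hom_id]; rfl
  rw [h1]
  refine Eq.trans ?_ (congrArg (A.gammaMap.app (op U) ≫ ·) (Category.comp_id _).symm)
  rw [RelSpecX.algHom_app, QCAlg.gammaMap_app _ U hU, QCAlg.gammaMap_app _ U hU]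
  unfold QCAlg.gammaAff
  rw [← Category.assoc, Scheme.Hom.appLE_comp_appLE, Category.assoc,
    ← Scheme.ΓSpecIso_naturality, ← Category.assoc, Scheme.Hom.appTop, Scheme.Hom.app_eq_appLE]
  erw [Scheme.Hom.appLE_comp_appLE]
  congr 1
  simp only [QCAlg.ι_specMap U hU φ]
  rfl

theorem algHom_inj {X Y : Scheme.{u}} (f : X ⟶ S) [IsAffineHom f] (g : Y ⟶ S) {h h' : Y ⟶ X}
    (w : h ≫ f = g) (w' : h' ≫ f = g) (e : AffAlg.algHom f g h w = AffAlg.algHom f g h' w') :
    h = h' :=
  RelSpecX.algHom_injective f g w w' fun U => by rw [e]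

variable {J : Type u} [SmallCategory J]

/-- The inverse system of relative spectra. -/
noncomputable def diagram (A : J ⥤ QCAlg S) : Jᵒᵖ ⥤ Scheme.{u} where
  obj j := (A.obj j.unop).spec
  map f := QCAlg.specMap (A.map f.unop)
  map_id j := by simp [specMap_id]
  map_comp f g := by simp [specMap_comp]

set_option maxHeartbeats 1000000 in
theorem existsUnique_lift [IsFiltered J] (A : J ⥤ QCAlg S) (c : Cocone A) (hc : IsColimit c)
    (T : Scheme.{u}) (v : ∀ j : J, T ⟶ (A.obj j).spec)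
    (hv : ∀ (j j' : J) (φ : j ⟶ j'), v j' ≫ QCAlg.specMap (A.map φ) = v j) :
    ∃! w : T ⟶ c.pt.spec, ∀ j : J, w ≫ QCAlg.specMap (c.ι.app j) = v j := by
  haveI : ∀ {i j : Jᵒᵖ} (f : i ⟶ j), IsAffineHom ((diagram A).map f) := fun f =>
    isAffineHom_specMap _
  haveI := MorLib.LimExists.hasLimit (D := diagram A)
  let L := limit.cone (diagram A)
  have hL : IsLimit L := limit.isLimit _
  obtain ⟨j₀⟩ := IsFiltered.nonempty (C := J)
  let p : L.pt ⟶ S := L.π.app (op j₀) ≫ (A.obj j₀).π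
  haveI : IsAffineHom (L.π.app (op j₀)) := isAffineHom_π_app (diagram A) _ hL _
  haveI : IsAffineHom p := inferInstanceAs (IsAffineHom (_ ≫ _))
  have hp : ∀ j : J, L.π.app (op j) ≫ (A.obj j).π = p := by
    intro j
    obtain ⟨k, f, g, -⟩ := IsFilteredOrEmpty.cocone_objs j j₀
    show _ = L.π.app (op j₀) ≫ _
    rw [← L.w f.op, ← L.w g.op, Category.assoc, Category.assoc]
    congr 1
    exact (QCAlg.specMap_π _).trans (QCAlg.specMap_π _).symm
  let leg : ∀ j : J, A.obj j ⟶ QCAlg.directImage p := fun j =>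
    ⟨inv (A.obj j).gammaMap ≫ AffAlg.algHom _ p (L.π.app (op j)) (hp j), by
      have h : (A.obj j).str ≫ inv (A.obj j).gammaMap = (A.obj j).π.c := by
        rw [IsIso.comp_inv_eq]; exact (A.obj j).π_c_gammaMap.symm
      rw [reassoc_of% h]
      exact AffAlg.algHom_comm _ _ _ _⟩
  let cc : Cocone A :=
    { pt := QCAlg.directImage p
      ι :=
        { app := leg
          naturality := fun i j f => by
            apply QCAlg.hom_ext
            have hw : L.π.app (op j) ≫ QCAlg.specMap (A.map f) = L.π.app (op i) := L.w f.op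
            show (A.map f).hom ≫ inv (A.obj j).gammaMap ≫ AffAlg.algHom _ p (L.π.app (op j)) (hp j) =
              (inv (A.obj i).gammaMap ≫ AffAlg.algHom _ p (L.π.app (op i)) (hp i)) ≫ 𝟙 _
            rw [Category.comp_id, IsIso.eq_inv_comp, ← reassoc_of% algHom_specMap (A.map f),
              IsIso.hom_inv_id_assoc, ← RelSpecX.algHom_comp]
            simp only [hw] } }
  let φ : c.pt ⟶ QCAlg.directImage p := hc.desc cc
  have hφ : ∀ j, (c.ι.app j).hom ≫ φ.hom =
      inv (A.obj j).gammaMap ≫ AffAlg.algHom _ p (L.π.app (op j)) (hp j) := fun j =>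
    congrArg QCAlg.Hom.hom (hc.fac cc j)
  let ω : AffAlg.algHoms c.pt.π p := ⟨c.pt.gammaMap ≫ φ.hom, by
    rw [reassoc_of% c.pt.π_c_gammaMap]; exact φ.comm⟩
  let u : L.pt ⟶ c.pt.spec := RelSpecX.ofAlgHom c.pt.π p ω
  have hu : u ≫ c.pt.π = p := RelSpecX.ofAlgHom_comp _ _ _
  have hu' : AffAlg.algHom c.pt.π p u hu = c.pt.gammaMap ≫ φ.hom :=
    RelSpecX.algHom_ofAlgHom _ _ _
  have huj : ∀ j : J, u ≫ QCAlg.specMap (c.ι.app j) = L.π.app (op j) := fun j => by
    refine algHom_inj (A.obj j).π p (by rw [Category.assoc, QCAlg.specMap_π, hu]) (hp j) ?_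
    rw [RelSpecX.algHom_comp (A.obj j).π c.pt.π p (QCAlg.specMap (c.ι.app j))
      (QCAlg.specMap_π _) u hu, hu', reassoc_of% algHom_specMap (B := c.pt) (c.ι.app j), hφ,
      IsIso.hom_inv_id_assoc]
  let k : c.pt.spec ⟶ L.pt := hL.lift
    { pt := c.pt.spec
      π :=
        { app := fun j => QCAlg.specMap (c.ι.app j.unop)
          naturality := fun i j f => by
            show 𝟙 _ ≫ QCAlg.specMap (c.ι.app j.unop) =
              QCAlg.specMap (c.ι.app i.unop) ≫ QCAlg.specMap (A.map f.unop)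
            rw [Category.id_comp, ← specMap_comp, c.w] } }
  have hk : ∀ j : J, k ≫ L.π.app (op j) = QCAlg.specMap (c.ι.app j) := fun j => hL.fac _ (op j)
  have hkp : k ≫ p = c.pt.π := by
    show k ≫ L.π.app (op j₀) ≫ _ = _
    rw [reassoc_of% hk j₀]
    exact QCAlg.specMap_π _
  let κ : QCAlg.directImage p ⟶ c.pt :=
    ⟨AffAlg.algHom p c.pt.π k hkp ≫ c.pt.gammaMap, by
      show p.c ≫ _ = _
      rw [reassoc_of% AffAlg.algHom_comm p c.pt.π k hkp, c.pt.π_c_gammaMap]⟩
  have hκ : φ ≫ κ = 𝟙 c.pt := by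
    refine hc.hom_ext fun j => QCAlg.hom_ext ?_
    show (c.ι.app j).hom ≫ φ.hom ≫ AffAlg.algHom p c.pt.π k hkp ≫ c.pt.gammaMap =
      (c.ι.app j).hom ≫ 𝟙 _
    rw [reassoc_of% hφ j, Category.comp_id, IsIso.inv_comp_eq, ← algHom_specMap (B := c.pt) (c.ι.app j),
      ← Category.assoc, ← RelSpecX.algHom_comp]
    simp only [hk]
  have hku : k ≫ u = 𝟙 c.pt.spec := by
    refine algHom_inj c.pt.π c.pt.π (by rw [Category.assoc, hu, hkp]) (Category.id_comp _) ?_
    have h : φ.hom ≫ AffAlg.algHom p c.pt.π k hkp ≫ c.pt.gammaMap = 𝟙 _ :=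
      congrArg QCAlg.Hom.hom hκ
    rw [RelSpecX.algHom_comp c.pt.π p c.pt.π u hu k hkp, hu', RelSpecX.algHom_id,
      ← cancel_mono c.pt.gammaMap, Category.assoc, Category.assoc, h]
    exact (Category.comp_id _).trans (Category.id_comp _).symm
  let cv : Cone (diagram A) :=
    { pt := T
      π :=
        { app := fun j => v j.unop
          naturality := fun i j f => by
            show 𝟙 _ ≫ v j.unop = v i.unop ≫ QCAlg.specMap (A.map f.unop)
            rw [Category.id_comp, hv] } }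
  refine ⟨hL.lift cv ≫ u, fun j => ?_, fun w hw => ?_⟩
  · rw [Category.assoc, huj]
    exact hL.fac cv (op j)
  · have : w ≫ k = hL.lift cv := hL.uniq cv _ fun j => by
      rw [Category.assoc, hk j.unop]
      exact hw j.unop
    rw [← this, Category.assoc, hku, Category.comp_id]

end Groth.Agent.Approx.SpecLim
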