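import Groth.Agent.Approx.AffLimit
import Groth.Agent.QCohAlg.Gen
import Groth.Agent.RelSpecX.Gamma
import Mathlib.AlgebraicGeometry.Morphisms.SchemeTheoreticallyDominant
import Mathlib.AlgebraicGeometry.Morphisms.FiniteType

/-!
# An affine morphism to a qcqs scheme is a limit of affine morphisms of finite type

For `g : X ⟶ P` affine, the quasi-coherent subalgebras of finite type of `g_* O_X` give a directed
system of schemes affine and of finite type over `P`, each schematically dominated by `X`, with
limit `X`.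
-/

set_option autoImplicit false
set_option backward.isDefEq.respectTransparency false
set_option backward.isDefEq.respectTransparency.types false

universe u

open CategoryTheory CategoryTheory.Limits AlgebraicGeometry TopologicalSpace Opposite RelSpec

namespace Groth.Agent.Approx

open Groth.Agent.RelSpecX Groth.Agent.QCoh Groth.Agent.QCohAlg

section incl

variable {P : Scheme.{u}} (B : QCAlg P)

theorem hom_ofHom_apply {R S : Type u} [CommRing R] [CommRing S] (f : R →+* S) (x : R) :
    (CommRingCat.ofHom f).hom x = f x := rfl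

theorem incl_val {R : Type u} [CommRing R] {S T : Subring R} (h : S ≤ T) (x : S) :
    (Subring.inclusion h x).1 = x.1 := rfl

noncomputable def inclApp {N N' : SubMod B.toModule} (h : ∀ O, genSub B N O ≤ genSub B N' O) (O : (Opens P.carrier)ᵒᵖ) :
    CommRingCat.of (genSub B N O.unop) ⟶ CommRingCat.of (genSub B N' O.unop) :=
  CommRingCat.ofHom (Subring.inclusion (h O.unop))

theorem inclApp_val {N N' : SubMod B.toModule} (h : ∀ O, genSub B N O ≤ genSub B N' O) (O : (Opens P.carrier)ᵒᵖ)
    (b : genSub B N O.unop) :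
    ((inclApp B h O).hom b : genSub B N' O.unop).1 = b.1 :=
  (congrArg Subtype.val (hom_ofHom_apply (Subring.inclusion (h O.unop)) b)).trans (incl_val (h O.unop) b)

noncomputable def genMapApp (N : SubMod B.toModule) {U V : (Opens P.carrier)ᵒᵖ} (i : U ⟶ V) :
    CommRingCat.of (genSub B N U.unop) ⟶ CommRingCat.of (genSub B N V.unop) := (genPresheaf B N).map i

theorem genMapApp_val (N : SubMod B.toModule) {U V : (Opens P.carrier)ᵒᵖ} (i : U ⟶ V)
    (b : genSub B N U.unop) :
    ((genMapApp B N i).hom b : genSub B N V.unop).1 = (B.presheaf.map i).hom b.1 := rfl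

theorem inclApp_nat {N N' : SubMod B.toModule} (h : ∀ O, genSub B N O ≤ genSub B N' O) {U V : (Opens P.carrier)ᵒᵖ} (i : U ⟶ V) :
    genMapApp B N i ≫ inclApp B h V = inclApp B h U ≫ genMapApp B N' i := by
  refine CommRingCat.hom_ext (RingHom.ext fun b => Subtype.ext ?_)
  rw [CommRingCat.comp_apply, CommRingCat.comp_apply]
  exact (inclApp_val B h V _).trans ((genMapApp_val B N i b).trans
    ((congrArg (B.presheaf.map i).hom (inclApp_val B h U b)).symm.trans (genMapApp_val B N' i _).symm))

noncomputable def incl' {N N' : SubMod B.toModule} (h : ∀ O, genSub B N O ≤ genSub B N' O) :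
    genPresheaf B N ⟶ genPresheaf B N' where
  app O := inclApp B h O
  naturality U V i := inclApp_nat B h i

theorem genSub_mono' {N N' : SubMod B.toModule}
    (h : ∀ O, N.mem O ≤ N'.mem O) (O : P.Opens) : genSub B N O ≤ genSub B N' O := fun b hb x hx => by
  obtain ⟨Q, hQ, hxQ, hb'⟩ := hb x hx
  exact ⟨Q, hQ, hxQ, (Subring.closure_mono (Set.union_subset_union_right _ (fun t ht => h Q ht)) :
    genRing B N Q ≤ genRing B N' Q) hb'⟩

/-- Inclusion of generated subalgebras. -/
noncomputable def genIncl {N N' : SubMod B.toModule} (h : ∀ O, N.mem O ≤ N'.mem O) :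
    genPresheaf B N ⟶ genPresheaf B N' := incl' B (genSub_mono' B h)

theorem genIncl_app_val {N N' : SubMod B.toModule} (h : ∀ O, N.mem O ≤ N'.mem O) (O : (Opens P.carrier)ᵒᵖ)
    (b : genSub B N O.unop) :
    (((genIncl B h).app O).hom b : genSub B N' O.unop).1 = b.1 := inclApp_val B (genSub_mono' B h) O b

/-- Maps into generated subalgebras agree if their values agree in `B`. -/
theorem gen_hom_ext {N' : SubMod B.toModule} {F : TopCat.Presheaf CommRingCat.{u} P.carrier}
    {α β : F ⟶ genPresheaf B N'}
    (h : ∀ (O : (Opens P.carrier)ᵒᵖ) (b : F.obj O),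
      ((α.app O).hom b : genSub B N' O.unop).1 = ((β.app O).hom b : genSub B N' O.unop).1) : α = β :=
  NatTrans.ext (funext fun O => CommRingCat.hom_ext (RingHom.ext fun b => Subtype.ext (h O b)))

theorem codRestrict_val {R S : Type u} [CommRing R] [CommRing S] (f : R →+* S) (T : Subring S) (h : ∀ x, f x ∈ T)
    (x : R) : (f.codRestrict T h x).1 = f x := rfl

theorem genStr_val (N : SubMod B.toModule) (O : (Opens P.carrier)ᵒᵖ) (a : P.presheaf.obj O) :
    (((genStr B N).app O).hom a : genSub B N O.unop).1 = (B.str.app O).hom a :=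
  (congrArg Subtype.val (hom_ofHom_apply ((B.str.app O).hom.codRestrict (genSub B N O.unop)
    fun a => genRing_le_genSub B N _ (str_mem_genRing B N a)) a)).trans (codRestrict_val _ _ _ a)

theorem subtype_apply' {R : Type u} [CommRing R] (S : Subring R) (x : S) : S.subtype x = x.1 := rfl

theorem genι_val {N : SubMod B.toModule} (hN : FTOn N ⊤) (O : (Opens P.carrier)ᵒᵖ) (b : genSub B N O.unop) :
    ((genι B N hN).hom.app O).hom b = b.1 :=
  (hom_ofHom_apply (genSub B N O.unop).subtype b).trans (subtype_apply' _ b)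

theorem genIncl_str {N N' : SubMod B.toModule} (h : ∀ O, N.mem O ≤ N'.mem O) :
    genStr B N ≫ genIncl B h = genStr B N' :=
  gen_hom_ext B fun O b => by
    rw [NatTrans.comp_app, CommRingCat.comp_apply]
    exact (genIncl_app_val B h O _).trans ((genStr_val B N O b).trans (genStr_val B N' O b).symm)

theorem genIncl_self {N : SubMod B.toModule} (h : ∀ O, N.mem O ≤ N.mem O) : genIncl B h = 𝟙 _ :=
  gen_hom_ext B fun O b => genIncl_app_val B h O b

theorem genIncl_comp {N N' N'' : SubMod B.toModule}
    (h : ∀ O, N.mem O ≤ N'.mem O) (h' : ∀ O, N'.mem O ≤ N''.mem O) :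
    genIncl B h ≫ genIncl B h' = genIncl B (fun O => (h O).trans (h' O)) :=
  gen_hom_ext B fun O b => by
    rw [NatTrans.comp_app, CommRingCat.comp_apply]
    exact ((genIncl_app_val B h' O _).trans (genIncl_app_val B h O b)).trans
      (genIncl_app_val B (fun O => (h O).trans (h' O)) O b).symm

theorem genIncl_genι {N N' : SubMod B.toModule}
    (h : ∀ O, N.mem O ≤ N'.mem O) (hN : FTOn N ⊤) (hN' : FTOn N' ⊤) :
    genIncl B h ≫ (genι B N' hN').hom = (genι B N hN).hom :=
  NatTrans.ext (funext fun O => CommRingCat.hom_ext (RingHom.ext fun b => by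
    rw [NatTrans.comp_app, CommRingCat.comp_apply]
    exact (genι_val B hN' O _).trans ((genIncl_app_val B h O b).trans (genι_val B hN O b).symm)))

end incl

theorem gammaMap_bijective {P : Scheme.{u}} (A : QCAlg P) (U : P.Opens) :
    Function.Bijective (A.gammaMap.app (op U)).hom := by
  haveI : IsIso A.gammaMap := RelSpecX.isIso_gammaMap A
  exact ConcreteCategory.bijective_of_isIso (A.gammaMap.app (op U))

variable {X P : Scheme.{u}} (g : X ⟶ P) [IsAffineHom g]

/-- Submodules of finite type of `g_* O_X`. -/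
def Idx : Type u :=
  {N : SubMod (QCAlg.directImage g).toModule // FTOn N ⊤}

instance : Preorder (Idx g) where
  le N N' := ∀ O, N.1.mem O ≤ N'.1.mem O
  le_refl _ _ := le_rfl
  le_trans _ _ _ h h' O := (h O).trans (h' O)

instance : IsDirected (Idx g) (fun a b => a ≤ b) :=
  ⟨fun N N' =>
    ⟨⟨sumSub (fun b : Bool => if b then N.1 else N'.1), ftOn_sumSub _ fun b => by
        cases b
        exacts [N'.2, N.2]⟩,
      fun O => le_sumSub (fun b : Bool => if b then N.1 else N'.1) true O,
      fun O => le_sumSub (fun b : Bool => if b then N.1 else N'.1) false O⟩⟩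

instance : Nonempty (Idx g) :=
  ⟨⟨sumSub (fun e : PEmpty.{1} => e.elim), ftOn_sumSub _ fun e => e.elim⟩⟩

variable {g}

variable (g)

/-- The subalgebra attached to an index. -/
noncomputable abbrev alg (N : Idx g) : QCAlg P := gen (QCAlg.directImage g) N.1 N.2

/-- Inclusion of subalgebras. -/
noncomputable abbrev incl {N N' : Idx g} (h : N ≤ N') : (alg g N).presheaf ⟶ (alg g N').presheaf :=
  genIncl (QCAlg.directImage g) h

theorem gammaHom_comm (N : Idx g) :
    (alg g N).π.c ≫ (alg g N).gammaMap ≫ (genι (QCAlg.directImage g) N.1 N.2).hom = g.c := by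
  refine (Category.assoc _ _ _).symm.trans ?_
  rw [QCAlg.π_c_gammaMap]
  exact (genι (QCAlg.directImage g) N.1 N.2).comm

/-- The projection `X ⟶ X_N`. -/
noncomputable def proj (N : Idx g) : X ⟶ (alg g N).spec :=
  ofAlgHom (alg g N).π g ⟨(alg g N).gammaMap ≫ (genι (QCAlg.directImage g) N.1 N.2).hom, gammaHom_comm g N⟩

theorem proj_π (N : Idx g) : proj g N ≫ (alg g N).π = g := ofAlgHom_comp _ _ _

theorem transHom_comm {N N' : Idx g} (h : N ≤ N') :
    (alg g N).π.c ≫ (alg g N).gammaMap ≫ incl g h ≫ inv (alg g N').gammaMap = (alg g N').π.c := by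
  have h1 : (alg g N).str ≫ incl g h = (alg g N').str := genIncl_str (QCAlg.directImage g) h
  rw [← Category.assoc, QCAlg.π_c_gammaMap, ← Category.assoc, h1, IsIso.comp_inv_eq, QCAlg.π_c_gammaMap]

/-- The transition morphism. -/
noncomputable def trans {N N' : Idx g} (h : N ≤ N') : (alg g N').spec ⟶ (alg g N).spec :=
  ofAlgHom (alg g N).π (alg g N').π
    ⟨(alg g N).gammaMap ≫ incl g h ≫ inv (alg g N').gammaMap, transHom_comm g h⟩

theorem trans_π {N N' : Idx g} (h : N ≤ N') : trans g h ≫ (alg g N).π = (alg g N').π := ofAlgHom_comp _ _ _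

theorem algHom_trans {N N' : Idx g} (h : N ≤ N') :
    AffAlg.algHom (alg g N).π (alg g N').π (trans g h) (trans_π g h) =
      (alg g N).gammaMap ≫ incl g h ≫ inv (alg g N').gammaMap := algHom_ofAlgHom _ _ _

theorem algHom_proj (N : Idx g) :
    AffAlg.algHom (alg g N).π g (proj g N) (proj_π g N) =
      (alg g N).gammaMap ≫ (genι (QCAlg.directImage g) N.1 N.2).hom := algHom_ofAlgHom _ _ _

theorem trans_self {N : Idx g} (h : N ≤ N) : trans g h = 𝟙 _ := by
  refine algHom_injective (alg g N).π (alg g N).π (trans_π g h) (Category.id_comp _) fun U => ?_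
  rw [algHom_trans, algHom_id]
  have h1 : incl g h = 𝟙 _ := genIncl_self (QCAlg.directImage g) h
  rw [h1, Category.id_comp, IsIso.hom_inv_id]

theorem trans_trans {N N' N'' : Idx g} (h : N ≤ N') (h' : N' ≤ N'') :
    trans g h' ≫ trans g h = trans g (h.trans h') := by
  refine algHom_injective (alg g N).π (alg g N'').π (by rw [Category.assoc, trans_π, trans_π]) (trans_π g _)
    fun U => ?_
  rw [algHom_comp _ _ _ (trans g h) (trans_π g h) (trans g h') (trans_π g h'), algHom_trans, algHom_trans,
    algHom_trans]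
  have h1 : incl g h ≫ incl g h' = incl g (h.trans h') := genIncl_comp (QCAlg.directImage g) h h' 
  simp only [Category.assoc, IsIso.inv_hom_id_assoc, ← h1]

theorem proj_trans {N N' : Idx g} (h : N ≤ N') : proj g N' ≫ trans g h = proj g N := by
  refine algHom_injective (alg g N).π g (by rw [Category.assoc, trans_π, proj_π]) (proj_π g N) fun U => ?_
  rw [algHom_comp _ _ _ (trans g h) (trans_π g h) (proj g N') (proj_π g N'), algHom_trans, algHom_proj,
    algHom_proj]
  have h1 : incl g h ≫ (genι (QCAlg.directImage g) N'.1 N'.2).hom = (genι (QCAlg.directImage g) N.1 N.2).hom :=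
    genIncl_genι (QCAlg.directImage g) h N.2 N'.2
  simp only [Category.assoc, IsIso.inv_hom_id_assoc, h1]

/-- The system of schemes affine and of finite type over `P`. -/
noncomputable def system : (Idx g)ᵒᵖ ⥤ Over P where
  obj N := Over.mk (alg g N.unop).π
  map {N N'} f := Over.homMk (trans g (show N'.unop ≤ N.unop from f.unop.le)) (trans_π g _)
  map_id N := Over.OverMorphism.ext (trans_self g _)
  map_comp {N N' N''} f f' := Over.OverMorphism.ext (trans_trans g _ _).symm

/-- The cone with point `X`. -/
noncomputable def cone : Cone (system g) where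
  pt := Over.mk g
  π :=
  { app := fun N => Over.homMk (proj g N.unop) (proj_π g _)
    naturality := fun N N' f => Over.OverMorphism.ext (by
      simpa [system] using! (proj_trans g (show N'.unop ≤ N.unop from f.unop.le)).symm) }

theorem injective_proj (N : Idx g) (U : P.affineOpens) :
    Function.Injective ((AffAlg.algHom (alg g N).π g (proj g N) (proj_π g N)).app (op U.1)).hom := by
  rw [algHom_proj]
  have h1 : Function.Bijective ((alg g N).gammaMap.app (op U.1)).hom :=
    gammaMap_bijective _ _
  exact (genι_injective (QCAlg.directImage g) N.1 N.2 U.1).comp h1.1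

/-- Every section over an affine open comes from some `X_N`. -/
theorem exists_proj [CompactSpace P] [QuasiSeparatedSpace P] (U : P.affineOpens) (b : Γ(X, g ⁻¹ᵁ U.1)) :
    ∃ (N : Idx g) (a : Γ((alg g N).spec, (alg g N).π ⁻¹ᵁ U.1)),
      ((AffAlg.algHom (alg g N).π g (proj g N) (proj_π g N)).app (op U.1)).hom a = b := by
  let B := QCAlg.directImage g
  obtain ⟨N, hN, hb⟩ := exists_ftOn_contains (isQCoh_toModule B) U.2 (extStep_qcqs U.2.isCompact)
    {(show Γ(B.toModule, U.1) from b)} (Set.finite_singleton _)
  have h1 : Function.Bijective ((alg g ⟨N, hN⟩).gammaMap.app (op U.1)).hom :=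
    gammaMap_bijective _ _
  obtain ⟨a, ha⟩ := h1.2 ⟨b, genRing_le_genSub B N U.1 (Subring.subset_closure (Or.inr (hb rfl)))⟩
  refine ⟨⟨N, hN⟩, a, ?_⟩
  rw [algHom_proj]
  exact congrArg Subtype.val ha

/-- **`X` is the limit of the system.** -/
theorem nonempty_isLimit [CompactSpace P] [QuasiSeparatedSpace P] : Nonempty (IsLimit (cone g)) := by
  haveI : IsAffineHom (cone g).pt.hom := inferInstanceAs (IsAffineHom g)
  haveI : ∀ N, IsAffineHom ((system g).obj N).hom := fun N => inferInstanceAs (IsAffineHom (alg g N.unop).π)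
  exact nonempty_isLimit_of_union (cone g) (fun N U => injective_proj g N U) (fun U b => exists_proj g U b)

instance isAffineHom_system (N : (Idx g)ᵒᵖ) : IsAffineHom ((system g).obj N).hom :=
  inferInstanceAs (IsAffineHom (alg g N.unop).π)

instance isAffineHom_trans {N N' : Idx g} (h : N ≤ N') : IsAffineHom (trans g h) := by
  haveI : IsAffineHom (trans g h ≫ (alg g N).π) := by rw [trans_π]; infer_instance
  exact IsAffineHom.of_comp _ (alg g N).π

instance isAffineHom_map {N N' : (Idx g)ᵒᵖ} (f : N ⟶ N') : IsAffineHom ((system g).map f).left :=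
  inferInstanceAs (IsAffineHom (trans g _))

instance isAffineHom_proj (N : Idx g) : IsAffineHom (proj g N) := by
  haveI : IsAffineHom (proj g N ≫ (alg g N).π) := by rw [proj_π]; infer_instance
  exact IsAffineHom.of_comp _ (alg g N).π

instance locallyOfFiniteType_π (N : Idx g) : LocallyOfFiniteType (alg g N).π := by
  refine IsZariskiLocalAtTarget.of_iSup_eq_top (P := @LocallyOfFiniteType) (fun U : P.affineOpens => U.1)
    (iSup_affineOpens_eq_top P) fun U => ?_
  haveI : IsAffine (U.1 : Scheme.{u}) := U.2
  haveI : IsAffine (((alg g N).π ⁻¹ᵁ U.1) : Scheme.{u}) := U.2.preimage _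
  rw [HasRingHomProperty.iff_of_isAffine (P := @LocallyOfFiniteType), morphismRestrict_appTop]
  refine (RingHom.finiteType_respectsIso.cancel_right_isIso (((alg g N).π.app (U.1.ι ''ᵁ ⊤)))
    ((alg g N).spec.presheaf.map (eqToHom (image_morphismRestrict_preimage (alg g N).π U.1 ⊤)).op)).2 ?_
  have h1 : ((alg g N).π.app U.1).hom.FiniteType := by
    haveI : IsIso ((alg g N).gammaAff U.1 U.2) := isIso_gammaAff _ _ _
    refine (RingHom.finiteType_respectsIso.cancel_right_isIso _ ((alg g N).gammaAff U.1 U.2)).1 ?_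
    have e := congrArg CommRingCat.Hom.hom ((alg g N).π_app_gammaAff U.1 U.2)
    rw [CommRingCat.hom_comp] at e
    rw [e]
    exact gen_finiteType (QCAlg.directImage g) N.1 N.2 U.2
  have e : ∀ W : P.Opens, W = U.1 → ((alg g N).π.app W).hom.FiniteType := by
    rintro W rfl
    exact h1
  exact e _ U.1.ι_image_top

instance isSchemeTheoreticallyDominant_proj (N : Idx g) : IsSchemeTheoreticallyDominant (proj g N) := by
  refine ⟨Scheme.IdealSheafData.ext_of_iSup_eq_top
    (fun U : P.affineOpens => ⟨(alg g N).π ⁻¹ᵁ U.1, U.2.preimage _⟩)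
    (IsOpenCover.comap (iSup_affineOpens_eq_top P) (alg g N).π.base.hom) fun U => ?_⟩
  have h1 := injective_proj g N U
  rw [algHom_app] at h1
  rw [Scheme.Hom.ker_apply, Scheme.IdealSheafData.ideal_bot, Pi.bot_apply, ← RingHom.injective_iff_ker_eq_bot,
    Scheme.Hom.app_eq_appLE]
  intro x y hxy
  refine h1 ?_
  rw [← Scheme.Hom.appLE_map (proj g N) le_rfl
    (homOfLE (preimage_eq (alg g N).π g (proj g N) (proj_π g N) U.1).le).op]
  rw [CommRingCat.comp_apply, CommRingCat.comp_apply]
  exact congrArg _ hxy

end Groth.Agent.Approx
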