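import Mathlib
import Groth.Agent.AmpleX.Locus
import Groth.Agent.AmpleX.Sect
import Groth.Agent.AmpleX.Separated
import Groth.Agent.AmpleX.Rel
import Groth.Prelude.Def_LCI2
import Groth.Agent.InvX.GenLocus
import Groth.Agent.Approx.Immersion
import Groth.Agent.RelSpecX.Gamma

/-!
# Generating loci of sections are affine over the base for universally closed morphisms with ample sheaves
-/

set_option backward.isDefEq.respectTransparency false
set_option backward.isDefEq.respectTransparency.types false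

universe u

open CategoryTheory CategoryTheory.Limits AlgebraicGeometry TopologicalSpace

namespace Groth.Agent.Approx.UCAffine

open Groth.Agent

/-- A closed subset of an affine scheme covered by basic opens lies in one basic open of the ideal. -/
theorem exists_mem_span_basicOpen {A : Scheme.{u}} [IsAffine A] {C : Set A} (hC : IsClosed C)
    (F : Set Γ(A, ⊤)) (h : ∀ p ∈ C, ∃ a ∈ F, p ∈ A.basicOpen a) :
    ∃ P ∈ Ideal.span F, C ⊆ A.basicOpen P := by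
  let e := (isAffineOpen_top A).fromSpec
  obtain ⟨J, hJ⟩ := (PrimeSpectrum.isClosed_iff_zeroLocus_ideal _).1 (hC.preimage e.continuous)
  have hmem : ∀ (a : Γ(A, ⊤)) (q : PrimeSpectrum Γ(A, ⊤)), e q ∈ A.basicOpen a ↔ a ∉ q.asIdeal := by
    intro a q
    have := congrArg (fun O : (Spec Γ(A, ⊤)).Opens => q ∈ O) ((isAffineOpen_top A).fromSpec_preimage_basicOpen a)
    exact (Iff.of_eq this).trans (PrimeSpectrum.mem_basicOpen _ _)
  have htop : Ideal.span F ⊔ J = ⊤ := by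
    by_contra hne
    obtain ⟨m, hm, hle⟩ := Ideal.exists_le_maximal _ hne
    have hq : (⟨m, hm.isPrime⟩ : PrimeSpectrum Γ(A, ⊤)) ∈ e ⁻¹' C := by
      rw [hJ]; exact (le_sup_right.trans hle : J ≤ m)
    obtain ⟨a, haF, ha⟩ := h _ hq
    exact (hmem a _).1 ha (hle (le_sup_left (b := J) (Ideal.subset_span haF) : a ∈ Ideal.span F ⊔ J))
  obtain ⟨P, hP, u, hu, hPu⟩ := Submodule.mem_sup.1 ((Ideal.eq_top_iff_one _).1 htop)
  refine ⟨P, hP, fun p hp => ?_⟩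
  obtain ⟨q, rfl⟩ : p ∈ Set.range e := by rw [(isAffineOpen_top A).range_fromSpec]; trivial
  refine (hmem P q).2 fun hPq => q.isPrime.ne_top ((Ideal.eq_top_iff_one _).2 (hPu ▸ add_mem hPq ?_))
  have : q ∈ PrimeSpectrum.zeroLocus (J : Set Γ(A, ⊤)) := hJ ▸ hp
  exact this hu

variable {X S : Scheme.{u}}

/-- The locus of a section of an invertible module is affine over the ambient open. -/
theorem isAffineOpen_inf_locus {U W : X.Opens} {M : X.Modules} (hM : PicF.IsInvertible M) (σ : Γ(M, U))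
    (hW : IsAffineOpen W) (hWU : W ≤ U := by exact AmpleX.locus_le _) :
    IsAffineOpen (W ⊓ AmpleX.locus σ) := by
  obtain ⟨s, hs⟩ : ∃ s : Coh.structureModule (W : Scheme.{u}) ⟶ M.restrict W.ι,
      W.ι ''ᵁ CohB1.genLocus _ s = AmpleX.locus σ ⊓ W := by
    obtain ⟨t, ht⟩ : ∃ t : Γ(M, W.ι ''ᵁ ⊤), AmpleX.locus t = AmpleX.locus σ ⊓ W :=
      ⟨AModX.res M ((W.ι_image_le ⊤).trans hWU) σ, by
        rw [AmpleX.locus_res, Scheme.Hom.image_top_eq_opensRange, Scheme.Opens.opensRange_ι]⟩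
    refine ⟨InvX.ofSect (show Γ(M.restrict W.ι, ⊤) from t), ?_⟩
    rw [AmpleX.genLocus_eq_locus, InvX.one_ofSect, ← ht]
    exact AmpleX.image_locus W.ι t
  haveI : IsAffine (W : Scheme.{u}) := hW
  haveI := InvX.isAffineHom_genLocus_ι (AmpleX.isInvertible_restrict W.ι hM) s
  rw [inf_comm, ← hs]
  have : IsAffineOpen (CohB1.genLocus _ s) := by
    exact isAffine_of_isAffineHom (CohB1.genLocus _ s).ι
  exact this.image_of_isOpenImmersion W.ι

theorem isClosedImmersion_graph {U : X.Opens} (h : (U : Scheme.{u}) ⟶ S) [IsAffine S]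
    {n : ℕ} (W₀ : (U : Scheme.{u}).Opens) (g : Fin n → Γ(W₀, ⊤))
    (hcov : ∀ z : U, ∃ V : (U : Scheme.{u}).Opens, z ∈ V ∧ IsAffineOpen V ∧ IsAffineOpen (W₀.ι ⁻¹ᵁ V) ∧
      ∀ (e : W₀.ι ⁻¹ᵁ V ≤ (AffineSpace.homOfVector (W₀.ι ≫ h) fun i : ULift.{u} (Fin n) => g i.down) ⁻¹ᵁ ⊤),
        Subring.closure (Set.range ((AffineSpace.homOfVector (W₀.ι ≫ h) fun i : ULift.{u} (Fin n) => g i.down).appLE
          ⊤ (W₀.ι ⁻¹ᵁ V) e).hom ∪ Set.range (W₀.ι.app V).hom) = ⊤) :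
    IsClosedImmersion (pullback.lift (f := h) (g := 𝔸(ULift.{u} (Fin n); S) ↘ S) W₀.ι
      (AffineSpace.homOfVector (W₀.ι ≫ h) fun i : ULift.{u} (Fin n) => g i.down) (by simp)) := by
  choose V hzV hVaff hVaff' hgen using hcov
  refine IsZariskiLocalAtTarget.of_iSup_eq_top (P := @IsClosedImmersion)
    (fun z => pullback.fst h (𝔸(ULift.{u} (Fin n); S) ↘ S) ⁻¹ᵁ V z) ?_ fun z => ?_
  · have hsup : (⨆ z, V z) = ⊤ := top_le_iff.1 fun z _ => Opens.mem_iSup.2 ⟨z, hzV z⟩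
    rw [← Scheme.Hom.preimage_iSup, hsup]
    rfl
  have hO : IsAffineOpen (pullback.fst h (𝔸(ULift.{u} (Fin n); S) ↘ S) ⁻¹ᵁ V z ⊓
      pullback.snd h (𝔸(ULift.{u} (Fin n); S) ↘ S) ⁻¹ᵁ ⊤) :=
    isAffineOpen_fst_inf_snd _ _ (hVaff z) (isAffineOpen_top _) (isAffineOpen_top _) le_top le_top
  have h0 := isClosedImmersion_restrict_of_generators
    (pullback.lift (f := h) (g := 𝔸(ULift.{u} (Fin n); S) ↘ S) W₀.ι
      (AffineSpace.homOfVector (W₀.ι ≫ h) fun i : ULift.{u} (Fin n) => g i.down) (by simp))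
    (pullback.fst h (𝔸(ULift.{u} (Fin n); S) ↘ S)) (pullback.snd h (𝔸(ULift.{u} (Fin n); S) ↘ S))
    W₀.ι _ (pullback.lift_fst _ _ _) (pullback.lift_snd _ _ _) _ rfl hO (hVaff' z)
  have h1 := h0 rfl le_top (Set.range (W₀.ι.app (V z)).hom) (hgen z le_top) (by
    rintro x ⟨r, rfl⟩
    exact ⟨r, congrArg (fun φ => φ.hom r) (W₀.ι.app_eq_appLE (U := V z)).symm⟩)
  have e : pullback.fst h (𝔸(ULift.{u} (Fin n); S) ↘ S) ⁻¹ᵁ V z ⊓
      pullback.snd h (𝔸(ULift.{u} (Fin n); S) ↘ S) ⁻¹ᵁ ⊤ =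
      pullback.fst h (𝔸(ULift.{u} (Fin n); S) ↘ S) ⁻¹ᵁ V z := inf_eq_left.2 fun _ _ => trivial
  rw [e] at h1
  exact h1

theorem isAffineOpen_locus [IsAffine S] {U : X.Opens} (h : (U : Scheme.{u}) ⟶ S) [UniversallyClosed h]
    {M : X.Modules} (hM : PicF.IsInvertible M) (σ : Γ(M, U)) {n : ℕ} (τ : Fin n → Γ(M, U))
    (hcov : U ≤ ⨆ i, AmpleX.locus (τ i)) (haff : ∀ i, IsAffineOpen (AmpleX.locus (τ i))) :
    IsAffineOpen (AmpleX.locus σ) := by
  set W₁ := AmpleX.locus σ with hW₁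
  have hW₁U : W₁ ≤ U := AmpleX.locus_le σ
  have he := AmpleX.isFrame_res_locus σ
  choose c hc using fun i => he.exists_coord le_rfl (AModX.res M hW₁U (τ i))
  simp only [AModX.res_self] at hc
  have hbo : ∀ i, X.basicOpen (c i) = AmpleX.locus (τ i) ⊓ W₁ := fun i =>
    (AmpleX.locus_inf (τ i) hW₁U he (hc i)).symm
  let W₀ : (U : Scheme.{u}).Opens := U.ι ⁻¹ᵁ W₁
  have hW₀ : U.ι ''ᵁ W₀ = W₁ := by
    rw [Scheme.Hom.image_preimage_eq_opensRange_inf, Scheme.Opens.opensRange_ι]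
    exact inf_eq_right.2 hW₁U
  have hj : (W₀.ι ≫ U.ι) ⁻¹ᵁ W₁ = ⊤ := by
    rw [Scheme.Hom.comp_preimage]
    exact W₀.ι_preimage_self
  let g : Fin n → Γ(W₀, ⊤) := fun i => (W₀.ι ≫ U.ι).appLE W₁ ⊤ hj.ge (c i)
  have hg : ∀ i, W₀.toScheme.basicOpen (g i) = (W₀.ι ≫ U.ι) ⁻¹ᵁ AmpleX.locus (τ i) := fun i => by
    simp only [g]
    rw [Scheme.Hom.appLE, CommRingCat.comp_apply, Scheme.basicOpen_res, top_inf_eq,
      ← Scheme.preimage_basicOpen, hbo, Scheme.Hom.preimage_inf, hj, inf_top_eq]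
  let G := AffineSpace.homOfVector (S := S) (W₀.ι ≫ h) fun i : ULift.{u} (Fin n) => g i.down
  have hGc : ∀ i, G.appTop (AffineSpace.coord S i) = g i.down := fun i =>
    AffineSpace.homOfVector_appTop_coord _ _ i
  have hcl : IsClosedImmersion (pullback.lift (f := h) (g := 𝔸(ULift.{u} (Fin n); S) ↘ S) W₀.ι G
      (by simp [G])) := by
    refine isClosedImmersion_graph h W₀ g fun z => ?_
    obtain ⟨V₀, hzV₀, e, hV₀⟩ := InvX.exists_frame hM (U.ι z)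
    obtain ⟨V, hV, hzV, hVle⟩ := exists_isAffineOpen_mem_and_subset (x := U.ι z) (U := V₀ ⊓ U) ⟨hzV₀, z.2⟩
    have hVV₀ : V ≤ V₀ := fun y hy => (hVle hy).1
    have hVU : V ≤ U := fun y hy => (hVle hy).2
    have hf := hV₀.res hVV₀
    obtain ⟨a, ha⟩ := hf.exists_coord le_rfl (AModX.res M hVU σ)
    choose b hb using fun i => hf.exists_coord le_rfl (AModX.res M hVU (τ i))
    simp only [AModX.res_self] at ha hb
    have hVa : X.basicOpen a = W₁ ⊓ V := (AmpleX.locus_inf σ hVU hf ha).symm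
    have hspan : Ideal.span (Set.range b) = ⊤ := by
      rw [← hV.self_le_iSup_basicOpen_iff]
      intro y hy
      obtain ⟨i, hi⟩ := Opens.mem_iSup.1 (hcov (hVU hy))
      refine Opens.mem_iSup.2 ⟨⟨b i, i, rfl⟩, ?_⟩
      rw [← AmpleX.locus_inf (τ i) hVU hf (hb i)]
      exact ⟨hi, hy⟩
    have hV' : IsAffineOpen (U.ι ⁻¹ᵁ V) :=
      hV.preimage_of_isOpenImmersion _ (by rw [Scheme.Opens.opensRange_ι]; exact hVU)
    have himg : (W₀.ι ≫ U.ι) ''ᵁ (W₀.ι ⁻¹ᵁ (U.ι ⁻¹ᵁ V)) = W₁ ⊓ V := by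
      rw [← Scheme.Hom.comp_preimage, Scheme.Hom.image_preimage_eq_opensRange_inf,
        Scheme.Hom.opensRange_comp, Scheme.Opens.opensRange_ι, hW₀]
    have hV'' : IsAffineOpen (W₀.ι ⁻¹ᵁ (U.ι ⁻¹ᵁ V)) := by
      rw [← (W₀.ι ≫ U.ι).isAffineOpen_iff_of_isOpenImmersion, himg, ← hVa]
      exact hV.basicOpen a
    refine ⟨U.ι ⁻¹ᵁ V, hzV, hV', hV'', fun e => ?_⟩
    let O := W₀.ι ⁻¹ᵁ (U.ι ⁻¹ᵁ V)
    let ρ : Γ(X, V) ⟶ Γ(W₀, O) := (W₀.ι ≫ U.ι).appLE V O (Scheme.Hom.comp_preimage _ _ _).ge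
    let ρ₁ : Γ(X, W₁) ⟶ Γ(W₀, O) := (W₀.ι ≫ U.ι).appLE W₁ O (le_top.trans hj.ge)
    set R := Subring.closure (Set.range (G.appLE ⊤ O e).hom ∪ Set.range (W₀.ι.app (U.ι ⁻¹ᵁ V)).hom)
    have hρR : ∀ r, ρ r ∈ R := fun r => by
      refine Subring.subset_closure (Or.inr ⟨U.ι.app V r, ?_⟩)
      exact congrArg (fun φ => φ.hom r) (((Scheme.Hom.comp_app W₀.ι U.ι V).symm.trans
        (W₀.ι ≫ U.ι).app_eq_appLE))
    have hρ₁R : ∀ i, ρ₁ (c i) ∈ R := fun i => by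
      refine Subring.subset_closure (Or.inl ⟨AffineSpace.coord S ⟨i⟩, ?_⟩)
      show (G.appLE ⊤ O e) (AffineSpace.coord S ⟨i⟩) = _
      rw [show G.appLE ⊤ O e = G.appTop ≫ W₀.toScheme.presheaf.map (homOfLE le_top).op from rfl,
        CommRingCat.comp_apply, hGc]
      show _ = ((W₀.ι ≫ U.ι).appLE W₁ O _) (c i)
      simp only [g, ← CommRingCat.comp_apply, Scheme.Hom.appLE_map]
    -- the ratio identity
    have hrel : ∀ i, ρ (b i) = ρ₁ (c i) * ρ a := by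
      intro i
      have h1 : AModX.resR (inf_le_right : W₁ ⊓ V ≤ V) (b i) =
          AModX.resR (inf_le_left : W₁ ⊓ V ≤ W₁) (c i) * AModX.resR (inf_le_right : W₁ ⊓ V ≤ V) a := by
        refine hf.coord_unique inf_le_right ?_
        have e1 := congrArg (AModX.res M (inf_le_right : W₁ ⊓ V ≤ V)) (hb i)
        have e2 := congrArg (AModX.res M (inf_le_left : W₁ ⊓ V ≤ W₁)) (hc i)
        have e3 := congrArg (AModX.res M (inf_le_right : W₁ ⊓ V ≤ V)) ha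
        simp only [AModX.res_res, AModX.res_smul] at e1 e2 e3
        rw [mul_smul, AModX.res_res, ← e1, ← e3]
        exact e2.trans (congrArg (_ • ·) (AModX.res_res _ _ _))
      have h2 := congrArg ((W₀.ι ≫ U.ι).appLE (W₁ ⊓ V) O (by
        rw [Scheme.Hom.preimage_inf, hj, top_inf_eq, Scheme.Hom.comp_preimage])) h1
      simp only [map_mul, AModX.resR, ← CommRingCat.comp_apply, Scheme.Hom.map_appLE] at h2
      exact h2
    obtain ⟨k, hk⟩ := (Ideal.mem_span_range_iff_exists_fun.1 ((Ideal.eq_top_iff_one _).1 hspan))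
    have hinv : (∑ i, ρ (k i) * ρ₁ (c i)) * ρ a = 1 := by
      rw [← map_one ρ.hom, ← hk, map_sum, Finset.sum_mul]
      refine Finset.sum_congr rfl fun i _ => ?_
      rw [mul_assoc, ← hrel, map_mul]
    rw [← top_le_iff]
    intro y _
    haveI := hV.isLocalization_basicOpen a
    have heq : O = (W₀.ι ≫ U.ι) ⁻¹ᵁ X.basicOpen a := by
      rw [hVa, Scheme.Hom.preimage_inf, hj, top_inf_eq, Scheme.Hom.comp_preimage]
    obtain ⟨z, rfl⟩ : ∃ z, (W₀.ι ≫ U.ι).appLE (X.basicOpen a) O heq.le z = y := by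
      haveI : IsIso ((W₀.ι ≫ U.ι).appLE (X.basicOpen a) O heq.le) :=
        RelSpecX.isIso_appLE_of_le_range _ _ _ (by
          rw [Scheme.Hom.opensRange_comp, Scheme.Opens.opensRange_ι, hW₀, hVa]; exact inf_le_left) heq
      exact (ConcreteCategory.bijective_of_isIso _).2 y
    obtain ⟨⟨r, t, ht⟩, hz⟩ := IsLocalization.surj (Submonoid.powers a) z
    obtain ⟨m, rfl⟩ := ht
    have h3 := congrArg ((W₀.ι ≫ U.ι).appLE (X.basicOpen a) O heq.le) hz
    simp only [map_mul, map_pow, RingHom.algebraMap_toAlgebra, ← CommRingCat.comp_apply,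
      Scheme.Hom.map_appLE] at h3
    have hy : (W₀.ι ≫ U.ι).appLE (X.basicOpen a) O heq.le z =
        ρ r * (∑ i, ρ (k i) * ρ₁ (c i)) ^ m := by
      calc _ = (W₀.ι ≫ U.ι).appLE (X.basicOpen a) O heq.le z *
            ((∑ i, ρ (k i) * ρ₁ (c i)) * ρ a) ^ m := by rw [hinv, one_pow, mul_one]
        _ = _ := by rw [mul_pow, mul_comm ((∑ i, _) ^ m), ← mul_assoc, h3]
    rw [hy]
    exact R.mul_mem (hρR r) (R.pow_mem (R.sum_mem fun i _ => R.mul_mem (hρR _) (hρ₁R i)) m)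
  haveI := hcl
  haveI : IsAffine (𝔸(ULift.{u} (Fin n); S)) := inferInstance
  haveI : UniversallyClosed (pullback.snd h (𝔸(ULift.{u} (Fin n); S) ↘ S)) :=
    MorphismProperty.pullback_snd _ _ inferInstance
  have hGcl : IsClosedMap G := by
    rw [show G = pullback.lift (f := h) (g := 𝔸(ULift.{u} (Fin n); S) ↘ S) W₀.ι G (by simp [G]) ≫
      pullback.snd h (𝔸(ULift.{u} (Fin n); S) ↘ S) from (pullback.lift_snd _ _ _).symm]
    intro T hT
    rw [Scheme.Hom.comp_base, TopCat.coe_comp, Set.image_comp]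
    exact (pullback.snd h (𝔸(ULift.{u} (Fin n); S) ↘ S)).isClosedMap _
      ((pullback.lift (f := h) (g := 𝔸(ULift.{u} (Fin n); S) ↘ S) W₀.ι G
        _).isClosedEmbedding.isClosedMap _ hT)
  obtain ⟨P, hP, hPC⟩ := exists_mem_span_basicOpen hGcl.isClosed_range (Set.range (AffineSpace.coord S)) (by
    rintro _ ⟨w, rfl⟩
    obtain ⟨i, hi⟩ := Opens.mem_iSup.1 (hcov (hW₁U (show (W₀.ι ≫ U.ι) w ∈ W₁ from
      (hj.symm ▸ trivial : w ∈ (W₀.ι ≫ U.ι) ⁻¹ᵁ W₁))))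
    refine ⟨_, ⟨⟨i⟩, rfl⟩, ?_⟩
    show w ∈ G ⁻¹ᵁ (𝔸(ULift.{u} (Fin n); S)).basicOpen (AffineSpace.coord S ⟨i⟩)
    rw [Scheme.preimage_basicOpen_top, hGc, hg]
    exact hi)
  have hunit : IsUnit (G.appTop P) := by
    refine W₀.toScheme.toRingedSpace.isUnit_of_isUnit_germ ⊤ _ fun w _ =>
      (W₀.toScheme.mem_basicOpen_top (G.appTop P) w).1 ?_
    rw [← Scheme.preimage_basicOpen_top]
    exact hPC ⟨w, rfl⟩
  have hspan : Ideal.span (Set.range g) = ⊤ := by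
    refine Ideal.eq_top_of_isUnit_mem _ ?_ hunit
    have := Ideal.mem_map_of_mem G.appTop.hom hP
    rw [Ideal.map_span] at this
    refine Ideal.span_mono ?_ this
    rintro _ ⟨_, ⟨i, rfl⟩, rfl⟩
    exact ⟨i.down, (hGc i).symm⟩
  have : IsAffine (W₀ : Scheme.{u}) := by
    refine isAffine_of_isAffineOpen_basicOpen _ hspan ?_
    rintro _ ⟨i, rfl⟩
    rw [hg, ← (W₀.ι ≫ U.ι).isAffineOpen_iff_of_isOpenImmersion, Scheme.Hom.image_preimage_eq_opensRange_inf,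
      Scheme.Hom.opensRange_comp, Scheme.Opens.opensRange_ι, hW₀, inf_comm]
    exact isAffineOpen_inf_locus hM σ (haff i)
  rw [← hW₀]
  exact IsAffineOpen.image_of_isOpenImmersion this U.ι

end Groth.Agent.Approx.UCAffine

namespace Groth.Agent.Approx.UCAffine

open Groth.Agent
open Groth.Agent.H23.PicMul

theorem locus_cast {X : Scheme.{u}} {L : X.Modules} {U : X.Opens} {a b : ℕ} (h : a = b)
    (x : Γ(CohB1.tensorPow L a, U)) :
    AmpleX.locus (h ▸ x : Γ(CohB1.tensorPow L b, U)) = AmpleX.locus x := by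
  subst h; rfl

theorem isAffineHom_genLocus {X S : Scheme.{u}} (f : X ⟶ S) [UniversallyClosed f]
    (L : X.Modules) (hL : RelAmple.IsRelAmple f L) (s : Coh.structureModule X ⟶ L) :
    IsAffineHom ((CohB1.genLocus L s).ι ≫ f) := by
  have hinv := AmpleX.isInvertible_of_isRelAmple hL
  refine ⟨fun V hV => ?_⟩
  rw [← (CohB1.genLocus L s).ι.isAffineOpen_iff_of_isOpenImmersion, Scheme.Hom.comp_preimage,
    Scheme.Hom.image_preimage_eq_opensRange_inf, Scheme.Opens.opensRange_ι, AmpleX.genLocus_eq_locus]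
  let U : X.Opens := (f ⁻¹ᵁ V).ι ''ᵁ ⊤
  have hU : U = f ⁻¹ᵁ V := by
    simp only [U, Scheme.Hom.image_top_eq_opensRange, Scheme.Opens.opensRange_ι]
  obtain ⟨hc, hx⟩ := (AmpleX.isAmple_restrict_iff (f ⁻¹ᵁ V).ι hinv).1 (hL.2 ⟨V, hV⟩)
  choose m hm a hmem haff using hx
  obtain ⟨F, hF⟩ := isCompact_univ.elim_finite_subcover
    (fun z : (f ⁻¹ᵁ V).toScheme =>
      (((f ⁻¹ᵁ V).ι ⁻¹ᵁ AmpleX.locus (a z) : (f ⁻¹ᵁ V).toScheme.Opens) : Set (f ⁻¹ᵁ V).toScheme))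
    (fun z => ((f ⁻¹ᵁ V).ι ⁻¹ᵁ AmpleX.locus (a z)).2) fun z _ => Set.mem_iUnion.2 ⟨z, hmem z⟩
  let N := ∏ z ∈ F, m z
  have hN : 0 < N := Finset.prod_pos fun z _ => hm z
  have ht : ∀ z : F, ∃ t : Γ(CohB1.tensorPow L N, U), AmpleX.locus t = AmpleX.locus (a z.1) := fun z => by
    obtain ⟨k, hk⟩ : m z.1 ∣ N := Finset.dvd_prod_of_mem m z.2
    have hk0 : 0 < k := Nat.pos_of_ne_zero fun h => by rw [h, mul_zero] at hk; omega
    rw [hk]
    exact AmpleX.exists_pow_section hinv (a z.1) hk0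
  choose t ht using ht
  obtain ⟨σ₁, hσ₁⟩ := AmpleX.exists_locus_cl (N := CohB1.tensorPow L 1)
    (show PicF.cl L = _ by rw [H23.PicMul.cl_tensorPow, pow_one]) (AModX.res L (le_top : U ≤ ⊤) (InvX.one s))
  obtain ⟨σ, hσ⟩ := AmpleX.exists_pow_section hinv σ₁ hN
  rw [hσ₁, AmpleX.locus_res] at hσ
  let e : F ≃ Fin (Fintype.card F) := Fintype.equivFin F
  haveI : IsAffine (V : Scheme.{u}) := hV
  haveI : UniversallyClosed (f ∣_ V) := IsZariskiLocalAtTarget.restrict ‹UniversallyClosed f› V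
  haveI : UniversallyClosed ((X.isoOfEq hU).hom ≫ (f ∣_ V)) := inferInstance
  have key := isAffineOpen_locus ((X.isoOfEq hU).hom ≫ (f ∣_ V))
    (InvX.isInvertible_tensorPow hinv (1 * N)) σ
    (fun i => (Nat.one_mul N).symm ▸ t (e.symm i)) ?_ ?_
  · rw [hσ, hU] at key
    exact key
  · intro y hy
    obtain ⟨z, -, rfl⟩ := hy
    obtain ⟨w, hw, hz⟩ := Set.mem_iUnion₂.1 (hF (Set.mem_univ z))
    refine Opens.mem_iSup.2 ⟨e ⟨w, hw⟩, ?_⟩
    rw [locus_cast, Equiv.symm_apply_apply, ht]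
    exact hz
  · intro i
    rw [locus_cast, ht]
    exact haff _

end Groth.Agent.Approx.UCAffine
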