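import Mathlib
import Groth.Agent.Approx.NearClosed
import Groth.Agent.H23.RatExtend
import Groth.Agent.H23.FinCondSch
import Groth.Agent.UnibEtale.IntNhd
import Groth.Agent.GrpdLib.LocQuot

/-!
# Extending morphisms to proper schemes over points with valuation local rings
-/

set_option backward.isDefEq.respectTransparency false
set_option backward.isDefEq.respectTransparency.types false

universe u

open CategoryTheory CategoryTheory.Limits AlgebraicGeometry TopologicalSpace IsLocalRing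

namespace Groth.Agent.Approx.ValExt

variable {X Y S : Scheme.{u}}

theorem agree_of_eq {U W : X.Opens} (a : (U : Scheme.{u}) ⟶ Y) (b : (W : Scheme.{u}) ⟶ Y)
    (h : X.homOfLE (inf_le_left : U ⊓ W ≤ U) ≫ a = X.homOfLE (inf_le_right : U ⊓ W ≤ W) ≫ b)
    {T : Scheme.{u}} (α : T ⟶ U) (β : T ⟶ W) (hαβ : α ≫ U.ι = β ≫ W.ι) : α ≫ a = β ≫ b := by
  let l : T ⟶ (U ⊓ W : X.Opens) := IsOpenImmersion.lift (U ⊓ W).ι (α ≫ U.ι) (by
    rw [Scheme.Opens.range_ι]
    rintro _ ⟨t, rfl⟩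
    refine ⟨(α t).2, ?_⟩
    rw [hαβ]
    exact (β t).2)
  have h1 : l ≫ X.homOfLE (inf_le_left : U ⊓ W ≤ U) = α := by
    rw [← cancel_mono U.ι, Category.assoc, Scheme.homOfLE_ι, IsOpenImmersion.lift_fac]
  have h2 : l ≫ X.homOfLE (inf_le_right : U ⊓ W ≤ W) = β := by
    rw [← cancel_mono W.ι, Category.assoc, Scheme.homOfLE_ι, IsOpenImmersion.lift_fac, hαβ]
  rw [← h1, ← h2, Category.assoc, Category.assoc, h]

theorem exists_extension_integral {P : Scheme.{u}} [IsIntegral P] (p : P ⟶ S) (q : Y ⟶ S) [IsProper q]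
    (x : P) (U : P.Opens) (hU : (U : Set P).Nonempty)
    (f : (U : Scheme.{u}) ⟶ Y) (hf : f ≫ q = U.ι ≫ p) (hv : ValuationRing (P.presheaf.stalk x)) :
    ∃ (W : P.Opens) (_ : x ∈ W) (b : (W : Scheme.{u}) ⟶ Y), b ≫ q = W.ι ≫ p ∧
      P.homOfLE (inf_le_left : U ⊓ W ≤ U) ≫ f = P.homOfLE (inf_le_right : U ⊓ W ≤ W) ≫ b := by
  have hg : genericPoint P ∈ U := H23.RatExtend.genericPoint_mem U hU.choose_spec
  obtain ⟨φ, hφ, hsp⟩ := H23.RatExtend.exists_lift p q (U.fromSpecStalkOfMem (genericPoint P) hg ≫ f)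
    (by rw [Category.assoc, hf, Scheme.Opens.fromSpecStalkOfMem_ι_assoc]) x hv
  obtain ⟨W, hxW, b, hb, hbq⟩ := spread_out_of_isGermInjective' p q φ hφ
  have hgW : genericPoint P ∈ W := H23.RatExtend.genericPoint_mem W hxW
  refine ⟨W, hxW, b, hbq, ?_⟩
  haveI : IsReduced ((U ⊓ W : P.Opens) : Scheme.{u}) := isReduced_of_isOpenImmersion (U ⊓ W).ι
  haveI := H23.RatExtend.isDominant_fromSpecStalkOfMem (U ⊓ W) (show genericPoint P ∈ U ⊓ W from ⟨hg, hgW⟩)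
  refine ext_of_isDominant_of_isSeparated q ?_
    ((U ⊓ W).fromSpecStalkOfMem (genericPoint P) ⟨hg, hgW⟩) ?_
  · rw [Category.assoc, Category.assoc, hf, hbq, Scheme.homOfLE_ι_assoc, Scheme.homOfLE_ι_assoc]
  · rw [← Category.assoc, ← Category.assoc, H23.SpreadFP.fromSpecStalkOfMem_homOfLE,
      H23.SpreadFP.fromSpecStalkOfMem_homOfLE, ← hsp,
      ← NearClosed.specMap_fromSpecStalkOfMem (genericPoint_specializes x) hxW, Category.assoc, ← hb]

/-- A reduced scheme with finitely many components is integral near a point with domain local ring. -/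
theorem exists_integral_nhd [IsReduced X] (hcomp : (irreducibleComponents ↥X).Finite) (x : X)
    [IsDomain (X.presheaf.stalk x)] : ∃ W₀ : X.Opens, x ∈ W₀ ∧ IsIntegral W₀.toScheme := by
  have hu : (nilradical (X.presheaf.stalk x)).IsPrime := by
    rw [nilradical_eq_zero]; exact Ideal.isPrime_bot
  let C := irreducibleComponent x
  let W : Set X := (⋃ Z ∈ irreducibleComponents ↥X \ {C}, Z)ᶜ
  have hW : IsOpen W := ((hcomp.sdiff).isClosed_biUnion fun Z hZ =>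
    isClosed_of_mem_irreducibleComponents _ hZ.1).isOpen_compl
  have hxW : x ∈ W := fun h => by
    obtain ⟨Z, hZ, hxZ⟩ := Set.mem_iUnion₂.1 h
    exact hZ.2 (H23.FinCondSch.unique_component hu hZ.1
      (irreducibleComponent_mem_irreducibleComponents x) hxZ mem_irreducibleComponent)
  have hWC : W ⊆ C := by
    intro w hw
    by_contra hwC
    refine hw (Set.mem_biUnion ⟨irreducibleComponent_mem_irreducibleComponents w, fun h => hwC ?_⟩
      mem_irreducibleComponent)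
    rw [show C = irreducibleComponent w from h.symm]
    exact mem_irreducibleComponent
  let W₀ : X.Opens := ⟨W, hW⟩
  haveI : IrreducibleSpace W₀.toScheme :=
    haveI : PreirreducibleSpace W₀.toScheme :=
      Subtype.preirreducibleSpace ((irreducibleComponent_mem_irreducibleComponents x).1.isPreirreducible.open_subset hW hWC)
    { toNonempty := ⟨⟨x, hxW⟩⟩ }
  haveI : IsReduced W₀.toScheme := isReduced_of_isOpenImmersion W₀.ι
  exact ⟨W₀, hxW, isIntegral_of_irreducibleSpace_of_isReduced _⟩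

theorem exists_glue₂ (U N : X.Opens) (f : (U : Scheme.{u}) ⟶ Y) (g : (N : Scheme.{u}) ⟶ Y)
    (hfg : ∀ {T : Scheme.{u}} (a : T ⟶ U) (b : T ⟶ N), a ≫ U.ι = b ≫ N.ι → a ≫ f = b ≫ g) :
    ∃ g' : ((U ⊔ N : X.Opens) : Scheme.{u}) ⟶ Y,
      X.homOfLE (le_sup_left : U ≤ U ⊔ N) ≫ g' = f ∧ X.homOfLE (le_sup_right : N ≤ U ⊔ N) ≫ g' = g := by
  let V : ULift.{u} Bool → ((U ⊔ N : X.Opens) : Scheme.{u}).Opens :=
    fun i => (U ⊔ N).ι ⁻¹ᵁ (bif i.down then U else N)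
  have hV : ⨆ i, V i = ⊤ := top_le_iff.1 fun z _ => by
    rcases (Opens.mem_sup.1 z.2) with hz | hz
    · exact Opens.mem_iSup.2 ⟨⟨true⟩, hz⟩
    · exact Opens.mem_iSup.2 ⟨⟨false⟩, hz⟩
  obtain ⟨G, hG⟩ := GrpdLib.exists_glue V hV (fun i => match i with
      | ⟨true⟩ => ((U ⊔ N).ι ∣_ U) ≫ f
      | ⟨false⟩ => ((U ⊔ N).ι ∣_ N) ≫ g)
    (fun i j => by
      rcases i with ⟨_ | _⟩ <;> rcases j with ⟨_ | _⟩
      · rfl
      · refine (Category.assoc _ _ _).symm.trans ((hfg _ _ ?_).symm.trans (Category.assoc _ _ _))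
        rw [Category.assoc, Category.assoc, morphismRestrict_ι, morphismRestrict_ι]
        exact ((Scheme.homOfLE_ι_assoc _ _ _).trans (Scheme.homOfLE_ι_assoc _ _ _).symm)
      · refine (Category.assoc _ _ _).symm.trans ((hfg _ _ ?_).trans (Category.assoc _ _ _))
        rw [Category.assoc, Category.assoc, morphismRestrict_ι, morphismRestrict_ι]
        exact ((Scheme.homOfLE_ι_assoc _ _ _).trans (Scheme.homOfLE_ι_assoc _ _ _).symm)
      · rfl)
  refine ⟨G, ?_, ?_⟩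
  · obtain ⟨l, hl⟩ : ∃ l, l ≫ (V ⟨true⟩).ι = X.homOfLE (le_sup_left : U ≤ U ⊔ N) :=
      ⟨IsOpenImmersion.lift (V ⟨true⟩).ι _ (by
        rw [Scheme.Opens.range_ι]; rintro _ ⟨z, rfl⟩; show (U ⊔ N).ι _ ∈ U
        rw [← Scheme.Hom.comp_apply, Scheme.homOfLE_ι]; exact z.2), IsOpenImmersion.lift_fac _ _ _⟩
    have h2 : l ≫ ((U ⊔ N).ι ∣_ U) = 𝟙 _ := by
      rw [← cancel_mono U.ι, Category.assoc, morphismRestrict_ι]
      exact (reassoc_of% hl) (U ⊔ N).ι |>.trans ((Scheme.homOfLE_ι _ _).trans (Category.id_comp _).symm)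
    rw [← hl, Category.assoc, hG ⟨true⟩]
    exact (reassoc_of% h2) f
  · obtain ⟨l, hl⟩ : ∃ l, l ≫ (V ⟨false⟩).ι = X.homOfLE (le_sup_right : N ≤ U ⊔ N) :=
      ⟨IsOpenImmersion.lift (V ⟨false⟩).ι _ (by
        rw [Scheme.Opens.range_ι]; rintro _ ⟨z, rfl⟩; show (U ⊔ N).ι _ ∈ N
        rw [← Scheme.Hom.comp_apply, Scheme.homOfLE_ι]; exact z.2), IsOpenImmersion.lift_fac _ _ _⟩
    have h2 : l ≫ ((U ⊔ N).ι ∣_ N) = 𝟙 _ := by
      rw [← cancel_mono N.ι, Category.assoc, morphismRestrict_ι]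
      exact (reassoc_of% hl) (U ⊔ N).ι |>.trans ((Scheme.homOfLE_ι _ _).trans (Category.id_comp _).symm)
    rw [← hl, Category.assoc, hG ⟨false⟩]
    exact (reassoc_of% h2) g

theorem exists_extension_sup (p : X ⟶ S) (q : Y ⟶ S) [IsProper q] (x : X) (U : X.Opens)
    (f : (U : Scheme.{u}) ⟶ Y) (hf : f ≫ q = U.ι ≫ p) (hx : x ∈ closure (U : Set X))
    (P : X.Opens) (hxP : x ∈ P) [IsIntegral (P : Scheme.{u})]
    (hdom : IsDomain (X.presheaf.stalk x)) (hval : @ValuationRing (X.presheaf.stalk x) _ hdom) :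
    ∃ (U' : X.Opens) (hUU' : U ≤ U'), x ∈ U' ∧
      ∃ f' : (U' : Scheme.{u}) ⟶ Y, f' ≫ q = U'.ι ≫ p ∧ X.homOfLE hUU' ≫ f' = f := by
  obtain ⟨y, hyP, hyU⟩ := mem_closure_iff.1 hx _ P.2 hxP
  haveI : IsDomain ((P : Scheme.{u}).presheaf.stalk ⟨x, hxP⟩) := inferInstance
  haveI : IsDomain (X.presheaf.stalk (P.ι ⟨x, hxP⟩)) := hdom
  haveI : ValuationRing (X.presheaf.stalk (P.ι ⟨x, hxP⟩)) := hval
  have hv : ValuationRing ((P : Scheme.{u}).presheaf.stalk ⟨x, hxP⟩) :=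
    H23.RatExtend.valuationRing_of_ringEquiv (asIso (P.ι.stalkMap ⟨x, hxP⟩)).commRingCatIsoToRingEquiv
  obtain ⟨W, hxW, b, hbq, hb⟩ := exists_extension_integral (P.ι ≫ p) q (⟨x, hxP⟩ : P.toScheme)
    (P.ι ⁻¹ᵁ U) ⟨⟨y, hyP⟩, hyU⟩ ((P.ι ∣_ U) ≫ f)
    (by rw [Category.assoc, hf, morphismRestrict_ι_assoc]) hv
  let N : X.Opens := P.ι ''ᵁ W
  obtain ⟨g', hg1, hg2⟩ := exists_glue₂ U N f ((P.ι.isoImage W).inv ≫ b) (by
    intro T a c hac
    have hc : (c ≫ (P.ι.isoImage W).inv) ≫ W.ι ≫ P.ι = a ≫ U.ι := by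
      rw [hac, Category.assoc, Scheme.Hom.isoImage_inv_ι]
    obtain ⟨a', ha'⟩ : ∃ a', a' ≫ (P.ι ⁻¹ᵁ U).ι = (c ≫ (P.ι.isoImage W).inv) ≫ W.ι :=
      ⟨IsOpenImmersion.lift (P.ι ⁻¹ᵁ U).ι _ (by
        rw [Scheme.Opens.range_ι]
        rintro _ ⟨t, rfl⟩
        show P.ι _ ∈ U
        rw [← Scheme.Hom.comp_apply, Category.assoc, hc]
        exact (a t).2), IsOpenImmersion.lift_fac _ _ _⟩
    have h1 : a' ≫ (P.ι ∣_ U) = a := by
      rw [← cancel_mono U.ι, Category.assoc, morphismRestrict_ι, reassoc_of% ha']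
      exact hc
    rw [← h1, Category.assoc, agree_of_eq _ _ hb a' (c ≫ (P.ι.isoImage W).inv) ha', Category.assoc])
  refine ⟨U ⊔ N, le_sup_left, Opens.mem_sup.2 (Or.inr ⟨_, hxW, rfl⟩), g', ?_, hg1⟩
  refine NearClosed.eq_of_locally _ _ fun z hz => ?_
  rcases Opens.mem_sup.1 hz with h | h
  · exact ⟨U, le_sup_left, h, by rw [reassoc_of% hg1, hf, Scheme.homOfLE_ι_assoc]⟩
  · refine ⟨N, le_sup_right, h, ?_⟩
    rw [reassoc_of% hg2, hbq, Scheme.homOfLE_ι_assoc, Scheme.Hom.isoImage_inv_ι_assoc]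

end Groth.Agent.Approx.ValExt
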